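import Cfsg.Agent.Mrg.Omega.OM.SwapL.PlugZ
import Cfsg.Agent.Mrg.Omega.NO3S.CaseLW.LamFix
import Cfsg.Agent.Mrg.Omega.OM.Lev.Low.LowMain
import Cfsg.Agent.Mrg.Omega.OM.Lev.Low.YNat

section


/-!
# THEOREM LAMBDA (#24622): weird parabolics over `T ≥ B` with an offender on `⟨V^Y⟩` outside `O₂(Y)`

`FrL B Q V X₀ Z_J L W Z C A 2`; `B ≤ T`, `GE T Y U AA` (`AA` = best offenders of `T` on `U`), `V ≤ U`, all members
of `AA` lie in `B`.

* `YD T Y U AA N c` : the blocks of `Y` on `X = C_U(⟨AA⟩)` (`CaseLW/YBX.lean`);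
* `fixZ` : (4) (`CaseLW/LamFix.lean`): `Z i` is centralised by all conjugates of the members of `AA`, if `W i ≰ Y0`;
* `Z_cp` : `Z i ≤ ∏ c l` if `W i ≤ Y0` and some member of `AA` moves `W i`;
* `Z_or` : `Z i ≤ ∏ c l` or `Z i ≤ ⋂ N l` if all members of `AA` centralise `W i`;
* `core` : if `z ∈ Z_J` of full support is centralised by `Y`, then `Z_J ≤ N l` for all `l`.
-/

set_option autoImplicit false
set_option linter.unusedSectionVars false

namespace Cfsg.Agent.Omega.NO3S.CaseLW.Lam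

open Subgroup Cfsg Cfsg.Agent.ZN Cfsg.Agent.ZN.ChoiceBase Cfsg.Agent.ZN.ChoiceSit
open Cfsg.Agent.Omega.OM.GLev
open Cfsg.Agent.Omega.OM.Lev.Uni (FrL)
open Cfsg.Agent.Omega.OM.Lev.Low
open Cfsg.Agent.Omega.SQ1.Bau (elem_comm elem_sq mem_sup_comm)

universe u

variable {G : Type u} [Group G] {ι Λ : Type*}

/-- The blocks of `Y` on `X = C_U(⟨AA⟩)`. -/
structure YD (T Y U : Subgroup G) (AA : Set (Subgroup G)) (N c : Λ → Subgroup G) : Prop where
  yb : YB T (U ⊓ centralizer ((sSup AA : Subgroup G) : Set G)) N c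
  mv : ∃ l, ¬ zc T ≤ N l
  cen : ∀ x ∈ U ⊓ centralizer ((sSup AA : Subgroup G) : Set G),
    (∀ A ∈ AA, ∀ y ∈ Y, ∀ a ∈ A, y * a * y⁻¹ * x = x * (y * a * y⁻¹)) → ∀ l, x ∈ N l
  line : ∀ A ∈ AA, ∀ v ∈ zl T Y, ∀ z : G, (∀ a ∈ A, a * v * a⁻¹ * v⁻¹ = 1 ∨ a * v * a⁻¹ * v⁻¹ = z) →
    ∀ a ∈ A, a * v * a⁻¹ * v⁻¹ ∈ YB.Cp c Set.univ

theorem mem_X [Finite G] {U : Subgroup G} {AA : Set (Subgroup G)} {x : G} :
    x ∈ U ⊓ centralizer ((sSup AA : Subgroup G) : Set G) ↔ x ∈ U ∧ ∀ A ∈ AA, ∀ a ∈ A, a * x = x * a := by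
  rw [mem_inf, NO3S.OneLine.mem_cent_sSup]

variable {B Q V X₀ ZJ : Subgroup G} {L W Z C A₀ : ι → Subgroup G} {T Y U : Subgroup G} {AA : Set (Subgroup G)}
  {N c : Λ → Subgroup G}

/-- `[W i, b] ≤ Z i` -/
theorem com_W (h : FrL B Q V X₀ ZJ L W Z C A₀ 2) {i : ι} {b : G} (hb : b ∈ B) {w : G} (hw : w ∈ W i) :
    b * w * b⁻¹ * w⁻¹ ∈ Z i := (h.blk i).com b hb w hw

/-- the generator of `Z i` -/
theorem exists_z [Finite G] (h : FrL B Q V X₀ ZJ L W Z C A₀ 2) (i : ι) : ∃ z ∈ Z i, z ≠ 1 ∧ ∀ x ∈ Z i, x = 1 ∨ x = z := by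
  obtain ⟨z, hz, hz1⟩ : ∃ z ∈ Z i, z ≠ 1 := by
    by_contra hcon
    push Not at hcon
    have h1 : Z i = ⊥ := (Subgroup.eq_bot_iff_forall _).2 hcon
    have hcard := h.cardZ i
    rw [h1, Subgroup.card_bot] at hcard
    omega
  refine ⟨z, hz, hz1, fun x hx => ?_⟩
  by_cases hx1 : x = 1
  · exact Or.inl hx1
  · exact Or.inr (eq_of_two (h.cardZ i) hx hz hx1 hz1)

section fin

variable [Finite G] (h : FrL B Q V X₀ ZJ L W Z C A₀ 2) (ge : GE T Y U AA) (hBT : B ≤ T) (hVU : V ≤ U)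
  (hAB : ∀ A ∈ AA, A ≤ B)
include h ge hBT hVU hAB

/-- **(b)** -/
theorem Z_cp (yd : YD T Y U AA N c) {i : ι} (hR : W i ≤ Y0 Y U AA)
    {A : Subgroup G} (hA : A ∈ AA) (hne : ¬ ∀ a ∈ A, ∀ w ∈ W i, a * w = w * a) : Z i ≤ YB.Cp c Set.univ := by
  push Not at hne
  obtain ⟨a, ha, w, hw, hne⟩ := hne
  obtain ⟨v, hv, e⟩ := ge.Y0_comm hA (hR hw)
  obtain ⟨z, hz, hz1, hall⟩ := exists_z h i
  have key : ∀ a ∈ A, a * v * a⁻¹ * v⁻¹ = 1 ∨ a * v * a⁻¹ * v⁻¹ = z := fun a ha => by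
    rw [← e a ha]
    exact hall _ (com_W h (hAB A hA ha) hw)
  have h1 := yd.line A hA v hv z key a ha
  rw [← e a ha] at h1
  have h2 : a * w * a⁻¹ * w⁻¹ = z := by
    rcases hall _ (com_W h (hAB A hA ha) hw) with h3 | h3
    · exfalso
      apply hne
      exact mul_inv_eq_iff_eq_mul.1 (mul_inv_eq_one.1 h3)
    · exact h3
  rw [h2] at h1
  intro x hx
  rcases hall x hx with rfl | rfl
  · exact one_mem _
  · exact h1

/-- **(c)** -/
theorem Z_or [Finite Λ] (yd : YD T Y U AA N c)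
    (hV : YB.QV T (U ⊓ centralizer ((sSup AA : Subgroup G) : Set G)) Q
      (V ⊓ (U ⊓ centralizer ((sSup AA : Subgroup G) : Set G)))) {i : ι}
    (hW : ∀ A ∈ AA, ∀ a ∈ A, ∀ w ∈ W i, a * w = w * a) :
    Z i ≤ YB.Cp c Set.univ ∨ Z i ≤ YB.Np (U ⊓ centralizer ((sSup AA : Subgroup G) : Set G)) N Set.univ := by
  have hY := yd.yb
  obtain ⟨b, hb, hne⟩ : ∃ b ∈ A₀ i, ¬ ∀ v ∈ W i, b * v = v * b := by
    by_contra hcon
    push Not at hcon
    exact h.Ane i hcon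
  have r := rt h hBT hb hne
  obtain ⟨z, hz, hz1, hall⟩ := exists_z h i
  obtain ⟨v, hvW, e⟩ := exists_comm h (h.AB i hb) hne hz
  have hv : v ∈ V ⊓ (U ⊓ centralizer ((sSup AA : Subgroup G) : Set G)) :=
    mem_inf.2 ⟨h.WV i hvW, mem_X.2 ⟨hVU (h.WV i hvW), fun A hA a ha => hW A hA a ha v hvW⟩⟩
  obtain ⟨a, haV, d, hdV, ha, hd, rfl⟩ := hY.restr hV (p := Set.univ) (fun _ _ _ _ _ => by simp) hv
  have hac : a * (b * a * b⁻¹) ∈ YB.Cp c Set.univ := mul_mem ha (hY.Cp_conj r.bT (fun _ _ _ _ => Set.mem_univ _) ha)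
  have hdc : d * (b * d * b⁻¹) ∈
      YB.Np (U ⊓ centralizer ((sSup AA : Subgroup G) : Set G)) N Set.univ :=
    mul_mem hd (hY.Np_conj r.bT (fun _ _ _ _ => Set.mem_univ _) hd)
  have hra := YB.QV.memV hY hV r.bT haV
  have e2 : a * (b * a * b⁻¹) * (d * (b * d * b⁻¹)) = z := by
    rw [← e]
    calc a * (b * a * b⁻¹) * (d * (b * d * b⁻¹)) = a * ((b * a * b⁻¹) * d) * (b * d * b⁻¹) := by group
      _ = a * d * (b * (a * d) * b⁻¹) := by rw [hY.cm (hV.VX hra) (hV.VX hdV)]; group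
  by_cases h1 : a * (b * a * b⁻¹) = 1
  · right
    rw [h1, one_mul] at e2
    intro x hx
    rcases hall x hx with rfl | rfl
    · exact one_mem _
    · rw [← e2]
      exact hdc
  · left
    intro x hx
    rcases hall x hx with rfl | rfl
    · exact one_mem _
    · rw [eq_of_two (h.cardZ i) hz (r.com a (mem_inf.1 haV).1) hz1 h1]
      exact hac

/-- **(4)** -/
theorem fixZ {i : ι} (hi : ¬ W i ≤ Y0 Y U AA) {A : Subgroup G} (hA : A ∈ AA) {y a z : G} (hy : y ∈ Y) (ha : a ∈ A)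
    (hz : z ∈ Z i) : y * a * y⁻¹ * z = z * (y * a * y⁻¹) := by
  choose z₀ hz₀ hz₁ hall using fun i => exists_z h i
  have h1 := LamFix.fix_all (W := W) (z := z₀) ge (fun j => (h.WV j).trans hVU)
    (fun A hA _ r hr j w hw => hall j _ (com_W h (hAB A hA hr) hw)) hi hA ha hy
  rcases hall i z hz with rfl | rfl
  · simp
  · exact h1

/-- **The end of THEOREM LAMBDA** from (4). -/
theorem core [Finite ι] [Finite Λ] (yd : YD T Y U AA N c)
    (hV : YB.QV T (U ⊓ centralizer ((sSup AA : Subgroup G) : Set G)) Q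
      (V ⊓ (U ⊓ centralizer ((sSup AA : Subgroup G) : Set G))))
    {z : G} (hz : z ∈ ZJ) (hzC : ∀ i, z ∉ C i) (hzY : ∀ y ∈ Y, y * z = z * y) (l : Λ) : ZJ ≤ N l := by
  classical
  have hY := yd.yb
  have hJX : ∀ x ∈ ZJ, x ∈ U ⊓ centralizer ((sSup AA : Subgroup G) : Set G) := fun x hx =>
    mem_X.2 ⟨hVU (h.ZJV hx), fun A hA a ha => ((h.mem_ZJ x).1 hx).2 a (hAB A hA ha)⟩
  have hor : ∀ i, Z i ≤ YB.Cp c Set.univ ∨
      Z i ≤ YB.Np (U ⊓ centralizer ((sSup AA : Subgroup G) : Set G)) N Set.univ := by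
    intro i
    by_cases hR : W i ≤ Y0 Y U AA
    · by_cases hW : ∀ A ∈ AA, ∀ a ∈ A, ∀ w ∈ W i, a * w = w * a
      · exact Z_or h ge hBT hVU hAB yd hV hW
      · push Not at hW
        obtain ⟨A, hA, a, ha, w, hw, hne⟩ := hW
        exact Or.inl (Z_cp h ge hBT hVU hAB yd hR hA fun h1 => hne (h1 a ha w hw))
    · refine Or.inr fun x hx => YB.mem_Np.2 ⟨hJX x (h.Z_le i hx), fun m _ => ?_⟩
      exact yd.cen x (hJX x (h.Z_le i hx)) (fun A hA y hy a ha =>
        fixZ h ge hBT hVU hAB hR hA hy ha hx) m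
  have hzN : ∀ l, z ∈ N l := yd.cen z (hJX z hz) fun A hA y hy a ha => hzY _
    (mul_mem (mul_mem hy (ge.TH (ge.fam.le A hA ha))) (inv_mem hy))
  have hall : ∀ i, Z i ≤ YB.Np (U ⊓ centralizer ((sSup AA : Subgroup G) : Set G)) N Set.univ := by
    by_contra hcon
    push Not at hcon
    obtain ⟨i₀, hi₀⟩ := hcon
    set p : Set ι := {i | ¬ Z i ≤ YB.Np (U ⊓ centralizer ((sSup AA : Subgroup G) : Set G)) N Set.univ} with hp
    have h1 : ZJ ≤ (⨆ i ∈ p, Z i) ⊔ ⨆ i ∈ pᶜ, Z i := by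
      refine zj_le h fun i => ?_
      by_cases hi : i ∈ p
      · exact le_sup_of_le_left (le_iSup₂_of_le i hi le_rfl)
      · exact le_sup_of_le_right (le_iSup₂_of_le i hi le_rfl)
    have hC : (⨆ i ∈ p, Z i) ≤ YB.Cp c Set.univ := iSup₂_le fun i hi => (hor i).resolve_right hi
    have hN : (⨆ i ∈ pᶜ, Z i) ≤
        YB.Np (U ⊓ centralizer ((sSup AA : Subgroup G) : Set G)) N Set.univ := iSup₂_le fun i hi => not_not.1 hi
    obtain ⟨a, ha, d, hd, e⟩ := hY.mem_sup_cm (hC.trans (hY.Cp_le _)) (hN.trans (YB.Np_le _)) (h1 hz)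
    have h2 : a = 1 := by
      refine hY.eq_one (hC ha) fun m _ => ?_
      have h3 : a = z * d⁻¹ := by rw [e]; group
      rw [h3]
      exact mul_mem (hzN m) (inv_mem ((YB.mem_Np.1 (hN hd)).2 m (Set.mem_univ m)))
    rw [h2, one_mul] at e
    apply hzC i₀
    rw [e]
    refine (iSup₂_le fun i hi => ?_ : (⨆ i ∈ pᶜ, Z i) ≤ C i₀) hd
    exact ((h.blk i).ZV).trans (h.WjC i₀ i fun e => hi (e ▸ hi₀))
  have h2 := zj_le h hall
  exact fun x hx => (YB.mem_Np.1 (h2 hx)).2 l (Set.mem_univ l)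

end fin

end Cfsg.Agent.Omega.NO3S.CaseLW.Lam

end

section


/-!
# `YB` on `C_X(⟨AA⟩)` for a general pair `(T, H)` without a level (helper417 #24622, (5); helper373 #24987, (5') (a), (b))

`GE T H X AA` : `T` a Sylow 2-subgroup of the minimal parabolic `H`, `AA` a family of best offenders of `T` on the
elementary abelian normal subgroup `X` of `H`. No weakly closed group `B` over `Z_J` is given (no `BZ`).

* `Xc X AA = C_X(⟨AA⟩)`; `T_norm`;
* `Nat.exists_ybx`, `Sym.exists_ybx`, `exists_ybx` : **`YB T (Xc X AA) N c`**, `Ω₁Z(T) ≰ N l` for some `l`; an element of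
  `Xc X AA` centralised by all `H`-conjugates of `⟨AA⟩` lies in all `N l`; and either `[V, ⟨AA⟩] ≤ ∏ c l`
  (`V = ⟨Ω₁Z(T)^H⟩`; natural modules over `F₂`, symmetric type), or a member `A'` of the family with `A' ≤ A ∈ AA`
  and `|A : A'| ≤ 2` satisfies `A ≤ A' (A ∩ O₂(H))` (natural modules over bigger fields).
-/

set_option autoImplicit false
set_option linter.unusedSectionVars false

namespace Cfsg.Agent.Omega.NO3S.CaseLW.YBX

open Subgroup Cfsg Cfsg.Agent.ZN Cfsg.Agent.ZN.ChoiceBase Cfsg.Agent.ZN.ChoiceSit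
open Cfsg.Agent.Omega.NatPair (ap ap_zero' ap_one' ap_one ap_mul ext2 ap_inv_ap ap_inj)
open Cfsg.Agent.Lib.SL2Mat
open Cfsg.Agent.Omega.SQ1.FFOne (MinH)
open Cfsg.Agent.Omega.NO3S.OneLine (NatC natC_of zc_elem)
open Cfsg.Agent.Omega.NO3S.OneLine.NatC (acts_mul acts_inv acts_one acts_unique)
open Cfsg.Agent.Omega.OM.Lev.Nat (Wn mem_Wn Xn mem_Xn ap_z exists_up)
open Cfsg.Agent.Omega.OM.GNat (sl2_all exists_root cent_N)
open Cfsg.Agent.Omega.OM.GLev
open Cfsg.Agent.Omega.OM.Lev.Low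
open Cfsg.Agent.Omega.FFThm (NatK NatKM SymKM ActsSL OffM)
open Cfsg.Agent.Omega.SQ1.Bau (elem_comm elem_sq)
open Cfsg.Agent.Omega.FrameFF (cv)

universe u

variable {G : Type u} [Group G] [Finite G]

/-- `C_X(⟨AA⟩)` -/
def Xc (X : Subgroup G) (AA : Set (Subgroup G)) : Subgroup G := X ⊓ centralizer ((sSup AA : Subgroup G) : Set G)

theorem mem_Xc {X : Subgroup G} {AA : Set (Subgroup G)} {x : G} :
    x ∈ Xc X AA ↔ x ∈ X ∧ ∀ A ∈ AA, ∀ a ∈ A, a * x = x * a := by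
  rw [Xc, mem_inf, NO3S.OneLine.mem_cent_sSup]

theorem Xc_comm {X : Subgroup G} {AA : Set (Subgroup G)} {x : G} (hx : x ∈ Xc X AA) {b : G} (hb : b ∈ sSup AA) :
    b * x = x * b := mem_centralizer_iff.1 hx.2 b hb

theorem Xc_le (X : Subgroup G) (AA : Set (Subgroup G)) : Xc X AA ≤ X := inf_le_left

variable {T H X : Subgroup G} {AA : Set (Subgroup G)}

theorem T_norm (h : GE T H X AA) : T ≤ normalizer (Xc X AA : Set G) := by
  intro t ht
  refine mem_normalizer_of_cj_le ?_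
  rintro _ ⟨x, hx, rfl⟩
  refine ⟨(mem_normalizer_iff.1 (h.norm (h.TH ht)) x).1 hx.1, mem_centralizer_iff.2 fun b hb => ?_⟩
  have h1 := OM.GSym.T_norm_AA h t⁻¹ (inv_mem ht) b hb
  have h2 := Xc_comm hx h1
  have h3 := congrArg (fun y => t * y * t⁻¹) h2
  simpa [mul_assoc] using h3

theorem J_norm (h : GE T H X AA) : T ≤ normalizer ((sSup AA : Subgroup G) : Set G) := fun t ht =>
  mem_normalizer_of_cj_le (by
    rintro _ ⟨x, hx, rfl⟩
    exact OM.GSym.T_norm_AA h t ht x hx)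

/-- an element of `X` centralised by all conjugates of the members of the family -/
theorem Xc_of {x : G} (hx : x ∈ X) (hc : ∀ A ∈ AA, ∀ y ∈ H, ∀ a ∈ A, y * a * y⁻¹ * x = x * (y * a * y⁻¹)) :
    x ∈ Xc X AA := mem_Xc.2 ⟨hx, fun A hA a ha => by simpa using hc A hA 1 (one_mem _) a ha⟩

theorem le_of {x : G} (hc : ∀ A ∈ AA, ∀ y ∈ H, ∀ a ∈ A, y * a * y⁻¹ * x = x * (y * a * y⁻¹)) :
    ∀ y ∈ H, cj y (sSup AA) ≤ centralizer ({x} : Set G) := by
  intro y hy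
  have h1 : sSup AA ≤ (centralizer ({x} : Set G)).comap (MulAut.conj y).toMonoidHom :=
    sSup_le fun A hA a ha => mem_centralizer_singleton_iff.2 (hc A hA y hy a ha)
  rintro _ ⟨b, hb, rfl⟩
  exact h1 hb

/-- The conclusion for a family `N`, `c`. -/
structure Concl (T H X : Subgroup G) (AA : Set (Subgroup G)) {Λ : Type} (N c : Λ → Subgroup G) : Prop where
  yb : YB T (Xc X AA) N c
  /-- some `K l` moves `Ω₁Z(T)` -/
  ex : ∃ l, ¬ zc T ≤ N l
  /-- an element of `X` centralised by all `H`-conjugates of the members of the family lies in all `N l` -/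
  cen : ∀ x ∈ X, (∀ A ∈ AA, ∀ y ∈ H, ∀ a ∈ A, y * a * y⁻¹ * x = x * (y * a * y⁻¹)) → ∀ l, x ∈ N l
  /-- (b') -/
  com : ∀ A ∈ AA, ∀ v ∈ zl T H, ∀ z : G, (∀ a ∈ A, a * v * a⁻¹ * v⁻¹ = 1 ∨ a * v * a⁻¹ * v⁻¹ = z) →
    ∀ a ∈ A, a * v * a⁻¹ * v⁻¹ ∈ YB.Cp c Set.univ

/-! ### Natural type -/

namespace Nat

variable {F : Type} [Field F] {V D : Subgroup G} {k : ℕ}

/-- a subgroup which contains `D` and the components of `x` contains `x` -/
theorem mem_of_comp (M : NatC F T H V D k) {S : Subgroup G} (hD : D ≤ S) {x : G} (hx : x ∈ V)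
    (hc : ∀ i, ∀ u ∈ Wn M i, M.nat.e u i = M.nat.e x i → u ∈ S) : x ∈ S := by
  classical
  have key : ∀ s : Finset (Fin k), ∀ x ∈ V, (∀ i, i ∉ s → M.nat.e x i = 0) →
      (∀ i ∈ s, ∀ u ∈ Wn M i, M.nat.e u i = M.nat.e x i → u ∈ S) → x ∈ S := by
    intro s
    induction s using Finset.induction_on with
    | empty =>
      intro x hx h0 _
      exact hD ((M.nat.ker x hx).1 (funext fun i => h0 i (Finset.notMem_empty i)))
    | insert i s hi ih =>
      intro x hx h0 h1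
      obtain ⟨u, hu, eu⟩ := exists_vec M i (M.nat.e x i)
      have huS := h1 i (Finset.mem_insert_self i s) u hu eu
      have hx' : u⁻¹ * x ∈ V := mul_mem (inv_mem hu.1) hx
      have he : ∀ m, M.nat.e (u⁻¹ * x) m = M.nat.e x m - M.nat.e u m := fun m => by
        rw [M.nat.mul _ (inv_mem hu.1) _ hx, Pi.add_apply, M.map_inv hu.1, Pi.neg_apply]
        abel
      have h2 : u⁻¹ * x ∈ S := by
        refine ih _ hx' (fun m hm => ?_) fun m hm w hw ew => ?_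
        · rw [he]
          by_cases hmi : m = i
          · subst hmi; rw [eu, sub_self]
          · rw [hu.2 m hmi, sub_zero]
            exact h0 m fun hcon => by
              rcases Finset.mem_insert.1 hcon with h3 | h3
              · exact hmi h3
              · exact hm h3
        · have hmi : m ≠ i := fun e => hi (e ▸ hm)
          rw [he, hu.2 m hmi, sub_zero] at ew
          exact h1 m (Finset.mem_insert_of_mem hm) w hw ew
      have := mul_mem huS h2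
      rwa [mul_inv_cancel_left] at this
  exact key Finset.univ x hx (fun i hi => absurd (Finset.mem_univ i) hi) fun i _ => hc i

section main

variable [Finite F] [CharP F 2]

/-- the product of the lines is in `C_X(⟨AA⟩)` -/
theorem line_le (h : GE T H X AA) (N : NatKM F T H (zl T H) (cv T H) k) (hk : 0 < k) {v : G}
    (hv : v ∈ zl T H) (hl : ∀ i, N.e v i 1 = 0) : v ∈ Xc X AA := by
  refine mem_Xc.2 ⟨h.VX hv, fun A hA a ha => ?_⟩
  by_cases hAQ : A ≤ o2 H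
  · exact h.comm_Q a (hAQ ha) v hv
  · have hoff := h.offM hA hAQ
    obtain ⟨I, h1, h2⟩ := N.offM A (h.fam.le A hA) hoff
    exact (natC_of h.hm hk N.toNatK).cent_line h.hm (h.fam.le A hA) hoff.le h1 h2 hv hl ha

theorem mem_line (h : GE T H X AA) (N : NatKM F T H (zl T H) (cv T H) k) (hk : 0 < k) {A : Subgroup G} (hA : A ∈ AA)
    {j : Fin k} (hroot : ∀ c : F, ∃ a ∈ A, ActsSL N.e (zl T H) (cv T H) a (Pi.mulSingle j (up c)))
    {v : G} (hv : v ∈ zl T H) (hvZ : v ∈ Xc X AA) (i : Fin k) : N.e v i 1 = 0 := by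
  set M := natC_of h.hm hk N.toNatK with hM
  have hTH := h.TH
  have key : ∀ w ∈ zl T H, w ∈ Xc X AA → N.e w j 1 = 0 := by
    intro w hw hwZ
    obtain ⟨a, ha, ha1, -⟩ := hroot 1
    have h1 := (mem_Xc.1 hwZ).2 A hA a ha
    have h2 := ha1 w hw j
    have h3 : a * w * a⁻¹ = w := by rw [h1]; group
    rw [h3, Pi.mulSingle_eq_same] at h2
    have h4 := congrFun h2 0
    rw [ap_zero'] at h4
    simpa using h4
  obtain ⟨t, ht, htr⟩ := N.trans i j
  have hmv : MvI M t i j := htr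
  have h1 := key (t * v * t⁻¹) (M.Vn t (hTH ht) v hv) ((mem_normalizer_iff.1 (T_norm h ht) v).1 hvZ)
  exact (hmv.line hTH ht hv).1 h1

/-- **The input `LD` for a summand with a root group in a member of the family.** -/
theorem ld_of_root (h : GE T H X AA) (N : NatKM F T H (zl T H) (cv T H) k) (hk : 0 < k) {A : Subgroup G}
    (hA : A ∈ AA) {j : Fin k}
    (hroot : ∀ c : F, ∃ a ∈ A, ActsSL N.e (zl T H) (cv T H) a (Pi.mulSingle j (up c))) :
    ∃ L, LD (natC_of h.hm hk N.toNatK) (sSup AA) (Xc X AA) L j ∧ H ≤ T ⊔ L ∧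
      ∀ C : Subgroup G, (∀ y ∈ H, cj y (sSup AA) ≤ C) → L ≤ C := by
  classical
  set M := natC_of h.hm hk N.toNatK with hM
  have hTH := h.TH
  have hAT := h.fam.le A hA
  have hAJ : A ≤ sSup AA := le_sSup hA
  have hJT : sSup AA ≤ T := sSup_le h.fam.le
  have hDV : cv T H ≤ zl T H := M.DV
  have hDZ : cv T H ≤ Xc X AA := fun d hd => line_le h N hk (hDV hd) fun i => by
    have : N.e d = 0 := (N.ker d (hDV hd)).2 hd
    rw [this]; rfl
  obtain ⟨w, hw, hwA, hwD⟩ := N.lift (Pi.mulSingle j (wm 1 one_ne_zero))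
  obtain ⟨a₁, ha₁, haA, haD⟩ := hroot 1
  have haH : a₁ ∈ H := hTH (hAT ha₁)
  set g := w * a₁ * w⁻¹ with hg
  have hgH : g ∈ H := mul_mem (mul_mem hw haH) (inv_mem hw)
  have hgA : M.Acts g (Pi.mulSingle j (lo (-1))) := by
    have h1 := acts_mul (M := M) (inv_mem hw) (acts_mul (M := M) haH hwA haA) (acts_inv (M := M) hw hwA)
    have e : (Pi.mulSingle j (wm (1 : F) one_ne_zero) : Fin k → Matrix.SpecialLinearGroup (Fin 2) F) *
        Pi.mulSingle j (up 1) * (Pi.mulSingle j (wm (1 : F) one_ne_zero))⁻¹ = Pi.mulSingle j (lo (-1)) := by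
      rw [← Pi.mulSingle_inv, ← Pi.mulSingle_mul, ← Pi.mulSingle_mul, wm_up, mul_inv_cancel_right]
      simp
    rw [e] at h1
    exact h1
  have hgD : ∀ d ∈ cv T H, g * d = d * g := fun d hd => by
    have e1 : Commute w d := hwD d hd
    have e2 : Commute a₁ d := haD d hd
    exact ((e1.mul_left e2).mul_left e1.inv_left).eq
  have hgO : Ons M j g (lo (-1)) := ⟨hgH, hgA, hgD⟩
  -- the block
  set L := sSup AA ⊔ zpowers g with hL
  have hJL : sSup AA ≤ L := le_sup_left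
  have hgL : g ∈ L := mem_sup_right (mem_zpowers g)
  have hLle : ∀ C : Subgroup G, sSup AA ≤ C → g ∈ C → L ≤ C := fun C h1 h2 => sup_le h1 (zpowers_le.2 h2)
  have hLH : L ≤ H := hLle H (hJT.trans hTH) hgH
  have hupJ : ∀ x ∈ sSup AA, ∃ c : Fin k → F, M.Acts x fun i => up (c i) := fun x hx =>
    exists_up M h.hm.syl (hJT hx) fun v hv hl => Xc_comm (line_le h N hk hv hl) hx
  have hLX : L ≤ Xn M j ⊓ centralizer (cv T H : Set G) := by
    refine hLle _ (fun x hx => ?_) ?_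
    · obtain ⟨c, hc⟩ := hupJ x hx
      exact mem_inf.2 ⟨⟨hTH (hJT hx), _, hc, fun i _ => ⟨c i, rfl⟩⟩,
        mem_centralizer_iff.2 fun d hd => (Xc_comm (hDZ hd) hx).symm⟩
    · exact mem_inf.2 ⟨⟨hgH, _, hgA, fun i hi => ⟨0, by rw [Pi.mulSingle_eq_of_ne hi, up_zero]⟩⟩,
        mem_centralizer_iff.2 fun d hd => (hgD d hd).symm⟩
  have hrootJ : ∀ c : F, ∃ b ∈ sSup AA, Ons M j b (up c) := fun c => by
    obtain ⟨a, ha, ha1⟩ := hroot c
    exact ⟨a, hAJ ha, hTH (hAT ha), ha1⟩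
  have hcov : ∀ A₀, ∃ l ∈ L, Ons M j l A₀ := by
    intro A₀
    refine sl2_all (fun A => ∃ l ∈ L, Ons M j l A) ?_ ?_ (fun c => ?_) (A₀ := lo (-1)) ⟨g, hgL, hgO⟩ ?_ A₀
    · rintro A1 A2 ⟨l1, hl1, h1⟩ ⟨l2, hl2, h2⟩
      exact ⟨l1 * l2, mul_mem hl1 hl2, h1.mul h2⟩
    · rintro A1 ⟨l1, hl1, h1⟩
      exact ⟨l1⁻¹, inv_mem hl1, h1.inv⟩
    · obtain ⟨b2, hb2, h2⟩ := hrootJ c
      exact ⟨b2, hJL hb2, h2⟩
    · simp
  have hsup : H ≤ T ⊔ L := OM.GNat.le_sup h N hk hLX fun A₀ => by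
    obtain ⟨l, hl, hlA⟩ := hcov A₀
    exact ⟨l, hl, fun v hv => hlA.e_i hv.1⟩
  -- `g` centralises the vectors of `V` with vanishing coordinate `j, 0`
  have hgc : ∀ x ∈ zl T H, N.e x j 0 = 0 → g * x = x * g := by
    intro x hx hx0
    have h1 : x ∈ centralizer ({g} : Set G) := by
      refine mem_of_comp M (fun d hd => mem_centralizer_singleton_iff.2 (hgD d hd).symm) hx fun i u hu eu => ?_
      rw [mem_centralizer_singleton_iff]
      by_cases hij : i = j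
      · subst hij
        set u' := w⁻¹ * u * w with hu'
        have hu'V : u' ∈ zl T H := by
          have := M.Vn w⁻¹ (inv_mem hw) u hu.1
          rwa [inv_inv] at this
        have e0 : w * u' * w⁻¹ = u := by rw [hu']; group
        have hum : ∀ m, m ≠ i → N.e u' m = 0 := fun m hm => by
          have h2 := hwA u' hu'V m
          rw [e0, Pi.mulSingle_eq_of_ne hm, ap_one] at h2
          rw [← h2]
          exact hu.2 m hm
        have hui : N.e u' i 1 = 0 := by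
          have h2 := congrFun (hwA u' hu'V i) 0
          have h3 : N.e u i 0 = 0 := by
            have h4 : N.e u i = N.e x i := eu
            rw [h4]; exact hx0
          rw [e0, Pi.mulSingle_eq_same, h3, ap_zero'] at h2
          simpa using h2.symm
        have h5 : u' ∈ Xc X AA := line_le h N hk hu'V fun m => by
          by_cases hm : m = i
          · subst hm; exact hui
          · rw [hum m hm]; rfl
        have h6 := Xc_comm h5 (hAJ ha₁)
        have h7 : w * (a₁ * u') * w⁻¹ = w * (u' * a₁) * w⁻¹ := by rw [h6]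
        have e1 : w * (a₁ * u') * w⁻¹ = g * u := by rw [hg, ← e0]; group
        have e2 : w * (u' * a₁) * w⁻¹ = u * g := by rw [hg, ← e0]; group
        rw [e1, e2] at h7
        exact h7.symm
      · exact (cent_N M h.hm hgH hgA hgD (Pi.mulSingle_eq_of_ne hij _) hu.1 hu.2).symm
    exact (mem_centralizer_singleton_iff.1 h1).symm
  refine ⟨L, ⟨h.hm, hJT, J_norm h, T_norm h, ?_, fun x hx z hz => Xc_comm hz hx, ?_, hrootJ, hJL, hLH,
    fun l hl d hd => (mem_centralizer_iff.1 (mem_inf.1 (hLX hl)).2 d hd).symm, hcov, ?_, ?_⟩, hsup, fun C hC =>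
      hLle C (by simpa [cj_one] using hC 1 (one_mem _)) (hC w hw ⟨a₁, hAJ ha₁, rfl⟩)⟩
  · exact PLocal.ThompsonJ.isElementaryAbelian_mono h.elem inf_le_left
  · -- `mem`
    exact fun v hv => ⟨fun hvZ i => mem_line h N hk hA hroot hv hvZ i, fun h0 => line_le h N hk hv h0⟩
  · -- `LW`
    intro l hl m hmj v hv
    have h1 : L ≤ centralizer ({v} : Set G) := by
      refine hLle _ (fun x hx => ?_) ?_
      · rw [mem_centralizer_singleton_iff]
        refine Xc_comm (line_le h N hk hv.1 fun i => ?_) hx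
        by_cases hi : i = m
        · subst hi; exact hv.2.2
        · have h2 : N.e v i = 0 := hv.2.1 i hi
          rw [h2]; rfl
      · rw [mem_centralizer_singleton_iff]
        exact cent_N M h.hm hgH hgA hgD (Pi.mulSingle_eq_of_ne hmj _) hv.1 hv.2.1
    exact mem_centralizer_singleton_iff.1 (h1 hl)
  · -- `split`
    intro z hz
    have hzX : z ∈ X := hz.1
    have hy : w⁻¹ * z * w ∈ Y0 H X AA := by
      have h1 := h.mem_Y0_of hzX (mem_Xc.1 hz).2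
      have h2 := (mem_normalizer_iff.1 (h.norm_Y0 (inv_mem hw)) z).1 h1
      rwa [inv_inv] at h2
    obtain ⟨v, hv, hvy⟩ := h.Y0_comm hA hy
    have h3 := hvy a₁ ha₁
    set v' := w * v * w⁻¹ with hv'
    have hv'V : v' ∈ zl T H := M.Vn w hw v hv
    have h4 : g * z * g⁻¹ * z⁻¹ = g * v' * g⁻¹ * v'⁻¹ := by
      have h5 : w * (a₁ * (w⁻¹ * z * w) * a₁⁻¹ * (w⁻¹ * z * w)⁻¹) * w⁻¹ = w * (a₁ * v * a₁⁻¹ * v⁻¹) * w⁻¹ := by
        rw [h3]
      have e1 : w * (a₁ * (w⁻¹ * z * w) * a₁⁻¹ * (w⁻¹ * z * w)⁻¹) * w⁻¹ = g * z * g⁻¹ * z⁻¹ := by rw [hg]; group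
      have e2 : w * (a₁ * v * a₁⁻¹ * v⁻¹) * w⁻¹ = g * v' * g⁻¹ * v'⁻¹ := by rw [hg, hv']; group
      rwa [e1, e2] at h5
    obtain ⟨n, hn, en⟩ := exists_line M j (M.nat.e v' j 0)
    have hnZ : n ∈ Xc X AA := line_le h N hk hn.1 fun i => by
      by_cases hi : i = j
      · subst hi; exact hn.2.2
      · have h2 : N.e n i = 0 := hn.2.1 i hi
        rw [h2]; rfl
    have hx : n⁻¹ * v' ∈ zl T H := mul_mem (inv_mem hn.1) hv'V
    have hx0 : N.e (n⁻¹ * v') j 0 = 0 := by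
      have h5 : M.nat.e (n⁻¹ * v') = M.nat.e n⁻¹ + M.nat.e v' := M.nat.mul _ (inv_mem hn.1) _ hv'V
      have h6 : M.nat.e (n⁻¹ * v') j 0 = 0 := by
        rw [h5, Pi.add_apply, Pi.add_apply, M.map_inv hn.1, Pi.neg_apply, Pi.neg_apply, en, neg_add_cancel]
      exact h6
    have hgx := hgc _ hx hx0
    refine ⟨n⁻¹ * z, mul_mem (inv_mem hnZ) hz, fun l hl => ?_, n, hn, ?_⟩
    · have h1 : L ≤ centralizer ({n⁻¹ * z} : Set G) := by
        refine hLle _ (fun x hx => ?_) ?_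
        · rw [mem_centralizer_singleton_iff]
          exact Xc_comm (mul_mem (inv_mem hnZ) hz) hx
        · rw [mem_centralizer_singleton_iff]
          -- `n⁻¹ z = (n⁻¹ v') (v'⁻¹ z)`
          have h5 : g * (v'⁻¹ * z) * g⁻¹ = v'⁻¹ * z := by
            have e1 : g * (v'⁻¹ * z) * g⁻¹ = (g * v' * g⁻¹)⁻¹ * (g * z * g⁻¹ * z⁻¹) * z := by group
            rw [e1, h4]; group
          have h6 : g * (n⁻¹ * v') * g⁻¹ = n⁻¹ * v' := by rw [hgx]; group
          have h7 : g * (n⁻¹ * z) * g⁻¹ = n⁻¹ * z := by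
            have e1 : g * (n⁻¹ * z) * g⁻¹ = g * (n⁻¹ * v') * g⁻¹ * (g * (v'⁻¹ * z) * g⁻¹) := by group
            rw [e1, h5, h6]; group
          exact mul_inv_eq_iff_eq_mul.1 h7
      exact mem_centralizer_singleton_iff.1 (h1 hl)
    · have h5 := elem_comm h.elem _ (mul_mem (inv_mem hnZ.1) hzX) n hnZ.1
      rw [h5]; group

/-- the last clause: one root group of `A` is not induced by `A'` -/
theorem no_fix (h : GE T H X AA) (N : NatKM F T H (zl T H) (cv T H) k) (hk : 0 < k) {x : F} (hx0 : x ≠ 0) (hx1 : x ≠ 1)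
    {A A' : Subgroup G} (hA : A ∈ AA) (hA2 : ∀ a ∈ A, ∀ b ∈ A, a ∉ A' → b ∉ A' → a * b ∈ A') {i : Fin k}
    (hroot : ∀ c : F, ∃ a ∈ A, ActsSL N.e (zl T H) (cv T H) a (Pi.mulSingle i (up c)))
    (hfix : ∀ a ∈ A', ∀ b : Fin k → Matrix.SpecialLinearGroup (Fin 2) F,
      (natC_of h.hm hk N.toNatK).Acts a b → ent (b i) 0 1 = 0) : False := by
  classical
  set M := natC_of h.hm hk N.toNatK with hM
  have hAT := h.fam.le A hA
  have hout : ∀ c : F, c ≠ 0 → ∀ a ∈ A, ActsSL N.e (zl T H) (cv T H) a (Pi.mulSingle i (up c)) → a ∉ A' := by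
    intro c hc a _ h1 ha'
    have h2 := hfix a ha' _ h1.1
    rw [Pi.mulSingle_eq_same, up_01] at h2
    exact hc h2
  obtain ⟨a1, ha1, e1⟩ := hroot 1
  obtain ⟨a2, ha2, e2⟩ := hroot x
  have h3 := hA2 a1 ha1 a2 ha2 (hout 1 one_ne_zero a1 ha1 e1) (hout x hx0 a2 ha2 e2)
  have h4 := acts_mul (M := M) (h.TH (hAT ha2)) e1.1 e2.1
  have h5 := hfix _ h3 _ h4
  rw [Pi.mul_apply, Pi.mulSingle_eq_same, Pi.mulSingle_eq_same, up_mul, up_01] at h5
  exact hx1 (by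
    have h6 : x = -1 := by rw [← sub_eq_zero, sub_neg_eq_add, add_comm]; exact h5
    rw [h6, CharTwo.neg_eq])

/-- `|F| > 2`: a member of index at most two induces the same group on `V`. -/
theorem big (h : GE T H X AA) (N : NatKM F T H (zl T H) (cv T H) k) (hk : 0 < k) {x : F} (hx0 : x ≠ 0) (hx1 : x ≠ 1)
    {A A' : Subgroup G} (hA : A ∈ AA) (hA' : A' ∈ AA) (hle : A' ≤ A)
    (hA2 : ∀ a ∈ A, ∀ b ∈ A, a ∉ A' → b ∉ A' → a * b ∈ A') : A ≤ A' ⊔ (A ⊓ o2 H) := by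
  classical
  set M := natC_of h.hm hk N.toNatK with hM
  have hTH := h.TH
  have hAT := h.fam.le A hA
  by_cases hAQ : A ≤ o2 H
  · exact le_sup_of_le_right (le_inf le_rfl hAQ)
  by_cases hAQ' : A' ≤ o2 H
  · exfalso
    obtain ⟨j, hroot⟩ := exists_root h N hk hA hAQ
    refine no_fix h N hk hx0 hx1 hA hA2 hroot fun a ha b hb => ?_
    have h1 : M.Acts a 1 := by
      intro v hv i
      have h2 : a * v * a⁻¹ = v := by rw [h.comm_Q a (hAQ' ha) v hv]; group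
      rw [h2, Pi.one_apply, ap_one]
    have h2 := acts_unique (M := M) hb h1
    rw [h2, Pi.one_apply]
    simp
  obtain ⟨I, h1, h2⟩ := N.offM A hAT (h.offM hA hAQ)
  obtain ⟨I', h1', h2'⟩ := N.offM A' (h.fam.le A' hA') (h.offM hA' hAQ')
  have hII : I ⊆ I' := by
    intro i hi
    by_contra hi'
    refine no_fix h N hk hx0 hx1 hA hA2 (i := i) (fun c => ?_) fun a ha b hb => ?_
    · obtain ⟨a, ha, hac⟩ := h2 (Pi.single i c) fun l hl => by
        rw [Pi.single_eq_of_ne]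
        rintro rfl
        exact hl hi
      rw [NO3S.OneLine.single_acts] at hac
      exact ⟨a, ha, hac⟩
    · obtain ⟨b', hb'0, hb'⟩ := h1' a ha
      have h3 := acts_unique (M := M) hb hb'.1
      rw [h3, up_01]
      exact hb'0 i hi'
  intro a ha
  obtain ⟨b, hb0, hb⟩ := h1 a ha
  obtain ⟨a', ha', hb'⟩ := h2' b fun i hi => hb0 i fun hc => hi (hII hc)
  have ha'H : a' ∈ H := hTH (h.fam.le A' hA' ha')
  have haH : a ∈ H := hTH (hAT ha)
  have hs : a'⁻¹ * a ∈ M.stab := by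
    refine ⟨mul_mem (inv_mem ha'H) haH, fun v hv l => ?_, fun d hd => ?_⟩
    · have h3 := acts_mul (M := M) haH (acts_inv (M := M) ha'H hb'.1) hb.1 v hv l
      rw [inv_mul_cancel] at h3
      exact h3
    · have c1 : Commute a' d := hb'.2 d hd
      have c2 : Commute a d := hb.2 d hd
      exact (c1.inv_left.mul_left c2).eq
  have hT : a'⁻¹ * a ∈ T := mul_mem (inv_mem (h.fam.le A' hA' ha')) (hAT ha)
  have hQ : a'⁻¹ * a ∈ o2 H := h.QC ⟨hT, mem_centralizer_iff.2 fun v hv => (M.cent_of_stab h.hm hs hv).symm⟩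
  have h4 := mul_mem (mem_sup_left ha' : a' ∈ A' ⊔ (A ⊓ o2 H))
    (mem_sup_right (mem_inf.2 ⟨mul_mem (inv_mem (hle ha')) ha, hQ⟩))
  rwa [mul_inv_cancel_left] at h4

/-- `|F| > 2`: a member of the family whose commutators with `v` have at most two values centralises `v`. -/
theorem cent_of_two (h : GE T H X AA) (N : NatKM F T H (zl T H) (cv T H) k) (hk : 0 < k) {x : F} (hx0 : x ≠ 0)
    (hx1 : x ≠ 1) {A : Subgroup G} (hA : A ∈ AA) {v : G} (hv : v ∈ zl T H) {z : G}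
    (hz : ∀ a ∈ A, a * v * a⁻¹ * v⁻¹ = 1 ∨ a * v * a⁻¹ * v⁻¹ = z) : ∀ a ∈ A, a * v * a⁻¹ * v⁻¹ = 1 := by
  classical
  set M := natC_of h.hm hk N.toNatK with hM
  have hTH := h.TH
  have hAT := h.fam.le A hA
  intro a ha
  by_cases hAQ : A ≤ o2 H
  · rw [h.comm_Q a (hAQ ha) v hv, mul_inv_cancel_right, mul_inv_cancel]
  obtain ⟨I, h1, h2⟩ := N.offM A hAT (h.offM hA hAQ)
  have hroot : ∀ i ∈ I, ∀ c : F, ∃ a ∈ A, ActsSL N.e (zl T H) (cv T H) a (Pi.mulSingle i (up c)) := by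
    intro i hi c
    obtain ⟨a, ha, hac⟩ := h2 (Pi.single i c) fun l hl => by
      rw [Pi.single_eq_of_ne]
      rintro rfl
      exact hl hi
    rw [NO3S.OneLine.single_acts] at hac
    exact ⟨a, ha, hac⟩
  have hI : ∀ i ∈ I, N.e v i 1 = 0 := by
    intro i hi
    by_contra hne
    have key : ∀ c : F, c ≠ 0 → ∃ z', z' = z ∧ z' ∈ zl T H ∧ N.e z' i 0 = c * N.e v i 1 := by
      intro c hc
      obtain ⟨a, ha, hac⟩ := hroot i hi c
      have haH := hTH (hAT ha)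
      have h3 : N.e (a * v * a⁻¹ * v⁻¹) i 0 = c * N.e v i 1 := by
        have h4 : N.e (a * v * a⁻¹ * v⁻¹) = N.e (a * v * a⁻¹) - N.e v := M.map_div (M.Vn a haH v hv) hv
        rw [h4, Pi.sub_apply, Pi.sub_apply, hac.1 v hv i, Pi.mulSingle_eq_same, ap_zero', up_00, up_01]
        ring
      have h5 : a * v * a⁻¹ * v⁻¹ ∈ zl T H := mul_mem (M.Vn a haH v hv) (inv_mem hv)
      rcases hz a ha with h6 | h6
      · exfalso
        rw [h6] at h3
        have h7 : N.e (1 : G) i 0 = 0 := by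
          have h8 : N.e (1 : G) = 0 := M.map_one
          rw [h8]; rfl
        rw [h7] at h3
        rcases mul_eq_zero.1 h3.symm with h8 | h8
        · exact hc h8
        · exact hne h8
      · exact ⟨_, h6, h5, h3⟩
    obtain ⟨z1, e1, -, h3⟩ := key 1 one_ne_zero
    obtain ⟨z2, e2, -, h4⟩ := key x hx0
    rw [e1] at h3
    rw [e2, h3] at h4
    exact hx1 (mul_right_cancel₀ hne h4).symm
  -- `a` centralises `v`
  have hc : v ∈ centralizer ({a} : Set G) := by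
    obtain ⟨b, hb0, hb⟩ := h1 a ha
    refine mem_of_comp M (fun d hd => mem_centralizer_singleton_iff.2 (hb.2 d hd).symm) hv fun i u hu eu => ?_
    rw [mem_centralizer_singleton_iff]
    by_cases hi : i ∈ I
    · refine (Xc_comm (line_le h N hk hu.1 fun m => ?_) ((le_sSup hA : A ≤ sSup AA) ha)).symm
      by_cases hm : m = i
      · subst hm
        have h3 : N.e u m = N.e v m := eu
        rw [h3]
        exact hI m hi
      · have h3 : N.e u m = 0 := hu.2 m hm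
        rw [h3]; rfl
    · exact (cent_N M h.hm (hTH (hAT ha)) hb.1 hb.2 (by show up (b i) = 1; rw [hb0 i hi, up_zero]) hu.1 hu.2).symm
  rw [(mem_centralizer_singleton_iff.1 hc).symm, mul_inv_cancel_right, mul_inv_cancel]

omit [Finite F] [CharP F 2] [Field F] in
/-- `{v ∈ V | [J, v] ≤ C}` -/
def comS (V J C : Subgroup G) (hV : ∀ x ∈ V, ∀ y ∈ V, x * y = y * x) (hJ : ∀ a ∈ J, ∀ v ∈ V, a * v * a⁻¹ ∈ V) :
    Subgroup G where
  carrier := {v | v ∈ V ∧ ∀ a ∈ J, a * v * a⁻¹ * v⁻¹ ∈ C}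
  mul_mem' := by
    rintro v w ⟨hv, hv'⟩ ⟨hw, hw'⟩
    refine ⟨mul_mem hv hw, fun a ha => ?_⟩
    have h1 := hV _ (mul_mem (hJ a ha w hw) (inv_mem hw)) _ (inv_mem hv)
    have e : a * (v * w) * a⁻¹ * (v * w)⁻¹ = a * v * a⁻¹ * (a * w * a⁻¹ * w⁻¹ * v⁻¹) := by group
    rw [e, h1]
    have e2 : a * v * a⁻¹ * (v⁻¹ * (a * w * a⁻¹ * w⁻¹)) = a * v * a⁻¹ * v⁻¹ * (a * w * a⁻¹ * w⁻¹) := by group
    rw [e2]
    exact mul_mem (hv' a ha) (hw' a ha)
  one_mem' := ⟨one_mem _, fun a _ => by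
    have e : a * 1 * a⁻¹ * 1⁻¹ = 1 := by group
    rw [e]; exact one_mem _⟩
  inv_mem' := by
    rintro v ⟨hv, hv'⟩
    refine ⟨inv_mem hv, fun a ha => ?_⟩
    have h1 := hV _ (inv_mem (hJ a ha v hv)) _ hv
    have e : a * v⁻¹ * a⁻¹ * v⁻¹⁻¹ = (a * v * a⁻¹)⁻¹ * v := by group
    rw [e, h1]
    have e2 : v * (a * v * a⁻¹)⁻¹ = (a * v * a⁻¹ * v⁻¹)⁻¹ := by group
    rw [e2]
    exact inv_mem (hv' a ha)

/-- **`YB` on `C_X(⟨AA⟩)`, natural type.** -/
theorem exists_ybx (h : GE T H X AA) (N : NatKM F T H (zl T H) (cv T H) k) (hk : 0 < k)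
    (hex : ∃ A ∈ AA, ¬ A ≤ o2 H) (hZ : ¬ H ≤ centralizer (zc T : Set G)) :
    ∃ Ni c : Fin k → Subgroup G, Concl T H X AA Ni c := by
  classical
  set M := natC_of h.hm hk N.toNatK with hM
  obtain ⟨A, hA, hAQ⟩ := hex
  obtain ⟨j, hroot⟩ := exists_root h N hk hA hAQ
  obtain ⟨L, hL, hsup, hgen⟩ := ld_of_root h N hk hA hroot
  have main : ∀ c : Fin k → Subgroup G, Co M c → YB T (Xc X AA) (Ni M (Xc X AA) L j) c := fun c hc =>
    hL.yb_aux hc fun i s hs t ht hsm htm => cyc_line h.hm N hk hs hsm ht htm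
  have h2 : ∃ i, ¬ zc T ≤ Ni M (Xc X AA) L j i := by
    refine ⟨j, fun hcon => hZ (hsup.trans (sup_le ?_ ?_))⟩
    · exact NO3S.Level.le_centralizer_zc T
    · intro l hl
      rw [mem_centralizer_iff]
      intro z hz
      have h1 := (mem_Ni.1 (hcon hz)).2 1 (one_mem _) (MvI.one j) l hl
      simp only [inv_one, one_mul, mul_one] at h1
      exact h1.symm
  have h3 : ∀ x ∈ Xc X AA, (∀ y ∈ H, cj y (sSup AA) ≤ centralizer ({x} : Set G)) → ∀ i, x ∈ Ni M (Xc X AA) L j i := by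
    intro x hx hxc i
    refine mem_Ni.2 ⟨hx, fun t ht _ l hl => ?_⟩
    have h1 := hgen (centralizer ({t⁻¹ * x * t} : Set G)) fun y hy => ?_
    · exact mem_centralizer_singleton_iff.1 (h1 hl)
    · rintro _ ⟨b, hb, rfl⟩
      rw [mem_centralizer_singleton_iff]
      have h2 := mem_centralizer_singleton_iff.1 (hxc (t * y) (mul_mem (h.TH ht) hy) ⟨b, hb, rfl⟩)
      have h2' : t * y * b * (t * y)⁻¹ * x = x * (t * y * b * (t * y)⁻¹) := h2
      have h4 := congrArg (fun z => t⁻¹ * z * t) h2'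
      show y * b * y⁻¹ * (t⁻¹ * x * t) = t⁻¹ * x * t * (y * b * y⁻¹)
      simpa [mul_assoc] using h4
  by_cases hF : ∀ x : F, x = 0 ∨ x = 1
  · have hc := hL.co_two hF
    refine ⟨_, _, main _ hc, h2, fun x hx hxc => h3 x (Xc_of hx hxc) (le_of hxc), fun A hA v hv z _ a haA => ?_⟩
    have ha : a ∈ sSup AA := (le_sSup hA : A ≤ sSup AA) haA
    have hJV : ∀ a ∈ sSup AA, ∀ v ∈ zl T H, a * v * a⁻¹ ∈ zl T H := fun a ha v hv => M.Vn a (hL.TH (hL.BT ha)) v hv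
    have hD : cv T H ≤ comS (zl T H) (sSup AA) (YB.Cp (fun i => closure {x | ∃ b ∈ sSup AA, ∃ w ∈ Wn M i,
        x = b * w * b⁻¹ * w⁻¹}) Set.univ) (fun x hx y hy => M.Vcomm hx hy) hJV := fun d hd =>
      ⟨M.DV hd, fun a ha => by rw [Xc_comm (hL.DZ hd) ha, mul_inv_cancel_right, mul_inv_cancel]; exact one_mem _⟩
    exact (mem_of_comp M hD hv fun i u hu _ => ⟨hu.1, fun a ha =>
      YB.le_Cp (Set.mem_univ i) (subset_closure ⟨a, ha, u, hu, rfl⟩)⟩).2 a ha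
  · push Not at hF
    obtain ⟨x, hx0, hx1⟩ := hF
    exact ⟨_, _, main _ (hL.co_tor hx0 hx1), h2, fun x hx hxc => h3 x (Xc_of hx hxc) (le_of hxc),
      fun A hA v hv z hz a ha => by
        rw [cent_of_two h N hk hx0 hx1 hA hv hz a ha]; exact one_mem _⟩

end main

end Nat

/-! ### Symmetric type -/

namespace Sym

open Cfsg.Agent.Omega.OM.Lev.SIn
open Cfsg.Agent.Omega.SQ1.BauS (Sim)

variable {k m : ℕ}

theorem in_of (h : GE T H X AA) (hXT : X ≤ T) {ι : Type} {N : ι → Subgroup G} {d t r : ι → G} (i : ι)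
    (h0 : In0 H T (o2 H) (zl T H) (sSup AA) N d t r) : In H T (o2 H) (zl T H) (sSup AA) (Xc X AA) N d t r :=
  { h0 with
    ZT := (Xc_le X AA).trans hXT
    Zcomm := fun x hx y hy => elem_comm h.elem x hx.1 y hy.1
    Zsq := fun x hx => by
      have := elem_sq h.elem x hx.1
      simpa [pow_two] using this
    JZ := fun z hz j hj => Xc_comm hz hj
    Zn := fun x hx z hz => (mem_normalizer_iff.1 (T_norm h hx) z).1 hz
    ZcV := fun z hz v hv => elem_comm h.elem z hz.1 v (h.VX hv)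
    V1Z := fun v hv hc => ⟨h.VX hv, mem_centralizer_iff.2 fun j hj => hc j hj⟩
    Y_norm := h0.norm_of i (Y₀ := Y0 H X AA) (fun g hg y hy => (mem_normalizer_iff.1 (h.norm_Y0 hg) y).1 hy)
      (OM.GSym.Y0_sSup h) (fun z hz => h.mem_Y0_of hz.1 (mem_Xc.1 hz).2)
      fun x hx z hz => (mem_normalizer_iff.1 (T_norm h hx) z).1 hz }

/-- `[V, J] ≤ ∏ ⟨d i⟩` -/
theorem comm_J {Q V J Z : Subgroup G} {ι : Type} {N : ι → Subgroup G} {d t r : ι → G}
    (hi : In H T Q V J Z N d t r) {a : G} (ha : a ∈ J) {v : G} (hv : v ∈ V) :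
    a * v * a⁻¹ * v⁻¹ ∈ YB.Cp (fun i => zpowers (d i)) Set.univ := by
  have h1 : closure (Set.range d) ≤ YB.Cp (fun i => zpowers (d i)) Set.univ := by
    rw [closure_le]
    rintro _ ⟨i, rfl⟩
    exact YB.le_Cp (c := fun i => zpowers (d i)) (Set.mem_univ i) (mem_zpowers (d i))
  exact h1 (hi.comm_Y (hi.le_BB ha) (V_le_Y Z V hv))

/-- **`YB` on `C_X(⟨AA⟩)`, symmetric type.** -/
theorem exists_ybx (h : GE T H X AA) (hXT : X ≤ T) (N : SymKM T H (zl T H) (cv T H) k m) (hk : 0 < k) (hm : 1 ≤ m)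
    (hex : ∃ A ∈ AA, ¬ A ≤ o2 H) (hZ : ¬ H ≤ centralizer (zc T : Set G)) :
    ∃ (ι : Type) (_ : Finite ι) (Ni c : ι → Subgroup G), Concl T H X AA Ni c := by
  have h0 := OM.Lev.Sym.syL_gen (Jg := sSup AA) h.hm hk hm N SQ1.FFOf.cv_le SQ1.FFOf.cv_norm h.fam.le
    (fun A hA hAQ => h.offM hA hAQ) hex (sSup_le h.fam.le) (OM.GSym.T_norm_AA h) (fun A hA => le_sSup hA) le_sup_left
  obtain ⟨ι, J, U, Y, t, r, c⟩ := h0.exists_ch
  obtain ⟨j, x, y, hTr⟩ := h0.exists_tr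
  obtain ⟨i, -⟩ := c.ex j x y hTr
  have hin := in_of h hXT i (c.main h0 Cfsg.Agent.Omega.SQ1.SymCyc.exists_pow)
  have hp := c.permR h0
  obtain ⟨K, hK, hKc⟩ := hin.exists_blks hp
  refine ⟨ι, hin.finite_index, _, _, YSym.yb hin hK hKc, ⟨i, fun hle => hZ ?_⟩, fun x hx hxc l => ?_,
    fun A hA v hv z _ a ha => comm_J hin ((le_sSup hA : A ≤ sSup AA) ha) hv⟩
  · exact ((hK i).sup_T hin le_sup_left le_sup_right : H ≤ T ⊔ K i).trans
      (sup_le (NO3S.Level.le_centralizer_zc T) (le_centralizer_iff.1 hle))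
  · have hxX := Xc_of hx hxc
    have hxj := le_of hxc
    obtain ⟨y, hy, hym⟩ := (hK l).mv
    have h1 : K l ≤ centralizer ({x} : Set G) := by
      refine (hK l).gen_left hin hy hym (hin.t_bau l) (hin.t_not_QQ l) (fun b hb => ?_) ?_
      · exact mem_centralizer_singleton_iff.2 ((mem_BB.1 hb).2 x hxX).symm
      · exact hxj y ((hK l).LH hin hy) ⟨_, hin.tJ l, rfl⟩
    exact mem_centralizer_iff.2 fun z hz => mem_centralizer_singleton_iff.1 (h1 hz)

end Sym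

/-- **`YB` on `C_X(⟨AA⟩)`.** -/
theorem exists_ybx (h : GE T H X AA) (hXT : X ≤ T) (hN : FFThm.ConclM T H) (hex : ∃ A ∈ AA, ¬ A ≤ o2 H)
    (hZ : ¬ H ≤ centralizer (zc T : Set G)) :
    ∃ (ι : Type) (_ : Finite ι) (Ni c : ι → Subgroup G), Concl T H X AA Ni c := by
  rcases hN with ⟨F, _, _, _, k, hk, ⟨N⟩⟩ | ⟨k, m, hk, hm, ⟨N⟩⟩
  · obtain ⟨Ni, c, hc⟩ := Nat.exists_ybx h N hk hex hZ
    exact ⟨Fin k, inferInstance, Ni, c, hc⟩
  · exact Sym.exists_ybx h hXT N hk (by omega) hex hZ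

end Cfsg.Agent.Omega.NO3S.CaseLW.YBX

end
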