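import Cfsg.Agent.Mrg.Omega.HOne.PairP
import Cfsg.Agent.Mrg.Omega.HTwo.Entry
import Cfsg.Agent.Mrg.Omega.HOneTwo.Basic
import Cfsg.Agent.Mrg.Omega.HTwo.AlphaOne
import Cfsg.Agent.Mrg.Omega.BTwo.RadQ
import Cfsg.Agent.Mrg.Omega.HTwo.TComp
import Cfsg.Agent.Lib.SylowNormalInf
import Cfsg.Agent.ZN.Facts
import Cfsg.Agent.Mrg.Omega.ML.LieTwF4
import Cfsg.Agent.Involutions.BaerSuzuki
import Mathlib.Algebra.BigOperators.Intervals

-- merged: Cfsg.Agent.Mrg.Omega.HOneTwo.BSTrick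
section

section


/-!
# II.0h1, `q = 2`: the BS-trick ((E) of helper202's #17185, helper766's #17168, helper699's #17406)

* `exists_conj` : Baer-Suzuki for an involution `u` of `H` acting on `NN` with `O₂(H/C_H(NN)) = 1`:
  some conjugate `h u h⁻¹` (`h ∈ H`) is with `u` in no common 2-group;
* `eq_of` : abstract form of `c₀ = z`;
* `eq_z` : `TvH M r t Q N`, `JConst M r t Q N c`, `JEnd M r Q N c`, `S ≤ M ≤ C(z)`, `z ∈ Z₀`,
  `N r = ⟨Z₀^{C(r)}⟩`, `G` of characteristic 2 type: `c = z`.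
-/

set_option autoImplicit false

namespace Cfsg.Agent.Omega.HOneTwo.BSTrick

open Subgroup Cfsg Cfsg.Agent.ZN Cfsg.Agent.Omega.MinPar
open Cfsg.Agent.MinSimple.VModule (zc_le_zl o2_isPGroup)
open Cfsg.Agent.Omega.HOne.TvDef
open Cfsg.Agent.Omega.HOne.TvHSide (le_normalizer_of le_normalizer_inf_centralizer red_of)

universe u

variable {G : Type u} [Group G] [Finite G]

/-- **Baer-Suzuki for an involution of `H` acting on `NN`** -/
theorem exists_conj {H NN : Subgroup G} (hNH : H ≤ normalizer (NN : Set G))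
    (hred : ∀ K : Subgroup G, K ≤ H → H ≤ normalizer (K : Set G) →
      (∀ x ∈ K, ∃ k : ℕ, x ^ 2 ^ k ∈ centralizer (NN : Set G)) → K ≤ centralizer (NN : Set G))
    {u : G} (hu : u ∈ H) (huu : u * u = 1) (hun : u ∉ centralizer (NN : Set G)) :
    ∃ h ∈ H, ∀ T : Subgroup G, IsPGroup 2 T → u ∈ T → h * u * h⁻¹ ∈ T → False := by
  have hCH := le_normalizer_inf_centralizer hNH
  set C : Subgroup G := H ⊓ centralizer (NN : Set G) with hC
  have hn : (C.subgroupOf H).Normal := normal_subgroupOf_of_le_normalizer hCH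
  set f := QuotientGroup.mk' (C.subgroupOf H) with hf
  have hf1 : ∀ y : H, f y = 1 → (y : G) ∈ C := by
    intro y hy
    exact (QuotientGroup.eq_one_iff (N := C.subgroupOf H) y).1 hy
  set a := f ⟨u, hu⟩ with ha
  have haa : a * a = 1 := by
    rw [ha, ← map_mul]
    have : (⟨u, hu⟩ : H) * ⟨u, hu⟩ = 1 := Subtype.ext huu
    rw [this, map_one]
  obtain ⟨g, hg1, hgo, hgi⟩ := Involutions.BaerSuzuki.exists_odd_inverted a haa (by
    intro h1
    have h2 := hred (((normalClosure {a}).comap f).map H.subtype) (map_subtype_le _) ?_ ?_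
    · have h3 : u ∈ ((normalClosure {a}).comap f).map H.subtype :=
        ⟨⟨u, hu⟩, subset_normalClosure rfl, rfl⟩
      exact hun (h2 h3)
    · refine le_normalizer_of ?_
      rintro x hx _ ⟨y, hy, rfl⟩
      refine ⟨⟨x, hx⟩ * y * ⟨x, hx⟩⁻¹, ?_, rfl⟩
      change f _ ∈ normalClosure {a}
      rw [map_mul, map_mul, map_inv]
      exact normalClosure_normal.conj_mem _ hy _
    · rintro _ ⟨y, hy, rfl⟩
      obtain ⟨k, hk⟩ := h1 ⟨f y, hy⟩
      refine ⟨k, ?_⟩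
      have h2 : f (y ^ 2 ^ k) = 1 := by
        rw [map_pow]
        exact congrArg Subtype.val hk
      exact (hf1 _ h2).2)
  obtain ⟨⟨h, hh⟩, rfl⟩ := QuotientGroup.mk'_surjective (C.subgroupOf H) g
  refine ⟨h, hh, fun T hT hT1 hT2 => hg1 ?_⟩
  have hainv : a⁻¹ = a := inv_eq_of_mul_eq_one_left haa
  obtain ⟨k, hk⟩ := hT ⟨u * (h * u * h⁻¹), T.mul_mem hT1 hT2⟩
  have hk' : (u * (h * u * h⁻¹)) ^ 2 ^ k = 1 := congrArg Subtype.val hk
  have h3 : f ((⟨u, hu⟩ : H) * (⟨h, hh⟩ * ⟨u, hu⟩ * ⟨h, hh⟩⁻¹)) = (f ⟨h, hh⟩)⁻¹ ^ 2 := by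
    rw [map_mul, map_mul, map_mul, map_inv, ← ha]
    change a * (f ⟨h, hh⟩ * a * (f ⟨h, hh⟩)⁻¹) = _
    calc a * (f ⟨h, hh⟩ * a * (f ⟨h, hh⟩)⁻¹) = a * f ⟨h, hh⟩ * a * (f ⟨h, hh⟩)⁻¹ := by group
      _ = a * f ⟨h, hh⟩ * a⁻¹ * (f ⟨h, hh⟩)⁻¹ := by rw [hainv]
      _ = (f ⟨h, hh⟩)⁻¹ * (f ⟨h, hh⟩)⁻¹ := by rw [hgi]
      _ = _ := by rw [sq]
  have h4 : ((⟨u, hu⟩ : H) * (⟨h, hh⟩ * ⟨u, hu⟩ * ⟨h, hh⟩⁻¹)) ^ 2 ^ k = 1 := Subtype.ext hk'
  have h5 : (f ⟨h, hh⟩) ^ 2 ^ (k + 1) = 1 := by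
    have := congrArg f h4
    rw [map_pow, h3, map_one, ← pow_mul, inv_pow, inv_eq_one] at this
    rw [pow_succ, mul_comm]
    exact this
  have h6 : orderOf (f ⟨h, hh⟩) ∣ 2 ^ (k + 1) := orderOf_dvd_of_pow_eq_one h5
  have h7 : Nat.Coprime (orderOf (f ⟨h, hh⟩)) (2 ^ (k + 1)) :=
    Nat.Coprime.pow_right _ (Nat.coprime_two_right.2 hgo)
  exact orderOf_eq_one_iff.1 (h7.eq_one_of_dvd h6)

variable {M : Subgroup G} {r t z c : G} {Q N : G → Subgroup G}

omit [Finite G] in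
theorem le_normalizer_N (h : TvH M r t Q N) :
    centralizer ({r} : Set G) ≤ normalizer (N r : Set G) := by
  refine le_normalizer_of fun x hx n hn => ?_
  have h1 := h.Nc x r n hn
  rw [mem_centralizer_singleton_iff] at hx
  have e : x * r * x⁻¹ = r := by
    rw [mul_inv_eq_iff_eq_mul]
    exact hx
  rwa [e] at h1

omit [Finite G] in
/-- two elements in a 2-group, the second normalising -/
theorem common {A : Subgroup G} {u w f : G} (hA : IsPGroup 2 A) (hu : u ∈ A) (hww : w * w = 1)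
    (hAn : ∀ x, x * f = f * x → ∀ a ∈ A, x * a * x⁻¹ ∈ A) (hw : w * f = f * w) :
    ∃ T : Subgroup G, IsPGroup 2 T ∧ u ∈ T ∧ w ∈ T := by
  have h1 : zpowers w ≤ normalizer (A : Set G) := by
    rw [zpowers_le, mem_normalizer_iff]
    intro x
    refine ⟨fun hx => hAn w hw x hx, fun hx => ?_⟩
    have hwi : w⁻¹ = w := inv_eq_of_mul_eq_one_left hww
    have h2 := hAn w hw _ hx
    have e : w * (w * x * w⁻¹) * w⁻¹ = (w * w) * x * (w⁻¹ * w⁻¹) := by group
    rw [e, hwi, hww, one_mul, mul_one] at h2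
    exact h2
  have h2 : IsPGroup 2 (zpowers w) := MinSimple.Basic.isPGroup_zpowers (by rw [sq]; exact hww)
  refine ⟨zpowers w ⊔ A, IsPGroup.to_sup_of_normal_right' h2 hA h1, mem_sup_right hu,
    mem_sup_left (mem_zpowers w)⟩

/-- **the BS-trick, abstract form** -/
theorem eq_of (h : TvH M r t Q N) (hc : JConst M r t Q N c) (hE : JEnd M r Q N c)
    (hred : ∀ K : Subgroup G, K ≤ centralizer ({r} : Set G) →
      centralizer ({r} : Set G) ≤ normalizer (K : Set G) →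
      (∀ x ∈ K, ∃ k : ℕ, x ^ 2 ^ k ∈ centralizer (N r : Set G)) → K ≤ centralizer (N r : Set G))
    (hzN : z ∈ N r) (hz1 : z ≠ 1) (hzz : z * z = 1) (hMz : ∀ m ∈ M, m * z = z * m)
    (hA : ∀ f, f * f = 1 → f ≠ 1 → (∀ m ∈ M, m * f = f * m) →
      ∃ A : Subgroup G, IsPGroup 2 A ∧ UU M r ≤ A ∧ ∀ x, x * f = f * x → ∀ a ∈ A, x * a * x⁻¹ ∈ A) :
    c = z := by
  by_contra hcz
  obtain ⟨hc1, hcU, hcZ, hMc, -⟩ := hc
  have hM : ∀ s ∈ UU M r, s ∈ M := by
    have : UU M r ≤ M := by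
      unfold UU
      rw [closure_le]
      rintro _ ⟨m, hm, rfl⟩
      exact M.mul_mem (M.mul_mem hm (h.Q_le h.r_mem)) (M.inv_mem hm)
    exact this
  obtain ⟨u, hu, huQ⟩ := h.beta
  have huu : u * u = 1 := h.UU_sq hu
  have hrU : r ∈ UU M r := Om_le_UU Om_base
  have hur : u ∈ centralizer ({r} : Set G) := by
    rw [mem_centralizer_singleton_iff]
    exact h.UU_comm hu hrU
  have hun : u ∉ centralizer (N r : Set G) := by
    intro h1
    exact huQ (h.UN u hu fun n hn => (mem_centralizer_iff.1 h1 n hn).symm)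
  obtain ⟨g, hg, hgT⟩ := exists_conj (le_normalizer_N h) hred hur huu hun
  set w := g * u * g⁻¹ with hw
  have hww : w * w = 1 := by
    calc w * w = g * (u * u) * g⁻¹ := by rw [hw]; group
      _ = 1 := by rw [huu]; group
  rw [mem_centralizer_singleton_iff] at hg
  have hgr' : g⁻¹ * r = r * g⁻¹ := by
    calc g⁻¹ * r = g⁻¹ * (r * g) * g⁻¹ := by group
      _ = g⁻¹ * (g * r) * g⁻¹ := by rw [hg]
      _ = _ := by group
  rw [mem_centralizer_singleton_iff] at hur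
  have hwr : w * r = r * w := by
    calc w * r = g * u * (g⁻¹ * r) := by rw [hw]; group
      _ = g * (u * r) * g⁻¹ := by rw [hgr']; group
      _ = (g * r) * u * g⁻¹ := by rw [hur]; group
      _ = _ := by rw [hg, hw]; group
  -- no admissible `f` commutes with `w`
  have key : ∀ f, f * f = 1 → f ≠ 1 → (∀ m ∈ M, m * f = f * m) → w * f ≠ f * w := by
    intro f hf hf1 hfM hwf
    obtain ⟨A, hA1, hA2, hA3⟩ := hA f hf hf1 hfM
    obtain ⟨T, hT, hT1, hT2⟩ := common hA1 (hA2 hu) hww hA3 hwf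
    exact hgT T hT hT1 hT2
  have hNg : ∀ n ∈ N r, g⁻¹ * n * g ∈ N r := by
    intro n hn
    have h1 := h.Nc g⁻¹ r n hn
    have e : g⁻¹ * r * g⁻¹⁻¹ = r := by rw [hgr']; group
    rw [e, inv_inv] at h1
    exact h1
  -- the index of the centraliser of `w`
  have hidx : ∀ m ∈ N r, ∀ n ∈ N r, w * m ≠ m * w → w * n ≠ n * w → w * (m * n) = m * n * w := by
    intro m hm n hn h1 h2
    have mv : ∀ x ∈ N r, w * x ≠ x * w → ∃ v ∈ UU M r, v * (g⁻¹ * x * g) ≠ (g⁻¹ * x * g) * v := by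
      intro x _ hx
      refine ⟨u, hu, fun h3 => hx ?_⟩
      calc w * x = g * (u * (g⁻¹ * x * g)) * g⁻¹ := by rw [hw]; group
        _ = g * ((g⁻¹ * x * g) * u) * g⁻¹ := by rw [h3]
        _ = _ := by rw [hw]; group
    have h3 := hE.2.2 _ (hNg m hm) _ (hNg n hn) (mv m hm h1) (mv n hn h2) u hu
    calc w * (m * n) = g * (u * ((g⁻¹ * m * g) * (g⁻¹ * n * g))) * g⁻¹ := by rw [hw]; group
      _ = g * ((g⁻¹ * m * g) * (g⁻¹ * n * g) * u) * g⁻¹ := by rw [h3]
      _ = _ := by rw [hw]; group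
  -- `r c ∈ N r`
  have hrc : r * c ∈ N r := by
    rw [mem_centralizer_iff] at hun
    push Not at hun
    obtain ⟨n, hn, h1⟩ := hun
    have h2 : u * n * u⁻¹ * n⁻¹ = r * c := by
      rcases hE.1 u hu n hn with h2 | h2
      · exfalso
        apply h1
        have : u * n = n * u := by
          have h3 : u * n * u⁻¹ * n⁻¹ * (n * u) = 1 * (n * u) := by rw [h2]
          simpa [mul_assoc] using h3
        exact this.symm
      · exact h2
    rw [← h2]
    refine mul_mem ?_ (inv_mem hn)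
    have h3 := h.Nc u r n hn
    have e : u * r * u⁻¹ = r := by rw [hur]; group
    rwa [e] at h3
  have hcc : c * c = 1 := h.UU_sq hcU
  have hcr : c * r = r * c := h.UU_comm hcU hrU
  have hcm : c ∈ M := hM c hcU
  have hzc : z * c = c * z := (hMz c hcm).symm
  have h1 : w * z ≠ z * w := key z hzz hz1 hMz
  have h2 : w * c ≠ c * w := key c hcc hc1 hMc
  have h3 : w * (r * c) ≠ r * c * w := by
    intro h4
    apply h2
    have h5 : r * (w * c) = r * (c * w) := by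
      rw [← mul_assoc, ← hwr, mul_assoc, h4, mul_assoc]
    exact mul_left_cancel h5
  have h4 := hidx z hzN (r * c) hrc h1 h3
  -- `w` commutes with `z c`
  have hrz : r * z = z * r := hMz r (h.Q_le h.r_mem)
  have h5 : w * (z * c) = z * c * w := by
    have e1 : z * (r * c) = r * (z * c) := by rw [← mul_assoc, ← hrz, mul_assoc]
    rw [e1] at h4
    have h6 : r * (w * (z * c)) = r * (z * c * w) := by
      rw [← mul_assoc, ← hwr, mul_assoc, h4, mul_assoc]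
    exact mul_left_cancel h6
  refine key (z * c) ?_ ?_ ?_ h5
  · calc z * c * (z * c) = z * (c * z) * c := by group
      _ = z * (z * c) * c := by rw [hzc]
      _ = (z * z) * (c * c) := by group
      _ = 1 := by rw [hzz, hcc, one_mul]
  · intro h6
    apply hcz
    have h7 : z * (z * c) = z * 1 := by rw [h6]
    rw [← mul_assoc, hzz, one_mul, mul_one] at h7
    exact h7
  · intro m hm
    rw [← mul_assoc, hMz m hm, mul_assoc, hMc m hm, mul_assoc]

/-- the groups `A_f = ⟨Ω₁Z(S)^{C(f)}⟩` -/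
theorem exists_A (S : Sylow 2 G) (hG : IsCharacteristicTwoType G) (hSM : (S : Subgroup G) ≤ M)
    (hr : r ∈ zc (S : Subgroup G)) {f : G} (hff : f * f = 1) (hf1 : f ≠ 1)
    (hMf : ∀ m ∈ M, m * f = f * m) :
    ∃ A : Subgroup G, IsPGroup 2 A ∧ UU M r ≤ A ∧ ∀ x, x * f = f * x → ∀ a ∈ A, x * a * x⁻¹ ∈ A := by
  have hM : M ≤ centralizer ({f} : Set G) := by
    intro m hm
    rw [mem_centralizer_singleton_iff]
    exact hMf m hm
  have hloc : IsLoc (S : Subgroup G) (centralizer ({f} : Set G)) :=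
    isLoc_centralizer S (by rw [sq]; exact hff) hf1 (hSM.trans hM)
  refine ⟨zl (S : Subgroup G) (centralizer ({f} : Set G)), ?_, ?_, ?_⟩
  · exact (o2_isPGroup _).to_le ((hloc.zl_le S hG).trans (zc_le _))
  · unfold UU
    rw [closure_le]
    rintro _ ⟨m, hm, rfl⟩
    exact (mem_normalizer_iff.1 (le_normalizer_zl _ _ (hM hm)) r).1 (zc_le_zl _ _ hr)
  · intro x hx a ha
    exact (mem_normalizer_iff.1 (le_normalizer_zl _ _ ((mem_centralizer_singleton_iff).2 hx)) a).1 ha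

/-- **(E): `c₀ = z`.** -/
theorem eq_z (S : Sylow 2 G) (hG : IsCharacteristicTwoType G) (h : TvH M r t Q N)
    (hc : JConst M r t Q N c) (hE : JEnd M r Q N c) {Z₀ : Set G} (hSM : (S : Subgroup G) ≤ M)
    (hr : r ∈ zc (S : Subgroup G)) (hZS : ∀ x ∈ (S : Subgroup G), ∀ y ∈ Z₀, x * y = y * x)
    (hZN : Z₀ ⊆ N r)
    (hNN : N r ≤ closure {x | ∃ g ∈ centralizer ({r} : Set G), ∃ y ∈ Z₀, g * y * g⁻¹ = x})
    (hz : z ∈ Z₀) (hz1 : z ≠ 1) (hzz : z * z = 1) (hMz : ∀ m ∈ M, m * z = z * m) : c = z := by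
  have hSr : (S : Subgroup G) ≤ centralizer ({r} : Set G) := by
    intro x hx
    rw [mem_centralizer_singleton_iff]
    exact ((mem_zc.1 hr).2.1 x hx)
  exact eq_of h hc hE (red_of hSr S.isPGroup' (MinSimple.Basic.not_dvd_relIndex S hSr) hZS
    (le_normalizer_N h) hZN hNN) (hZN hz) hz1 hzz hMz
    fun f hff hf1 hMf => exists_A S hG hSM hr hff hf1 hMf

/-- **(E) in the position `Pos`, `N r = ⟨z^{C(r)}⟩`.** -/
theorem Pos.eq_z {S : Sylow 2 G} {P V : Subgroup G} {ι : Type*} {R : ι → Subgroup G} {o : ι}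
    (p : HTwo.Entry.Pos S P V R o r z) (h : TvH M r t Q N)
    (hc : JConst M r t Q N c) (hE : JEnd M r Q N c) (hSM : (S : Subgroup G) ≤ M)
    (hMz : M ≤ centralizer ({z} : Set G)) (hzN : z ∈ N r)
    (hNN : N r ≤ closure {x | ∃ g ∈ centralizer ({r} : Set G), g * z * g⁻¹ = x}) : c = z := by
  have hSr : (S : Subgroup G) ≤ centralizer ({r} : Set G) := by
    rw [← p.normalizer_eq]
    exact p.S_R
  have hrS : r ∈ zc (S : Subgroup G) := by
    rw [mem_zc]
    have hrS' : r ∈ (S : Subgroup G) := p.toHT.V_le_S (p.toHT.R_le o p.r_mem)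
    exact ⟨hrS', fun s hs => mem_centralizer_singleton_iff.1 (hSr hs), by rw [sq]; exact p.r_sq⟩
  refine BSTrick.eq_z S p.char2 h hc hE (Z₀ := {z}) hSM hrS ?_ ?_ ?_ rfl p.z_ne p.z_sq ?_
  · rintro x hx _ rfl
    exact (mem_zc.1 p.z_mem.1).2.1 x hx
  · rintro _ rfl
    exact hzN
  · refine hNN.trans (closure_mono ?_)
    rintro x ⟨g, hg, e⟩
    exact ⟨g, hg, z, rfl, e⟩
  · intro m hm
    exact mem_centralizer_singleton_iff.1 (hMz hm)

/-- `JEnd` for the constant `z` -/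
theorem Pos.jend {S : Sylow 2 G} {P V : Subgroup G} {ι : Type*} {R : ι → Subgroup G} {o : ι}
    (p : HTwo.Entry.Pos S P V R o r z) (h : TvH M r t Q N)
    (hm : ∃ c, JConst M r t Q N c ∧ JEnd M r Q N c) (hSM : (S : Subgroup G) ≤ M)
    (hMz : M ≤ centralizer ({z} : Set G)) (hzN : z ∈ N r)
    (hNN : N r ≤ closure {x | ∃ g ∈ centralizer ({r} : Set G), g * z * g⁻¹ = x}) :
    JEnd M r Q N z := by
  obtain ⟨c, hc, hE⟩ := hm
  rw [← Pos.eq_z p h hc hE hSM hMz hzN hNN]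
  exact hE

end Cfsg.Agent.Omega.HOneTwo.BSTrick

end

section


/-!
# The BS-trick over a 2-group `S` which is Sylow in `N(R o)` (not in `G`)

Port of `HOneTwo/BSTrick` to `HTT S P V R o`:
* `exists_A` : the 2-group `O₂(C(f)) ≥ U` for `1 ≠ f` centralised by `M ≥ S, X`;
* `eq_z` : `TvH M r t Q N`, `JConst M r t Q N c`, `JEnd M r Q N c`, `S, X ≤ M ≤ C(z)`, `z ∈ Z₀`,
  `N r = ⟨Z₀^{C(r)}⟩` : `c = z`;
* `jend` : `JEnd M r Q N z`.
-/

set_option autoImplicit false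

namespace Cfsg.Agent.Omega.HT.BSTrick

open Subgroup Cfsg Cfsg.Agent.ZN Cfsg.Agent.Omega.MinPar
open Cfsg.Agent.Omega.BTwo hiding UU
open Cfsg.Agent.MinSimple.VModule (o2_isPGroup)
open Cfsg.Agent.Omega.HOne.TvDef
open Cfsg.Agent.Omega.HOne.TvHSide (red_of)
open Cfsg.Agent.Omega.HOneTwo.BSTrick (le_normalizer_N eq_of)

universe u

variable {G : Type u} [Group G] [Finite G] {ι : Type*} {S P V : Subgroup G} {R : ι → Subgroup G} {o : ι}
  {M : Subgroup G} {r t z c : G} {Q N : G → Subgroup G}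

/-- `O₂(C(f)) ≥ U` -/
theorem exists_A (b : HTT S P V R o) (hSM : S ≤ M) (hXM : XX V R ≤ M) (hr : r ∈ R o) {f : G}
    (hff : f * f = 1) (hf1 : f ≠ 1) (hMf : ∀ m ∈ M, m * f = f * m) :
    ∃ A : Subgroup G, IsPGroup 2 A ∧ UU M r ≤ A ∧ ∀ x, x * f = f * x → ∀ a ∈ A, x * a * x⁻¹ ∈ A := by
  have hM : M ≤ centralizer ({f} : Set G) := by
    intro m hm
    rw [mem_centralizer_singleton_iff]
    exact hMf m hm
  have hloc : TLoc S (centralizer ({f} : Set G)) :=
    TLoc.centralizer (by rw [sq]; exact hff) hf1 (hSM.trans hM)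
  have h2 := hloc.char2 b.char2
  have h3 := b.loc _ (hSM.trans hM) (hXM.trans hM) hloc.o2_ne h2
  have hrV : r ∈ V := b.R_le o hr
  have hrf : r ∈ centralizer ({f} : Set G) :=
    hM (hSM (b.V_le_S hrV))
  have hrc : r ∈ centralizer (o2 (centralizer ({f} : Set G)) : Set G) := by
    rw [mem_centralizer_iff]
    intro y hy
    exact (mem_centralizer_iff.1 (h3 hy) r hrV).symm
  have hro : r ∈ o2 (centralizer ({f} : Set G)) := h2 ⟨hrf, hrc⟩
  refine ⟨o2 (centralizer ({f} : Set G)), o2_isPGroup _, ?_, ?_⟩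
  · unfold UU
    rw [closure_le]
    rintro _ ⟨m, hm, rfl⟩
    exact (mem_normalizer_iff.1 (MinSimple.VModule.le_normalizer_o2 _ (hM hm)) r).1 hro
  · intro x hx a ha
    exact (mem_normalizer_iff.1 (MinSimple.VModule.le_normalizer_o2 _
      ((mem_centralizer_singleton_iff).2 hx)) a).1 ha

omit [Finite G] in
/-- `N(R o) = C(r)` -/
theorem normalizer_eq (b : HTT S P V R o) (hr : ∀ x, x ∈ R o ↔ x = 1 ∨ x = r) :
    normalizer (R o : Set G) = centralizer ({r} : Set G) := by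
  have hrR : r ∈ R o := (hr r).2 (Or.inr rfl)
  apply le_antisymm
  · intro x hx
    rw [mem_centralizer_singleton_iff]
    exact (mem_centralizer_iff.1 (HOneTwo.normalizer_le_cen_of_card (b.card_R o) hx) r hrR).symm
  · intro x hx
    rw [mem_centralizer_singleton_iff] at hx
    refine centralizer_le_normalizer _ ?_
    rw [mem_centralizer_iff]
    intro y hy
    rcases (hr y).1 hy with rfl | rfl
    · rw [one_mul, mul_one]
    · exact hx.symm

/-- **`c₀ = z` over `T`** -/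
theorem eq_z (b : HTT S P V R o) (hr : ∀ x, x ∈ R o ↔ x = 1 ∨ x = r) (h : TvH M r t Q N)
    (hc : JConst M r t Q N c) (hE : JEnd M r Q N c) {Z₀ : Set G} (hSM : S ≤ M) (hXM : XX V R ≤ M)
    (hZS : ∀ x ∈ S, ∀ y ∈ Z₀, x * y = y * x) (hZN : Z₀ ⊆ N r)
    (hNN : N r ≤ closure {x | ∃ g ∈ centralizer ({r} : Set G), ∃ y ∈ Z₀, g * y * g⁻¹ = x})
    (hz : z ∈ Z₀) (hz1 : z ≠ 1) (hzz : z * z = 1) (hMz : ∀ m ∈ M, m * z = z * m) : c = z := by
  have hrR : r ∈ R o := (hr r).2 (Or.inr rfl)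
  have hN := normalizer_eq b hr
  have hSr : S ≤ centralizer ({r} : Set G) := by rw [← hN]; exact b.S_R
  have hodd : ¬ 2 ∣ S.relIndex (centralizer ({r} : Set G)) := by rw [← hN]; exact b.S_odd
  exact eq_of h hc hE (red_of hSr b.S_p hodd hZS (le_normalizer_N h) hZN hNN) (hZN hz) hz1 hzz hMz
    fun f hff hf1 hMf => exists_A b hSM hXM hrR hff hf1 hMf

/-- `JEnd` for the constant `z` -/
theorem jend (b : HTT S P V R o) (hr : ∀ x, x ∈ R o ↔ x = 1 ∨ x = r) (h : TvH M r t Q N)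
    (hm : ∃ c, JConst M r t Q N c ∧ JEnd M r Q N c) {Z₀ : Set G} (hSM : S ≤ M) (hXM : XX V R ≤ M)
    (hZS : ∀ x ∈ S, ∀ y ∈ Z₀, x * y = y * x) (hZN : Z₀ ⊆ N r)
    (hNN : N r ≤ closure {x | ∃ g ∈ centralizer ({r} : Set G), ∃ y ∈ Z₀, g * y * g⁻¹ = x})
    (hz : z ∈ Z₀) (hz1 : z ≠ 1) (hzz : z * z = 1) (hMz : ∀ m ∈ M, m * z = z * m) :
    JEnd M r Q N z := by
  obtain ⟨c, hc, hE⟩ := hm
  rw [← eq_z b hr h hc hE hSM hXM hZS hZN hNN hz hz1 hzz hMz]
  exact hE

end Cfsg.Agent.Omega.HT.BSTrick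

end

section


/-!
# II.0h1, `q = 2`, case (α) OVER `T` : (1), (2)

* `core_of_sylow` : `O₂(M / C_M(U)) = 1` for `U = ⟨p^M⟩`, `p` centralised by a 2-group `T ≤ M` of odd index in `M`;
* `exists_cj_S` : 2-subgroups of `L` are conjugate into a 2-group `T ≤ L` of odd index;
* `alpha_two` = (2) : `Q o` induces more than one transvection on `U = ⟨V^{C(z)}⟩`.
-/

set_option autoImplicit false
set_option linter.unusedSectionVars false

namespace Cfsg.Agent.Omega.HT.AlphaOne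

open Subgroup Cfsg Cfsg.Agent.ZN Cfsg.Agent.Omega.BTwo
open Cfsg.Agent.Omega.MinPar Cfsg.Agent.Omega.HOneTwo Cfsg.Agent.Omega.HTwo.Hat Cfsg.Agent.Omega.HTwo.ThmA
open Cfsg.Agent.Omega.HTwo.Par Cfsg.Agent.Omega.HT
open Cfsg.Agent.Omega.HTwo.AlphaOne (ZQ_swap ZQ_not_RC)

universe u

section core

variable {G : Type u} [Group G]

/-- `O₂(M / C_M(U)) = 1` -/
theorem core_of_sylow [Finite G] {T M U O : Subgroup G} (hT : IsPGroup 2 T) (hTM : T ≤ M)
    (hTs : ¬ 2 ∣ T.relIndex M)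
    (hMU : M ≤ normalizer (U : Set G)) {p : G} (hpU : p ∈ U) (hpT : ∀ t ∈ T, p * t = t * p)
    (hU : U ≤ Subgroup.closure {x | ∃ m ∈ M, m * p * m⁻¹ = x}) (hOM : O ≤ M)
    (hMO : M ≤ normalizer (O : Set G)) (hO : ∀ x ∈ O, ∃ k : ℕ, x ^ 2 ^ k ∈ centralizer (U : Set G)) :
    O ≤ centralizer (U : Set G) := by
  have hf : Fact (Nat.Prime 2) := ⟨Nat.prime_two⟩
  -- `O ≤ C(U) (T ∩ O)`
  have hCM : M ≤ normalizer (centralizer (U : Set G) : Set G) :=
    hMU.trans (normalizer_le_normalizer_centralizer U)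
  have h1 : IsPGroup 2 (T.subgroupOf M) := hT.comap_of_injective _ M.subtype_injective
  have hn : (O.subgroupOf M).Normal := normal_subgroupOf_of_le_normalizer hMO
  have hn2 : ((M ⊓ centralizer (U : Set G)).subgroupOf M).Normal :=
    normal_subgroupOf_of_le_normalizer (le_trans (le_inf le_normalizer hCM) inf_normalizer_le_normalizer_inf)
  have h2 := Lib.SylowNormalInf.le_sup_inf (h1.toSylow hTs : Sylow 2 M)
    (O.subgroupOf M) ((M ⊓ centralizer (U : Set G)).subgroupOf M) (fun x hx => by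
      obtain ⟨k, hk⟩ := hO x hx
      exact ⟨k, (x ^ 2 ^ k).2, hk⟩)
  have h3 := Subgroup.map_mono (f := M.subtype) h2
  rw [subgroupOf_map_subtype, inf_eq_left.mpr hOM, Subgroup.map_sup, subgroupOf_map_subtype] at h3
  have h4 : O ≤ centralizer (U : Set G) ⊔ (T ⊓ O) := by
    refine h3.trans (sup_le_sup (inf_le_left.trans inf_le_right) ?_)
    rintro _ ⟨x, hx, rfl⟩
    exact hx
  -- `U ≤ C(T ∩ O)`
  have h5 : U ≤ centralizer ((T ⊓ O : Subgroup G) : Set G) := by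
    refine hU.trans ((closure_le _).2 ?_)
    rintro _ ⟨m, hm, rfl⟩
    obtain ⟨l, hl, n, hn, rfl⟩ := MinSimple.LemXPerm.exists_frattini hTM hT hTs hMO hm
    -- `l = c t`
    have h6 := h4 hl
    have h8 : l ∈ ((centralizer (U : Set G) ⊔ (T ⊓ O) : Subgroup G) : Set G) := h6
    rw [coe_mul_of_right_le_normalizer_left _ _ ((inf_le_left.trans hTM).trans hCM)] at h8
    obtain ⟨c, hc, t, ht, rfl⟩ := h8
    -- `t n = n' ∈ N(T ∩ O)`
    have hnU : (t * n) * p * (t * n)⁻¹ ∈ U :=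
      conj_mem_of_normalizer (hMU (mul_mem (hTM ht.1) hn.1)) hpU
    have e1 : c * t * n * p * (c * t * n)⁻¹ = (t * n) * p * (t * n)⁻¹ := by
      have := mem_centralizer_iff.1 hc _ hnU
      calc c * t * n * p * (c * t * n)⁻¹ = c * ((t * n) * p * (t * n)⁻¹) * c⁻¹ := by group
        _ = _ := by rw [← this, mul_inv_cancel_right]
    change c * t * n * p * (c * t * n)⁻¹ ∈ _
    rw [e1, SetLike.mem_coe, mem_centralizer_iff]
    intro s hs
    have htn : t * n ∈ normalizer ((T ⊓ O : Subgroup G) : Set G) :=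
      mul_mem (le_normalizer ht) hn.2
    have h9 := conj_inv_mem_of_normalizer htn hs
    have h10 := hpT _ h9.1
    calc s * (t * n * p * (t * n)⁻¹) = t * n * ((t * n)⁻¹ * s * (t * n) * p) * (t * n)⁻¹ := by group
      _ = t * n * (p * ((t * n)⁻¹ * s * (t * n))) * (t * n)⁻¹ := by rw [h10]
      _ = _ := by group
  exact h4.trans (sup_le le_rfl (le_centralizer_iff.1 h5))

/-- a 2-subgroup of `L` is conjugate in `L` into a 2-group `T ≤ L` of odd index -/
theorem exists_cj_S [Finite G] {T L B : Subgroup G} (hT : IsPGroup 2 T) (hTL : T ≤ L)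
    (hTs : ¬ 2 ∣ T.relIndex L) (hBL : B ≤ L) (hB : IsPGroup 2 B) :
    ∃ g ∈ L, B ≤ cj g T := by
  have hf : Fact (Nat.Prime 2) := ⟨Nat.prime_two⟩
  have h1 : IsPGroup 2 (T.subgroupOf L) := hT.comap_of_injective _ L.subtype_injective
  have h2 : IsPGroup 2 (B.subgroupOf L) := hB.comap_of_injective _ L.subtype_injective
  obtain ⟨Q, hQ⟩ := h2.exists_le_sylow
  obtain ⟨g, hg⟩ := MulAction.exists_smul_eq L (h1.toSylow hTs : Sylow 2 L) Q
  refine ⟨g, g.2, ?_⟩
  intro x hx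
  have h3 : (⟨x, hBL hx⟩ : L) ∈ (Q : Subgroup L) := hQ (mem_subgroupOf.2 hx)
  rw [← hg] at h3
  rw [mem_cj]
  have h4 : g⁻¹ * ⟨x, hBL hx⟩ * g ∈ ((h1.toSylow hTs : Sylow 2 L) : Subgroup L) := by
    rw [Sylow.coe_subgroup_smul, ← SetLike.mem_coe, Subgroup.coe_pointwise_smul,
      Set.mem_smul_set_iff_inv_smul_mem] at h3
    have h5 : g⁻¹ * ⟨x, hBL hx⟩ * g ∈ (h1.toSylow hTs : Sylow 2 L) := by
      simpa [MulAut.smul_def] using h3
    exact h5
  exact mem_subgroupOf.1 h4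

end core

section two

variable {G : Type u} [Group G] [Finite G] {ι : Type*} {S P V : Subgroup G} {R : ι → Subgroup G} {o : ι}
  (b : HTT S P V R o)
include b

/-- the product of elements of different points lies in the third -/
theorem mul_mem_third {i j k : ι} (hij : i ≠ j) (hik : i ≠ k) (hjk : j ≠ k) {x y : G} (hx : x ∈ R j) (hx1 : x ≠ 1)
    (hy : y ∈ R k) (hy1 : y ≠ 1) : x * y⁻¹ ∈ R i := by
  obtain ⟨l, hl⟩ := b.R_cov (x * y⁻¹) (mul_mem (b.R_le j hx) (inv_mem (b.R_le k hy)))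
  have hne : x * y⁻¹ ≠ 1 := by
    intro h
    rw [mul_inv_eq_one] at h
    subst h
    exact hx1 (b.eq_one hjk hx hy)
  rcases b.eq_of_ne hij hik hjk (l := l) with rfl | rfl | rfl
  · exact hl
  · exfalso
    have h1 : y⁻¹ ∈ R l := by
      have := mul_mem (inv_mem hx) hl
      rwa [inv_mul_cancel_left] at this
    exact hy1 (b.eq_one hjk (by simpa using inv_mem h1) hy)
  · exfalso
    have h1 : x ∈ R l := by
      have := mul_mem hl hy
      rwa [inv_mul_cancel_right] at this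
    exact hx1 (b.eq_one hjk hx h1)

/-- an element of `N(V) ∩ N(R o)` acts trivially on `V / R o` -/
theorem comm_mem_R {s v : G} (hsV : s ∈ normalizer (V : Set G)) (hsR : s ∈ normalizer (R o : Set G)) (hv : v ∈ V) :
    s * v * s⁻¹ * v⁻¹ ∈ R o := by
  obtain ⟨l, hl⟩ := b.R_cov v hv
  by_cases hlo : l = o
  · subst hlo
    exact mul_mem (conj_mem_of_normalizer hsR hl) (inv_mem hl)
  by_cases hv1 : v = 1
  · subst hv1
    have : s * 1 * s⁻¹ * 1⁻¹ = (1 : G) := by group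
    rw [this]; exact one_mem _
  obtain ⟨m, hm⟩ := b.perm s hsV l
  have h1 : s * v * s⁻¹ ∈ R m := by rw [← hm]; exact conj_mem_cj hl
  have hmo : m ≠ o := by
    rintro rfl
    exact hlo (b.R_index (cj_injective (hm.trans (cj_eq_self_iff.2 hsR).symm)))
  have hne : s * v * s⁻¹ ≠ 1 := fun h => hv1 (conj_eq_one_iff.1 h)
  by_cases hml : m = l
  · subst hml
    have h2 : s * v * s⁻¹ = v := eq_of_card_two (b.card_R m) hl hv1 h1 hne
    rw [h2, mul_inv_cancel]; exact one_mem _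
  · exact mul_mem_third b (Ne.symm hmo) (Ne.symm hlo) hml h1 hne hl hv1

/-- **(2)** of #14489 -/
theorem alpha_two (h : ∀ i, LE V R i) {z : G}
    (hz : z ∈ zc S ⊓ centralizer (P : Set G)) (hz1 : z ≠ 1)
    (hα : UM V (centralizer ({z} : Set G)) ≤ QQ (R o)) :
    ∃ a ∈ QQ (R o), ∃ c ∈ QQ (R o), a ∉ centralizer (UM V (centralizer ({z} : Set G)) : Set G) ∧
      c ∉ centralizer (UM V (centralizer ({z} : Set G)) : Set G) ∧
      a * c ∉ centralizer (UM V (centralizer ({z} : Set G)) : Set G) := by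
  by_contra hcon
  push Not at hcon
  set M := centralizer ({z} : Set G) with hM
  set U := UM V M with hU
  obtain ⟨k, hk, H⟩ := b.mt o
  obtain ⟨j, m, hj, hm, hjm⟩ := b.one_lt
  obtain ⟨-, v, hv, ev⟩ := H j m hj hm
  have hzz : z * z = 1 := by rw [← pow_two]; exact (mem_zc.1 hz.1).2.2
  have hzX : z ∈ CenX V R := b.cz_le hz
  have d := b.dt hz hz1
  have hzQ : z ∈ ZQ R o := cenX_le_ZQ b.toBTS h o hzX
  -- conjugate by `k⁻¹`
  have hk' : k⁻¹ ∈ normalizer (R o : Set G) := inv_mem hk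
  set z₁ := k⁻¹ * z * k with hz₁
  have hz₁Q : z₁ ∈ ZQ R o := conj_inv_mem_of_normalizer (N_le_NZQ o hk) hzQ
  have hz₁1 : z₁ ≠ 1 := by
    intro h
    apply hz1
    have : z = k * z₁ * k⁻¹ := by rw [hz₁]; group
    rw [this, h, mul_one, mul_inv_cancel]
  have hz₁z₁ : z₁ * z₁ = 1 := by
    have : z₁ * z₁ = k⁻¹ * (z * z) * k := by rw [hz₁]; group
    rw [this, hzz, mul_one, inv_mul_cancel]
  set U₁ := cj k⁻¹ U with hU₁
  have hQk : cj k⁻¹ (QQ (R o)) = QQ (R o) := cj_eq_self_iff.2 (le_normalizer_O2 _ hk')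
  have hU₁Q : U₁ ≤ QQ (R o) := by
    rw [← hQk]; exact cj_mono hα
  have hone : ∀ a ∈ QQ (R o), ∀ c ∈ QQ (R o), a ∉ centralizer (U₁ : Set G) → c ∉ centralizer (U₁ : Set G) →
      a * c ∈ centralizer (U₁ : Set G) := by
    intro a ha c hc h1 h2
    rw [hU₁, centralizer_cj, mem_cj, inv_inv] at h1 h2 ⊢
    have h3 := hcon (k * a * k⁻¹) (conj_mem_of_normalizer (le_normalizer_O2 _ hk) ha) (k * c * k⁻¹)
      (conj_mem_of_normalizer (le_normalizer_O2 _ hk) hc) h1 h2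
    have e : k * a * k⁻¹ * (k * c * k⁻¹) = k * (a * c) * k⁻¹ := by group
    rwa [e] at h3
  -- `C(z₁)` normalises `U₁`
  have hMU : ∀ g, g * z₁ = z₁ * g → g ∈ normalizer (U₁ : Set G) := by
    intro g hg
    rw [hU₁, normalizer_cj, mem_cj, inv_inv]
    apply le_normalizer_cl V M
    rw [hM, mem_centralizer_singleton_iff]
    calc k * g * k⁻¹ * z = k * (g * z₁) * k⁻¹ := by rw [hz₁]; group
      _ = k * (z₁ * g) * k⁻¹ := by rw [hg]
      _ = z * (k * g * k⁻¹) := by rw [hz₁]; group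
  have hV₁ : cj k⁻¹ V ≤ U₁ := cj_mono (le_cl V M)
  -- `R j` does not centralise `U₁`
  obtain ⟨r₂, hr₂1, hr₂₂, hr₂⟩ := b.exists_gen j
  have hr₂j : r₂ ∈ R j := (hr₂ _).2 (Or.inr rfl)
  have hv₁ : k⁻¹ * v * k ∈ U₁ := by
    have := hV₁ (conj_mem_cj (g := k⁻¹) hv)
    rwa [inv_inv] at this
  have hr₂U : r₂ ∉ centralizer (U₁ : Set G) := by
    intro hc
    have h1 := mem_centralizer_iff.1 hc _ hv₁
    have h2 : k⁻¹ * v * k * r₂ * (k⁻¹ * v * k)⁻¹ ∈ R m := by
      rw [← ev]; exact conj_mem_cj hr₂j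
    rw [h1, mul_inv_cancel_right] at h2
    exact hr₂1 (b.eq_one hjm hr₂j h2)
  -- the group `B`
  have hBN : ZQ R j ≤ normalizer (R o : Set G) := (ZQ_le_cen b.toBT j).trans (b.cen_le_N o)
  set B := ZQ R j ⊓ centralizer ({z₁} : Set G) with hB
  have hBp : IsPGroup 2 B := (O2_isPGroup _).to_le (inf_le_left.trans (ZQ_le j))
  have key : ∀ x ∈ B, ∃ a ∈ R j, a * x ∈ CenX V R := by
    -- a Sylow group
    set L := normalizer (R o : Set G) ⊓ centralizer ({z₁} : Set G) with hL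
    have hSL : cj k⁻¹ S ≤ L := by
      rintro _ ⟨s, hs, rfl⟩
      change k⁻¹ * s * k⁻¹⁻¹ ∈ L
      rw [inv_inv]
      refine ⟨mul_mem (mul_mem hk' (b.S_R hs)) hk, mem_centralizer_singleton_iff.2 ?_⟩
      have h1 : s * z = z * s := (mem_zc.1 hz.1).2.1 s hs
      calc k⁻¹ * s * k * z₁ = k⁻¹ * (s * z) * k := by rw [hz₁]; group
        _ = k⁻¹ * (z * s) * k := by rw [h1]
        _ = _ := by rw [hz₁]; group
    have hSp : IsPGroup 2 (cj k⁻¹ S : Subgroup G) := b.S_p.map _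
    have hSo : ¬ 2 ∣ (cj k⁻¹ S).relIndex L := by
      have h1 : ¬ 2 ∣ (cj k⁻¹ S).relIndex (cj k⁻¹ (normalizer (R o : Set G))) := by
        rw [HTwo.ThmD.relIndex_cj]; exact b.S_odd
      rw [cj_eq_self_iff.2 (le_normalizer hk')] at h1
      exact fun hd => h1 (hd.trans ⟨_, (relIndex_mul_relIndex _ _ _ hSL inf_le_left).symm⟩)
    obtain ⟨g, hg, hBg⟩ := exists_cj_S hSp hSL hSo (inf_le_inf_right _ hBN) hBp
    set k' := g * k⁻¹ with hk'd
    have hk'N : k' ∈ normalizer (R o : Set G) := mul_mem hg.1 hk'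
    have hBS : ∀ x ∈ B, ∃ s ∈ S, x = k' * s * k'⁻¹ := by
      intro x hx
      obtain ⟨y, hy, rfl⟩ := hBg hx
      obtain ⟨s, hs, rfl⟩ : ∃ s ∈ S, k⁻¹ * s * k⁻¹⁻¹ = y := hy
      refine ⟨s, hs, ?_⟩
      change g * (k⁻¹ * s * k⁻¹⁻¹) * g⁻¹ = _
      rw [hk'd]; group
    -- `V* = V^{k'} ≤ U₁`
    set a := k' * r₂ * k'⁻¹ with ha
    have haU : a ∈ U₁ := by
      have h1 := conj_mem_of_normalizer (hMU g (mem_centralizer_singleton_iff.1 hg.2))
        (hV₁ (conj_mem_cj (g := k⁻¹) (b.R_le j hr₂j)))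
      have e : a = g * (k⁻¹ * r₂ * k⁻¹⁻¹) * g⁻¹ := by rw [ha, hk'd]; group
      rw [e]; exact h1
    -- an element of `Q o` moving `a`
    obtain ⟨w, hw, ew⟩ := b.trans o hj hm
    have hwQ := b.W_le_Q o hw
    set q := k' * w * k'⁻¹ with hq
    have hqQ : q ∈ QQ (R o) := conj_mem_of_normalizer (le_normalizer_O2 _ hk'N) hwQ
    have hqa : q * a * q⁻¹ ≠ a := by
      intro h1
      have e : q * a * q⁻¹ = k' * (w * r₂ * w⁻¹) * k'⁻¹ := by rw [hq, ha]; group
      rw [e, ha] at h1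
      have h2 : w * r₂ * w⁻¹ = r₂ := mul_left_cancel (mul_right_cancel h1)
      have h3 : w * r₂ * w⁻¹ ∈ R m := by rw [← ew]; exact conj_mem_cj hr₂j
      rw [h2] at h3
      exact hr₂1 (b.eq_one hjm hr₂j h3)
    have hqU : q ∉ centralizer (U₁ : Set G) := by
      intro hc
      apply hqa
      rw [← mem_centralizer_iff.1 hc a haU, mul_inv_cancel_right]
    have hr₂Q : r₂ ∈ QQ (R o) := b.V_Q o (b.R_le j hr₂j)
    have h1 := hone r₂ hr₂Q q hqQ hr₂U hqU
    have hra : ¬ r₂ * a = a * r₂ := by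
      intro h2
      apply hqa
      have h3 := mem_centralizer_iff.1 h1 a haU
      -- `a (r₂ q) = r₂ q a`
      have h4 : r₂ * (a * q) = r₂ * (q * a) := by
        rw [← mul_assoc, h2, mul_assoc, h3, mul_assoc]
      have h5 := mul_left_cancel h4
      rw [← h5, mul_inv_cancel_right]
    -- `a` maps `R j` to `R m`
    have haQ : a ∈ QQ (R o) := hU₁Q haU
    have haV : a ∈ normalizer (V : Set G) := b.Q_le_NV o haQ
    obtain ⟨l, hl⟩ := b.perm a haV j
    have hlj : l ≠ j := by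
      rintro rfl
      apply hra
      have h2 : a * r₂ * a⁻¹ ∈ R l := by rw [← hl]; exact conj_mem_cj hr₂j
      have h3 : a * r₂ * a⁻¹ ≠ 1 := fun h => hr₂1 (conj_eq_one_iff.1 h)
      have h4 := eq_of_card_two (b.card_R l) hr₂j hr₂1 h2 h3
      rw [mul_inv_eq_iff_eq_mul] at h4
      exact h4.symm
    have hlo : l ≠ o := by
      rintro rfl
      exact hj (b.R_index (cj_injective (hl.trans (cj_eq_self_iff.2 (b.Q_le l haQ)).symm)))
    intro x hx
    obtain ⟨s, hs, ex⟩ := hBS x hx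
    -- `[x, a] ∈ R o`
    have h2 : x * a * x⁻¹ * a⁻¹ ∈ R o := by
      have h3 := conj_mem_of_normalizer hk'N (comm_mem_R b (b.S_V hs) (b.S_R hs) (b.R_le j hr₂j))
      have e : x * a * x⁻¹ * a⁻¹ = k' * (s * r₂ * s⁻¹ * r₂⁻¹) * k'⁻¹ := by rw [ex, ha]; group
      rw [e]; exact h3
    have h3 : x ∈ QQ (R l) := by
      have h4 : a * x * a⁻¹ ∈ QQ (R l) := by
        have h5 : a * x * a⁻¹ ∈ ZQ R l := by
          rw [← cj_ZQ b.toBT hl]; exact conj_mem_cj hx.1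
        exact ZQ_le l h5
      have e : x = (x * a * x⁻¹ * a⁻¹) * (a * x * a⁻¹) := by group
      rw [e]
      exact mul_mem (b.V_Q l (b.R_le o h2)) h4
    exact ZQ_Q b.toBTS (Ne.symm hlj) hx.1 h3
  -- `z₁^σ ∈ B`
  obtain ⟨σ, hσ, eσ⟩ := b.trans m (Ne.symm hm) hjm
  have hσQ := b.W_le_Q m hσ
  have hσV : σ ∈ normalizer (V : Set G) := b.Q_le_NV m hσQ
  have h1 := ZQ_swap b.toBTS h (Ne.symm hj) hσQ eσ hz₁Q hz₁z₁
  have h2 : σ * z₁ * σ⁻¹ ∈ B := by
    refine ⟨?_, ?_⟩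
    · rw [← cj_ZQ b.toBT eσ]; exact conj_mem_cj hz₁Q
    · exact mem_centralizer_singleton_iff.2 h1.symm
  obtain ⟨a, ha, h3⟩ := key _ h2
  -- `z₁ ∈ R o C_X`
  have h4 : σ⁻¹ * a * σ ∈ R o := by
    rw [← eσ] at ha
    exact mem_cj.1 ha
  have h5 : σ⁻¹ * a * σ * z₁ ∈ CenX V R := by
    have h6 := conj_inv_mem_of_normalizer (b.NV_le_NCenX hσV) h3
    have e : σ⁻¹ * (a * (σ * z₁ * σ⁻¹)) * σ = σ⁻¹ * a * σ * z₁ := by group
    rwa [e] at h6
  -- `Z(Q j)` centralises `z₁`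
  have h6 : ZQ R j ≤ B := by
    intro x hx
    refine ⟨hx, mem_centralizer_singleton_iff.2 ?_⟩
    have h7 : σ⁻¹ * a * σ * x = x * (σ⁻¹ * a * σ) := mem_centralizer_iff.1 (ZQ_le_cen b.toBT j hx) _ (b.R_le o h4)
    have h8 : σ⁻¹ * a * σ * z₁ * x = x * (σ⁻¹ * a * σ * z₁) := cenX_Q b.toBTS (h j) h5 (ZQ_le j hx)
    have h9 : σ⁻¹ * a * σ * (z₁ * x) = σ⁻¹ * a * σ * (x * z₁) := by
      rw [← mul_assoc, h8, ← mul_assoc, ← h7, mul_assoc]
    exact (mul_left_cancel h9).symm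
  exact ZQ_not_RC b.toBTS h hzX hz1 j fun l hl => key l (h6 hl)

end two

end Cfsg.Agent.Omega.HT.AlphaOne

end

section


/-!
# II.0h1, `q = 2`, over `T`: the module `Y` of ALPHA in the product case (fill-in `(Z12)` of #18272)

`C = C_G(y)`, `T ≤ C` a 2-group of index at most 2 in every 2-group containing it (not necessarily Sylow in `C`),
`r, v ∈ Z(T)`, `O₂(C) ≤ T`; `T` is Sylow in `C_G(v)`; `E ≤ C` normalises an elementary abelian group `A ∋ v` and is
transitive on `A#`; the involutions of `Z(T)` are `g` or `v g`, `g` centralised by `E`. Then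
`Y = ⟨r^C⟩ ⟨v^C⟩ ≤ Z(O₂(C))` and `O₂(C / C_C(Y)) = 1`: `exists_Y`.
-/

set_option autoImplicit false

namespace Cfsg.Agent.Omega.HT.FillY

open Subgroup Cfsg Cfsg.Agent Cfsg.Agent.ZN Cfsg.Agent.MinSimple.VModule
open Cfsg.Agent.MinSimple.Basic Cfsg.Agent.Omega.BTwo Cfsg.Agent.Omega.HT.TComp
open Cfsg.Agent.Omega.HOneTwo (cl cj_le_cl le_cl le_normalizer_cl cl_le)

variable {G : Type*} [Group G]

theorem le_sup_of_pow [Finite G] {X S D K : Subgroup G} (hS : IsPGroup 2 S)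
    (hSs : ¬ 2 ∣ S.relIndex X) (hDX : D ≤ X) (hD : X ≤ normalizer (D : Set G))
    (hK : X ≤ normalizer (K : Set G)) (h : ∀ x ∈ D, ∃ k : ℕ, x ^ 2 ^ k ∈ K) : D ≤ K ⊔ (S ⊓ D) := by
  have hf : Fact (Nat.Prime 2) := ⟨Nat.prime_two⟩
  have h1 : IsPGroup 2 (S.subgroupOf X) := hS.comap_of_injective _ X.subtype_injective
  have hn : (D.subgroupOf X).Normal := normal_subgroupOf_of_le_normalizer hD
  have hn2 : ((X ⊓ K).subgroupOf X).Normal := by
    refine normal_subgroupOf_of_le_normalizer ?_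
    intro x hx
    rw [← cj_eq_self_iff, cj_inf, cj_eq_self_iff.2 (hK hx), cj_eq_self_iff.2 (le_normalizer hx)]
  have h2 := Lib.SylowNormalInf.le_sup_inf (h1.toSylow hSs : Sylow 2 X)
    (D.subgroupOf X) ((X ⊓ K).subgroupOf X) (fun x hx => by
      obtain ⟨k, hk⟩ := h x hx
      exact ⟨k, (x ^ 2 ^ k).2, hk⟩)
  have h3 := Subgroup.map_mono (f := X.subtype) h2
  rw [subgroupOf_map_subtype, inf_eq_left.mpr hDX, Subgroup.map_sup, subgroupOf_map_subtype] at h3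
  refine h3.trans (sup_le_sup (inf_le_left.trans inf_le_right) ?_)
  rintro _ ⟨x, hx, rfl⟩
  exact hx

/-- elements of `K ⊔ H`, `H` normalising `K` -/
theorem exists_mul {K H : Subgroup G} (h : H ≤ normalizer (K : Set G)) {x : G} (hx : x ∈ K ⊔ H) :
    ∃ k ∈ K, ∃ s ∈ H, x = k * s := by
  let W : Subgroup G :=
    { carrier := {x | ∃ k ∈ K, ∃ s ∈ H, x = k * s}
      one_mem' := ⟨1, K.one_mem, 1, H.one_mem, (one_mul 1).symm⟩
      mul_mem' := by
        rintro _ _ ⟨k, hk, s, hs, rfl⟩ ⟨k', hk', s', hs', rfl⟩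
        refine ⟨k * (s * k' * s⁻¹), K.mul_mem hk (conj_mem_of_normalizer (h hs) hk'), s * s',
          H.mul_mem hs hs', ?_⟩
        group
      inv_mem' := by
        rintro _ ⟨k, hk, s, hs, rfl⟩
        refine ⟨s⁻¹ * k⁻¹ * s⁻¹⁻¹, conj_mem_of_normalizer (h (H.inv_mem hs)) (K.inv_mem hk), s⁻¹,
          H.inv_mem hs, ?_⟩
        group }
  have h1 : K ⊔ H ≤ W := sup_le (fun k hk => ⟨k, hk, 1, H.one_mem, (mul_one k).symm⟩)
    (fun s hs => ⟨1, K.one_mem, s, hs, (one_mul s).symm⟩)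
  exact h1 hx

theorem inv_mul_mem [Finite G] {T L : Subgroup G} (h : T.relIndex L ≤ 2) {a b : G} (ha : a ∈ L) (hb : b ∈ L)
    (ha' : a ∉ T) (hb' : b ∉ T) : a⁻¹ * b ∈ T := by
  have h0 : T.relIndex L ≠ 0 := Nat.card_pos.ne'
  have h1 : T.relIndex L = 1 ∨ T.relIndex L = 2 := by omega
  rcases h1 with h1 | h1
  · exact absurd (relIndex_eq_one.1 h1 ha) ha'
  · have h2 : (T.subgroupOf L).index = 2 := h1
    have h3 := (Subgroup.mul_mem_iff_of_index_two h2 (a := (⟨a, ha⟩ : L)⁻¹) (b := ⟨b, hb⟩)).2 ?_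
    · exact h3
    · rw [inv_mem_iff]
      exact ⟨fun h => absurd h ha', fun h => absurd h hb'⟩

/-- the core: every normal `B ≤ C` whose squares centralise `Y` centralises `r` and `v` -/
theorem core [Finite G] {C T A E Y B : Subgroup G} {r v : G} (hT : IsPGroup 2 T) (hTC : T ≤ C)
    (h2 : ∀ L : Subgroup G, IsPGroup 2 L → T ≤ L → T.relIndex L ≤ 2)
    (hTr : ∀ t ∈ T, t * r = r * t) (hTv : ∀ t ∈ T, t * v = v * t)
    (hodd : ¬ 2 ∣ T.relIndex (centralizer ({v} : Set G)))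
    (hvA : v ∈ A) (hA2 : ∃ a ∈ A, a ≠ 1 ∧ a ≠ v) (hTA : ∀ t ∈ T, ∀ a ∈ A, t * a * t⁻¹ ∈ A)
    (hEC : E ≤ C) (hEA : ∀ e ∈ E, ∀ a ∈ A, e * a * e⁻¹ ∈ A)
    (hE : ∀ a ∈ A, a ≠ 1 → ∃ e ∈ E, e * v * e⁻¹ = a)
    (hz : ∀ f ∈ T, (∀ t ∈ T, t * f = f * t) → f * f = 1 → ∃ g, (∀ e ∈ E, e * g = g * e) ∧ (f = g ∨ f = v * g))
    (hYT : Y ≤ T) (hY2 : ∀ x ∈ Y, x * x = 1) (hCY : C ≤ normalizer (Y : Set G))
    (hrY : r ∈ Y) (hvY : v ∈ Y)
    (hBC : B ≤ C) (hCB : C ≤ normalizer (B : Set G)) (hB : ∀ b ∈ B, ∀ n ∈ Y, b * b * n = n * (b * b)) :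
    ∀ b ∈ B, b * r = r * b ∧ b * v = v * b := by
  have hnor : ∀ c ∈ C, ∀ n ∈ Y, c * n * c⁻¹ ∈ Y := fun c hc n hn => conj_mem_of_normalizer (hCY hc) hn
  have hnB : ∀ c ∈ C, ∀ n ∈ B, c * n * c⁻¹ ∈ B := fun c hc n hn => conj_mem_of_normalizer (hCB hc) hn
  have comm : ∀ x ∈ Y, ∀ y ∈ Y, x * y = y * x := by
    intro x hx y hy
    have h1 := hY2 _ (Y.mul_mem hx hy)
    rw [eq_inv_of_mul_eq_one_left h1, mul_inv_rev, inv_eq_of_mul_eq_one_left (hY2 x hx),
      inv_eq_of_mul_eq_one_left (hY2 y hy)]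
  have hAY : A ≤ Y := by
    intro a ha
    by_cases h1 : a = 1
    · rw [h1]; exact Y.one_mem
    · obtain ⟨e, he, rfl⟩ := hE a ha h1
      exact hnor e (hEC he) v hvY
  have hK : C ≤ normalizer (centralizer (Y : Set G) : Set G) :=
    hCY.trans (normalizer_le_normalizer_centralizer _)
  have hBK : ∀ x ∈ B, ∃ k : ℕ, x ^ 2 ^ k ∈ centralizer (Y : Set G) := by
    intro x hx
    refine ⟨1, ?_⟩
    rw [pow_one, pow_two, mem_centralizer_iff]
    exact fun n hn => (hB x hx n hn).symm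
  -- (I)
  obtain ⟨L, hTL, hLC, hLp, hLo⟩ := exists_syl hT hTC
  have hTL2 := h2 L hLp hTL
  let F : G → Prop := fun b => ∃ k ∈ centralizer (Y : Set G), ∃ t ∈ T, b = k * t
  have hF1 : ∀ x ∈ B, ∀ y ∈ B, ¬ F x → ¬ F y → F (x⁻¹ * y) := by
    have h3 := le_sup_of_pow hLp hLo hBC hCB hK hBK
    have h4 : ∀ x ∈ B, ∃ k ∈ centralizer (Y : Set G), ∃ s ∈ L ⊓ B, x = k * s := fun x hx =>
      exists_mul ((inf_le_left.trans hLC).trans hK) (h3 hx)
    intro x hx y hy hFx hFy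
    obtain ⟨k, hk, s, hs, rfl⟩ := h4 x hx
    obtain ⟨k', hk', s', hs', rfl⟩ := h4 y hy
    have h5 : s⁻¹ * s' ∈ T := inv_mul_mem hTL2 hs.1 hs'.1 (fun h => hFx ⟨k, hk, s, h, rfl⟩)
      (fun h => hFy ⟨k', hk', s', h, rfl⟩)
    refine ⟨s⁻¹ * (k⁻¹ * k') * s⁻¹⁻¹, conj_mem_of_normalizer (hK (hLC (L.inv_mem hs.1)))
      (mul_mem (inv_mem hk) hk'), s⁻¹ * s', h5, by group⟩
  have hF2 : ∀ x, F x → x * v = v * x := by
    rintro _ ⟨k, hk, t, ht, rfl⟩
    have h3 := mem_centralizer_iff.1 hk v hvY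
    rw [mul_assoc, hTv t ht, ← mul_assoc, ← h3, mul_assoc]
  -- (II)
  have hBv : ∀ b ∈ B, b * v = v * b := by
    by_contra hcon
    push Not at hcon
    obtain ⟨b, hb, hbv⟩ := hcon
    have hFb : ¬ F b := fun h => hbv (hF2 b h)
    obtain ⟨w, hw⟩ : ∃ w, w = b * v * b⁻¹ := ⟨_, rfl⟩
    have hwv : w ≠ v := by
      intro h
      apply hbv
      rw [hw] at h
      exact mul_inv_eq_iff_eq_mul.1 h
    have hwY : w ∈ Y := by rw [hw]; exact hnor b (hBC hb) v hvY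
    -- elements of `B` move `v` to `w` or fix `v`
    have hmove : ∀ x ∈ B, ¬ F x → x * v * x⁻¹ = w := by
      intro x hx hFx
      have h3 := hF2 _ (hF1 b hb x hx hFb hFx)
      have h4 : x = b * (b⁻¹ * x) := by group
      rw [h4, hw]
      calc b * (b⁻¹ * x) * v * (b * (b⁻¹ * x))⁻¹ = b * ((b⁻¹ * x) * v) * (b⁻¹ * x)⁻¹ * b⁻¹ := by group
        _ = b * v * b⁻¹ := by rw [h3]; group
    have hfix : ∀ x ∈ B, x * v * x⁻¹ = v ∨ x * v * x⁻¹ = w := by
      intro x hx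
      by_cases h : F x
      · left; rw [hF2 x h]; group
      · right; exact hmove x hx h
    obtain ⟨c, hc⟩ : ∃ c, c = v * w := ⟨_, rfl⟩
    have hcY : c ∈ Y := by rw [hc]; exact Y.mul_mem hvY hwY
    have hc1 : c ≠ 1 := by
      intro h
      apply hwv
      rw [hc] at h
      have h3 := eq_inv_of_mul_eq_one_right h
      rw [h3, inv_eq_of_mul_eq_one_left (hY2 v hvY)]
    have hcT : ∀ t ∈ T, t * c = c * t := by
      intro t ht
      have h3 : t * w * t⁻¹ = w := by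
        have h4 : t * w * t⁻¹ = (t * b * t⁻¹) * v * (t * b * t⁻¹)⁻¹ := by
          have h5 : t⁻¹ * v * t = v := by
            rw [mul_assoc, ← hTv t ht]; group
          rw [hw]
          calc t * (b * v * b⁻¹) * t⁻¹ = t * b * v * b⁻¹ * t⁻¹ := by group
            _ = t * b * (t⁻¹ * v * t) * b⁻¹ * t⁻¹ := by rw [h5]
            _ = _ := by group
        rcases hfix _ (hnB t (hTC ht) b hb) with h5 | h5
        · exfalso
          rw [h5] at h4
          apply hwv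
          have h6 : w = t⁻¹ * (t * w * t⁻¹) * t := by group
          rw [h6, h4, mul_assoc, ← hTv t ht]; group
        · rw [h4, h5]
      rw [hc, ← mul_assoc, hTv t ht, mul_assoc, mul_inv_eq_iff_eq_mul.1 h3]; group
    obtain ⟨g, hgE, hg⟩ := hz c (hYT hcY) hcT (hY2 c hcY)
    -- the pattern on `A`
    have hpat : ∀ x ∈ B, ∀ e ∈ E, x * (e * v * e⁻¹) * x⁻¹ = e * v * e⁻¹ ∨
        x * (e * v * e⁻¹) * x⁻¹ = e * w * e⁻¹ := by
      intro x hx e he
      have h3 : x * (e * v * e⁻¹) * x⁻¹ = e * ((e⁻¹ * x * e⁻¹⁻¹) * v * (e⁻¹ * x * e⁻¹⁻¹)⁻¹) * e⁻¹ := by group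
      rcases hfix _ (hnB e⁻¹ (C.inv_mem (hEC he)) x hx) with h4 | h4
      · left; rw [h3, h4]
      · right; rw [h3, h4]
    obtain ⟨a, ha, ha1, hav⟩ := hA2
    have hvv := hY2 v hvY
    rcases hg with hg | hg
    · -- `c = g` is centralised by `E`
      have hcE : ∀ e ∈ E, e * c * e⁻¹ = c := fun e he => by rw [hg, hgE e he]; group
      have hwc : w = v * c := by rw [hc, ← mul_assoc, hvv, one_mul]
      have hpat' : ∀ x ∈ B, ∀ y ∈ A, x * y * x⁻¹ = y ∨ x * y * x⁻¹ = y * c := by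
        intro x hx y hy
        by_cases hy1 : y = 1
        · left; rw [hy1]; group
        · obtain ⟨e, he, rfl⟩ := hE y hy hy1
          rcases hpat x hx e he with h3 | h3
          · exact Or.inl h3
          · right
            rw [h3, hwc]
            calc e * (v * c) * e⁻¹ = (e * v * e⁻¹) * (e * c * e⁻¹) := by group
              _ = _ := by rw [hcE e he]
      -- `x ∈ A#`, `x ≠ v`, fixed by `b`
      obtain ⟨x, hxA, hx1, hxb⟩ : ∃ x ∈ A, x ≠ 1 ∧ b * x * b⁻¹ = x := by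
        rcases hpat' b hb a ha with h3 | h3
        · exact ⟨a, ha, ha1, h3⟩
        · refine ⟨v * a, A.mul_mem hvA ha, ?_, ?_⟩
          · intro h
            apply hav
            have h4 := eq_inv_of_mul_eq_one_right h
            rw [h4, inv_eq_of_mul_eq_one_left hvv]
          · have h4 : b * (v * a) * b⁻¹ = (b * v * b⁻¹) * (b * a * b⁻¹) := by group
            rw [h4, h3, ← hw, hwc, comm a (hAY ha) c hcY]
            calc v * c * (c * a) = v * (c * c) * a := by group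
              _ = v * a := by rw [hY2 c hcY]; group
      obtain ⟨e, he, hxe⟩ := hE x hxA hx1
      have hb1 : e⁻¹ * b * e⁻¹⁻¹ ∈ B := hnB _ (C.inv_mem (hEC he)) b hb
      obtain ⟨b₁, hb₁⟩ : ∃ b₁, b₁ = e⁻¹ * b * e⁻¹⁻¹ := ⟨_, rfl⟩
      rw [← hb₁] at hb1
      have h5 : b₁ * v * b₁⁻¹ = v := by
        have h6 : b₁ * v * b₁⁻¹ = e⁻¹ * (b * (e * v * e⁻¹) * b⁻¹) * e := by rw [hb₁]; group
        rw [h6, hxe, hxb, ← hxe]; group
      have hFb₁ : F b₁ := by
        by_contra h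
        exact hwv ((hmove b₁ hb1 h).symm.trans h5)
      obtain ⟨k, hk, t, ht, hkt⟩ := hFb₁
      have huA : e⁻¹ * v * e⁻¹⁻¹ ∈ A := hEA _ (E.inv_mem he) v hvA
      obtain ⟨u, hu⟩ : ∃ u, u = e⁻¹ * v * e⁻¹⁻¹ := ⟨_, rfl⟩
      rw [← hu] at huA
      have h6 : b₁ * u * b₁⁻¹ = u * c := by
        have h7 : b₁ * u * b₁⁻¹ = e⁻¹ * (b * v * b⁻¹) * e := by rw [hb₁, hu]; group
        rw [h7, ← hw, hwc, hu]
        have h8 := hcE _ (E.inv_mem he)
        calc e⁻¹ * (v * c) * e = e⁻¹ * v * e⁻¹⁻¹ * (e⁻¹ * c * e⁻¹⁻¹) := by group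
          _ = _ := by rw [h8]
      have h7 : t * u * t⁻¹ = u * c := by
        have h8 := mem_centralizer_iff.1 hk _ (hAY (hTA t ht u huA))
        have h9 : b₁ * u * b₁⁻¹ = k * (t * u * t⁻¹) * k⁻¹ := by rw [hkt]; group
        rw [h9, ← h8] at h6
        rw [← h6]; group
      have hcA : c ∈ A := by
        have h8 := hTA t ht u huA
        rw [h7] at h8
        exact (A.mul_mem_cancel_left huA).1 h8
      obtain ⟨e', he', h8⟩ := hE c hcA hc1
      have h9 : v = c := by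
        have h10 := hcE _ (E.inv_mem he')
        rw [← h8] at h10
        rw [← h8]
        calc v = e'⁻¹ * (e' * v * e'⁻¹) * e'⁻¹⁻¹ := by group
          _ = _ := h10
      obtain ⟨e'', he'', h10⟩ := hE a ha ha1
      rw [h9, hcE _ he''] at h10
      exact hav (h10.symm.trans h9.symm)
    · -- `w = g` is centralised by `E`
      have hwg : w = g := by
        rw [hc] at hg
        exact mul_left_cancel hg
      have hwE : ∀ e ∈ E, e * w * e⁻¹ = w := fun e he => by rw [hwg, hgE e he]; group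
      obtain ⟨x, hxA, hx1, hxv, hxb⟩ : ∃ x ∈ A, x ≠ 1 ∧ x ≠ v ∧ b * x * b⁻¹ ≠ x := by
        by_cases h3 : b * a * b⁻¹ = a
        · refine ⟨v * a, A.mul_mem hvA ha, ?_, ?_, ?_⟩
          · intro h
            apply hav
            have h4 := eq_inv_of_mul_eq_one_right h
            rw [h4, inv_eq_of_mul_eq_one_left hvv]
          · intro h
            exact ha1 (mul_eq_left.1 h)
          · intro h
            have h4 : b * (v * a) * b⁻¹ = (b * v * b⁻¹) * (b * a * b⁻¹) := by group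
            rw [h4, h3, ← hw] at h
            exact hwv (mul_right_cancel h)
        · exact ⟨a, ha, ha1, hav, h3⟩
      obtain ⟨e, he, hxe⟩ := hE x hxA hx1
      rcases hpat b hb e he with h3 | h3
      · rw [hxe] at h3
        exact hxb h3
      · rw [hxe, hwE e he, hw] at h3
        have h4 : x = v := by
          have h5 := mul_right_cancel h3
          exact mul_left_cancel h5
        exact hxv h4
  -- (III)
  have hBcv : B ≤ centralizer ({v} : Set G) := fun b hb => mem_centralizer_singleton_iff.2 (hBv b hb)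
  have hTcv : T ≤ centralizer ({v} : Set G) := fun t ht => mem_centralizer_singleton_iff.2 (hTv t ht)
  have hX : B ⊔ T ≤ centralizer ({v} : Set G) := sup_le hBcv hTcv
  have hXC : B ⊔ T ≤ C := sup_le hBC hTC
  have hXo : ¬ 2 ∣ T.relIndex (B ⊔ T) := by
    intro h
    apply hodd
    rw [← relIndex_mul_relIndex T (B ⊔ T) _ le_sup_right hX]
    exact Dvd.dvd.mul_right h _
  have h3 := le_sup_of_pow hT hXo le_sup_left (hXC.trans hCB) (hXC.trans hK) hBK
  intro b hb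
  refine ⟨?_, hBv b hb⟩
  obtain ⟨k, hk, t, ht, rfl⟩ := exists_mul ((inf_le_left.trans hTC).trans hK) (h3 hb)
  rw [mul_assoc, hTr t ht.1, ← mul_assoc, ← mem_centralizer_iff.1 hk r hrY, mul_assoc]

/-- **the module `Y` of ALPHA in the product case** -/
theorem exists_Y [Finite G] (hG : IsCharacteristicTwoType G) {T A E : Subgroup G} {r v y : G}
    (hT : IsPGroup 2 T) (h2 : ∀ L : Subgroup G, IsPGroup 2 L → T ≤ L → T.relIndex L ≤ 2)
    (hyy : y * y = 1) (hy1 : y ≠ 1) (hTy : ∀ t ∈ T, t * y = y * t)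
    (hrT : r ∈ T) (hrr : r * r = 1) (hr1 : r ≠ 1) (hTr : ∀ t ∈ T, t * r = r * t)
    (hvT : v ∈ T) (hvv : v * v = 1) (hTv : ∀ t ∈ T, t * v = v * t)
    (hodd : ¬ 2 ∣ T.relIndex (centralizer ({v} : Set G)))
    (hvA : v ∈ A) (hA2 : ∃ a ∈ A, a ≠ 1 ∧ a ≠ v) (hTA : ∀ t ∈ T, ∀ a ∈ A, t * a * t⁻¹ ∈ A)
    (hEy : ∀ e ∈ E, e * y = y * e) (hEA : ∀ e ∈ E, ∀ a ∈ A, e * a * e⁻¹ ∈ A)
    (hE : ∀ a ∈ A, a ≠ 1 → ∃ e ∈ E, e * v * e⁻¹ = a)
    (hz : ∀ f ∈ T, (∀ t ∈ T, t * f = f * t) → f * f = 1 → ∃ g, (∀ e ∈ E, e * g = g * e) ∧ (f = g ∨ f = v * g))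
    (ho : o2 (centralizer ({y} : Set G)) ≤ T) :
    ∃ Y ≤ centralizer ({y} : Set G), GSysW (centralizer ({y} : Set G)) Y r := by
  obtain ⟨C, hC⟩ : ∃ C, C = centralizer ({y} : Set G) := ⟨_, rfl⟩
  have hTC : T ≤ C := by rw [hC]; exact fun t ht => mem_centralizer_singleton_iff.2 (hTy t ht)
  have hEC : E ≤ C := by rw [hC]; exact fun t ht => mem_centralizer_singleton_iff.2 (hEy t ht)
  have hloc : TLoc T C := by rw [hC]; exact TLoc.centralizer (by rw [pow_two]; exact hyy) hy1 (hC ▸ hTC)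
  rw [← hC] at ho ⊢
  have key : ∀ x ∈ T, x * x = 1 → (∀ t ∈ T, t * x = x * t) → x ∈ zc (o2 C) := by
    intro x hx hxx hxT
    have h2 : x ∈ centralizer (o2 C : Set G) := mem_centralizer_iff.2 fun s hs => hxT s (ho hs)
    have h3 : x ∈ o2 C := hloc.char2 hG ⟨hTC hx, h2⟩
    exact ZN.mem_zc.2 ⟨h3, fun c hc => mem_centralizer_iff.1 h2 c hc, by rw [pow_two]; exact hxx⟩
  have hCz : C ≤ normalizer (zc (o2 C) : Set G) :=
    (Cfsg.Agent.ZN.le_normalizer_o2 _).trans (ZN.normalizer_le_normalizer_zc _)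
  have hcl : ∀ x : G, x ∈ zc (o2 C) → cl (zpowers x) C ≤ zc (o2 C) := fun x hx =>
    cl_le (by rw [zpowers_le]; exact hx) hCz
  obtain ⟨Y, hY⟩ : ∃ Y, Y = cl (zpowers r) C ⊔ cl (zpowers v) C := ⟨_, rfl⟩
  have hYz : Y ≤ zc (o2 C) := by
    rw [hY]
    exact sup_le (hcl r (key r hrT hrr hTr)) (hcl v (key v hvT hvv hTv))
  have hrY : r ∈ Y := by
    rw [hY]; exact mem_sup_left (le_cl _ _ (mem_zpowers r))
  have hvY : v ∈ Y := by
    rw [hY]; exact mem_sup_right (le_cl _ _ (mem_zpowers v))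
  have hCY : C ≤ normalizer (Y : Set G) := by
    rw [hY]
    intro c hc
    rw [← cj_eq_self_iff, cj_sup, cj_eq_self_iff.2 (le_normalizer_cl _ _ hc),
      cj_eq_self_iff.2 (le_normalizer_cl _ _ hc)]
  have hYo : Y ≤ o2 C := hYz.trans (ZN.zc_le _)
  have hsq : ∀ x ∈ Y, x * x = 1 := fun x hx => by rw [← pow_two]; exact (ZN.mem_zc.1 (hYz hx)).2.2
  have hnor : ∀ c ∈ C, ∀ n ∈ Y, c * n * c⁻¹ ∈ Y := fun c hc n hn => conj_mem_of_normalizer (hCY hc) hn
  refine ⟨Y, hYo.trans (ZN.o2_le _), hsq, hnor, hrY, hr1, ?_⟩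
  intro U hU hCU c hc h1 h2'
  refine chain_of_core hsq hnor ?_ hU hCU hc h1 h2'
  intro B hBC hn hB
  have hCB : C ≤ normalizer (B : Set G) := fun c hc => by
    rw [mem_normalizer_iff]
    intro x
    refine ⟨fun hx => hn c hc x hx, fun hx => ?_⟩
    have h3 := hn _ (C.inv_mem hc) _ hx
    have e : c⁻¹ * (c * x * c⁻¹) * c⁻¹⁻¹ = x := by group
    rwa [e] at h3
  have h3 := core hT hTC h2 hTr hTv hodd hvA hA2 hTA hEC hEA hE hz (hYo.trans ho) hsq hCY hrY hvY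
    hBC hCB hB
  have h4 : Y ≤ centralizer (B : Set G) := by
    have h5 : C ≤ normalizer (centralizer (B : Set G) : Set G) :=
      hCB.trans (normalizer_le_normalizer_centralizer _)
    rw [hY]
    refine sup_le (cl_le ?_ h5) (cl_le ?_ h5)
    · rw [zpowers_le, mem_centralizer_iff]
      exact fun b hb => (h3 b hb).1
    · rw [zpowers_le, mem_centralizer_iff]
      exact fun b hb => (h3 b hb).2
  exact fun b hb n hn => mem_centralizer_iff.1 (h4 hn) b hb

end Cfsg.Agent.Omega.HT.FillY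

end

end

-- merged: Cfsg.Agent.Mrg.Omega.NO3S.CaseLW.QWa
section

section


/-!
# THEOREM QW (helper866, #24897), steps (2'), (2), (3)

The quiet weird `Y` of the case (L), `q = 2`.  `M` is a 2-local over `S`, `Z_M = ⟨Z^M⟩ = zl S M`, `Z = ⟨z⟩`.

* `Tv N c w` : `w` induces `1` or the transvection with centre `c` on `N`;
* `false_of_tv` : the Baer-Suzuki argument of (2);
* `le_o2` : **(2')** `W_e ≤ O₂(C_G(z z_e))`;
* `cent_zl` : **(2)** `Z_M` centralises `U` ((ML) and `false_of_tv`);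
* `le_o2_M` : **(3)** `U ≤ O₂(M)`.
-/

set_option autoImplicit false

namespace Cfsg.Agent.Omega.NO3S.CaseLW.QW

open Subgroup Cfsg Cfsg.Agent.ZN Cfsg.Agent.Omega.MinPar
open Cfsg.Agent.MinSimple.VModule (o2_isPGroup)
open Cfsg.Agent.Omega.HOne.TvHSide (le_normalizer_of le_normalizer_inf_centralizer red_of)
open Cfsg.Agent.Omega.ML.Final (MLK)
open Cfsg.Agent.Omega.ML.GMod (ZD)

universe u

variable {G : Type u} [Group G]

/-- `w` induces `1` or the transvection with centre `c` on `N`. -/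
structure Tv (N : Subgroup G) (c w : G) : Prop where
  tv : ∀ x ∈ N, w * x * w⁻¹ = x ∨ w * x * w⁻¹ = x * c
  cc : w * c = c * w

/-- `(a b)^4` centralises `N` if the centre of `b` lies in the axis of `a`. -/
theorem pow_four {N : Subgroup G} (hsq : ∀ x ∈ N, x * x = 1) (hcm : ∀ x ∈ N, ∀ y ∈ N, x * y = y * x)
    {a b c d : G} (hc : c ∈ N) (hd : d ∈ N) (ha : Tv N c a) (hb : Tv N d b) (had : a * d = d * a) :
    (a * b) ^ 4 ∈ centralizer (N : Set G) := by
  set f := MulAut.conj (a * b) with hf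
  have e1 : ∀ n : G, f n = a * (b * n * b⁻¹) * a⁻¹ := fun n => by
    rw [hf, MulAut.conj_apply]; group
  have had' : a * d * a⁻¹ = d := by rw [had, mul_assoc, mul_inv_cancel, mul_one]
  have hac' : a * c * a⁻¹ = c := by rw [ha.cc, mul_assoc, mul_inv_cancel, mul_one]
  have hbd' : b * d * b⁻¹ = d := by rw [hb.cc, mul_assoc, mul_inv_cancel, mul_one]
  have hmul : ∀ x y : G, a * (x * y) * a⁻¹ = (a * x * a⁻¹) * (a * y * a⁻¹) := fun x y => by group
  have hfd : f d = d := by rw [e1, hbd', had']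
  have hfc : f c = c ∨ f c = c * d := by
    rw [e1]
    rcases hb.tv c hc with h1 | h1
    · rw [h1]; exact Or.inl hac'
    · rw [h1, hmul, hac', had']; exact Or.inr rfl
  have hn : ∀ n ∈ N, f n = n ∨ f n = n * c ∨ f n = n * d ∨ f n = n * c * d := by
    intro n hn
    rw [e1]
    rcases hb.tv n hn with h1 | h1
    · rw [h1]
      rcases ha.tv n hn with h2 | h2
      · exact Or.inl h2
      · exact Or.inr (Or.inl h2)
    · rw [h1, hmul, had']
      rcases ha.tv n hn with h2 | h2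
      · rw [h2]; exact Or.inr (Or.inr (Or.inl rfl))
      · rw [h2]; exact Or.inr (Or.inr (Or.inr rfl))
  have k1 : ∀ x : G, x * c * c = x := fun x => by rw [mul_assoc, hsq c hc, mul_one]
  have k2 : ∀ x : G, x * d * d = x := fun x => by rw [mul_assoc, hsq d hd, mul_one]
  have k3 : ∀ x : G, x * d * c = x * c * d := fun x => by rw [mul_assoc, hcm d hd c hc, ← mul_assoc]
  have h2 : ∀ n ∈ N, f (f n) = n ∨ f (f n) = n * d := by
    intro n hnN
    rcases hn n hnN with h1 | h1 | h1 | h1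
    · rw [h1, h1]; exact Or.inl rfl
    · rw [h1, map_mul, h1]
      rcases hfc with h2 | h2
      · rw [h2, k1]; exact Or.inl rfl
      · rw [h2, ← mul_assoc, k1]; exact Or.inr rfl
    · rw [h1, map_mul, h1, hfd, k2]; exact Or.inl rfl
    · rw [h1, map_mul, map_mul, h1, hfd]
      rcases hfc with h2 | h2
      · rw [h2, k3, k1, k2]; exact Or.inl rfl
      · rw [h2, ← mul_assoc, k3, k1, k2]; exact Or.inr rfl
  have h4 : ∀ n ∈ N, f (f (f (f n))) = n := by
    intro n hnN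
    rcases h2 n hnN with h3 | h3
    · rw [h3, h3]
    · rw [h3, map_mul, map_mul, hfd, hfd, h3, mul_assoc, hsq d hd, mul_one]
  refine mem_centralizer_iff.2 fun n hnN => ?_
  have h5 : (MulAut.conj ((a * b) ^ 4)) n = n := by
    rw [map_pow, pow_succ, pow_succ, pow_succ, pow_one]
    exact h4 n hnN
  rw [MulAut.conj_apply, mul_inv_eq_iff_eq_mul] at h5
  exact h5.symm

/-- two involutions in a common 2-group -/
theorem common' {A : Subgroup G} {u w : G} (hA : IsPGroup 2 A) (hu : u ∈ A) (hww : w * w = 1)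
    (hAn : ∀ a ∈ A, w * a * w⁻¹ ∈ A) : ∃ k : ℕ, (u * w) ^ 2 ^ k = 1 := by
  have h1 : zpowers w ≤ normalizer (A : Set G) := by
    rw [zpowers_le, mem_normalizer_iff]
    intro x
    refine ⟨fun hx => hAn x hx, fun hx => ?_⟩
    have hwi : w⁻¹ = w := inv_eq_of_mul_eq_one_left hww
    have h2 := hAn _ hx
    have e : w * (w * x * w⁻¹) * w⁻¹ = (w * w) * x * (w⁻¹ * w⁻¹) := by group
    rw [e, hwi, hww, one_mul, mul_one] at h2
    exact h2
  have h2 : IsPGroup 2 (zpowers w) := MinSimple.Basic.isPGroup_zpowers (by rw [sq]; exact hww)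
  have h3 := IsPGroup.to_sup_of_normal_right' h2 hA h1
  obtain ⟨k, hk⟩ := h3 ⟨u * w, mul_mem (mem_sup_right hu) (mem_sup_left (mem_zpowers w))⟩
  exact ⟨k, congrArg Subtype.val hk⟩

section fin

variable [Finite G]

/-- **Baer-Suzuki for an involution of `H` acting on `NN`**, strong form. -/
theorem exists_odd {H NN : Subgroup G} (hNH : H ≤ normalizer (NN : Set G))
    (hred : ∀ K : Subgroup G, K ≤ H → H ≤ normalizer (K : Set G) →
      (∀ x ∈ K, ∃ k : ℕ, x ^ 2 ^ k ∈ centralizer (NN : Set G)) → K ≤ centralizer (NN : Set G))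
    {u : G} (hu : u ∈ H) (huu : u * u = 1) (hun : u ∉ centralizer (NN : Set G)) :
    ∃ h ∈ H, ∀ k : ℕ, (u * (h * u * h⁻¹)) ^ 2 ^ k ∉ centralizer (NN : Set G) := by
  have hCH := le_normalizer_inf_centralizer hNH
  set C : Subgroup G := H ⊓ centralizer (NN : Set G) with hC
  have hn : (C.subgroupOf H).Normal := normal_subgroupOf_of_le_normalizer hCH
  set f := QuotientGroup.mk' (C.subgroupOf H) with hf
  have hf1 : ∀ y : H, f y = 1 ↔ (y : G) ∈ C := by
    intro y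
    exact QuotientGroup.eq_one_iff (N := C.subgroupOf H) y
  set a := f ⟨u, hu⟩ with ha
  have haa : a * a = 1 := by
    rw [ha, ← map_mul]
    have : (⟨u, hu⟩ : H) * ⟨u, hu⟩ = 1 := Subtype.ext huu
    rw [this, map_one]
  obtain ⟨g, hg1, hgo, hgi⟩ := Involutions.BaerSuzuki.exists_odd_inverted a haa (by
    intro h1
    have h2 := hred (((normalClosure {a}).comap f).map H.subtype) (map_subtype_le _) ?_ ?_
    · have h3 : u ∈ ((normalClosure {a}).comap f).map H.subtype :=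
        ⟨⟨u, hu⟩, subset_normalClosure rfl, rfl⟩
      exact hun (h2 h3)
    · refine le_normalizer_of ?_
      rintro x hx _ ⟨y, hy, rfl⟩
      refine ⟨⟨x, hx⟩ * y * ⟨x, hx⟩⁻¹, ?_, rfl⟩
      change f _ ∈ normalClosure {a}
      rw [map_mul, map_mul, map_inv]
      exact normalClosure_normal.conj_mem _ hy _
    · rintro _ ⟨y, hy, rfl⟩
      obtain ⟨k, hk⟩ := h1 ⟨f y, hy⟩
      refine ⟨k, ?_⟩
      have h2 : f (y ^ 2 ^ k) = 1 := by
        rw [map_pow]
        exact congrArg Subtype.val hk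
      exact ((hf1 _).1 h2).2)
  obtain ⟨⟨h, hh⟩, rfl⟩ := QuotientGroup.mk'_surjective (C.subgroupOf H) g
  refine ⟨h, hh, fun k hk' => hg1 ?_⟩
  have hainv : a⁻¹ = a := inv_eq_of_mul_eq_one_left haa
  have h3 : f ((⟨u, hu⟩ : H) * (⟨h, hh⟩ * ⟨u, hu⟩ * ⟨h, hh⟩⁻¹)) = (f ⟨h, hh⟩)⁻¹ ^ 2 := by
    rw [map_mul, map_mul, map_mul, map_inv, ← ha]
    change a * (f ⟨h, hh⟩ * a * (f ⟨h, hh⟩)⁻¹) = _
    calc a * (f ⟨h, hh⟩ * a * (f ⟨h, hh⟩)⁻¹) = a * f ⟨h, hh⟩ * a * (f ⟨h, hh⟩)⁻¹ := by group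
      _ = a * f ⟨h, hh⟩ * a⁻¹ * (f ⟨h, hh⟩)⁻¹ := by rw [hainv]
      _ = (f ⟨h, hh⟩)⁻¹ * (f ⟨h, hh⟩)⁻¹ := by rw [hgi]
      _ = _ := by rw [sq]
  have h4 : f (((⟨u, hu⟩ : H) * (⟨h, hh⟩ * ⟨u, hu⟩ * ⟨h, hh⟩⁻¹)) ^ 2 ^ k) = 1 := by
    refine (hf1 _).2 ⟨?_, ?_⟩
    · exact Subtype.prop _
    · exact hk'
  have h5 : (f ⟨h, hh⟩) ^ 2 ^ (k + 1) = 1 := by
    rw [map_pow, h3, ← pow_mul, inv_pow, inv_eq_one] at h4
    rw [pow_succ, mul_comm]
    exact h4
  have h6 : orderOf (f ⟨h, hh⟩) ∣ 2 ^ (k + 1) := orderOf_dvd_of_pow_eq_one h5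
  have h7 : Nat.Coprime (orderOf (f ⟨h, hh⟩)) (2 ^ (k + 1)) :=
    Nat.Coprime.pow_right _ (Nat.coprime_two_right.2 hgo)
  exact orderOf_eq_one_iff.1 (h7.eq_one_of_dvd h6)

/-- **The Baer-Suzuki argument of (2).** -/
theorem false_of_tv {M N : Subgroup G} (hMN : M ≤ normalizer (N : Set G)) (hsq : ∀ x ∈ N, x * x = 1)
    (hred : ∀ K : Subgroup G, K ≤ M → M ≤ normalizer (K : Set G) →
      (∀ x ∈ K, ∃ k : ℕ, x ^ 2 ^ k ∈ centralizer (N : Set G)) → K ≤ centralizer (N : Set G))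
    {w c z : G} (hw : w ∈ M) (hww : w * w = 1) (hwn : w ∉ centralizer (N : Set G)) (hT : Tv N c w) (hz : z ∈ N)
    {A A' : Subgroup G} (hA : IsPGroup 2 A) (hwA : w ∈ A)
    (hAn : ∀ x ∈ M, x * z = z * x → ∀ a ∈ A, x * a * x⁻¹ ∈ A)
    (hA' : IsPGroup 2 A') (hwA' : w ∈ A')
    (hAn' : ∀ x ∈ M, x * (z * c) = z * c * x → ∀ a ∈ A', x * a * x⁻¹ ∈ A') : False := by
  have hcm : ∀ x ∈ N, ∀ y ∈ N, x * y = y * x := by
    intro x hx y hy
    have h1 := hsq _ (N.mul_mem hx hy)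
    have h2 : x⁻¹ = x := inv_eq_of_mul_eq_one_left (hsq x hx)
    have h3 : y⁻¹ = y := inv_eq_of_mul_eq_one_left (hsq y hy)
    have h4 : (x * y)⁻¹ = x * y := inv_eq_of_mul_eq_one_left h1
    rw [mul_inv_rev, h2, h3] at h4
    exact h4.symm
  have hc : c ∈ N := by
    by_contra hcN
    apply hwn
    refine mem_centralizer_iff.2 fun n hn => ?_
    rcases hT.tv n hn with h1 | h1
    · rw [mul_inv_eq_iff_eq_mul] at h1
      exact h1.symm
    · exfalso
      apply hcN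
      have h2 : w * n * w⁻¹ ∈ N := (mem_normalizer_iff.1 (hMN hw) n).1 hn
      rw [h1] at h2
      have h3 := N.mul_mem (N.inv_mem hn) h2
      rwa [inv_mul_cancel_left] at h3
  obtain ⟨h, hh, hk⟩ := exists_odd hMN hred hw hww hwn
  set v := h * w * h⁻¹ with hv
  set d := h * c * h⁻¹ with hd
  have hdN : d ∈ N := (mem_normalizer_iff.1 (hMN hh) c).1 hc
  have hvM : v ∈ M := M.mul_mem (M.mul_mem hh hw) (M.inv_mem hh)
  have hvv : v * v = 1 := by
    rw [hv]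
    calc h * w * h⁻¹ * (h * w * h⁻¹) = h * (w * w) * h⁻¹ := by group
      _ = 1 := by rw [hww, mul_one, mul_inv_cancel]
  have hTv : Tv N d v := by
    constructor
    · intro x hx
      have h1 : h⁻¹ * x * h ∈ N := by
        have := (mem_normalizer_iff.1 (hMN (M.inv_mem hh)) x).1 hx
        rwa [inv_inv] at this
      have e : v * x * v⁻¹ = h * (w * (h⁻¹ * x * h) * w⁻¹) * h⁻¹ := by rw [hv]; group
      rcases hT.tv _ h1 with h2 | h2
      · left
        rw [e, h2]; group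
      · right
        rw [e, h2, hd]; group
    · rw [hv, hd]
      calc h * w * h⁻¹ * (h * c * h⁻¹) = h * (w * c) * h⁻¹ := by group
        _ = h * (c * w) * h⁻¹ := by rw [hT.cc]
        _ = _ := by group
  have hwi : w⁻¹ = w := inv_eq_of_mul_eq_one_left hww
  have hvi : v⁻¹ = v := inv_eq_of_mul_eq_one_left hvv
  -- `v` moves `c`
  have hvc : ¬ v * c = c * v := by
    intro h1
    have h2 := pow_four hsq hcm hdN hc hTv hT h1
    apply hk 2
    have h3 : (w * v) ^ 4 = ((v * w) ^ 4)⁻¹ := by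
      rw [← inv_pow, mul_inv_rev, hwi, hvi]
    change (w * v) ^ 4 ∈ _
    rw [h3]
    exact inv_mem h2
  -- `v` moves `z`
  have hvz : ¬ v * z = z * v := by
    intro h1
    obtain ⟨k, hk1⟩ := common' hA hwA hvv (hAn v hvM h1)
    apply hk k
    rw [hk1]
    exact one_mem _
  have e1 : v * z * v⁻¹ = z * d := by
    rcases hTv.tv z hz with h1 | h1
    · exact absurd ((mul_inv_eq_iff_eq_mul).1 h1) hvz
    · exact h1
  have e2 : v * c * v⁻¹ = c * d := by
    rcases hTv.tv c hc with h1 | h1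
    · exact absurd ((mul_inv_eq_iff_eq_mul).1 h1) hvc
    · exact h1
  have e3 : v * (z * c) = z * c * v := by
    rw [← mul_inv_eq_iff_eq_mul]
    calc v * (z * c) * v⁻¹ = (v * z * v⁻¹) * (v * c * v⁻¹) := by group
      _ = z * d * (c * d) := by rw [e1, e2]
      _ = z * (d * c) * d := by group
      _ = z * (c * d) * d := by rw [hcm d hdN c hc]
      _ = z * c * (d * d) := by group
      _ = z * c := by rw [hsq d hdN, mul_one]
  obtain ⟨k, hk1⟩ := common' hA' hwA' hvv (hAn' v hvM e3)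
  apply hk k
  rw [hk1]
  exact one_mem _

omit [Finite G] in
theorem o2_conj_mem {L : Subgroup G} {g a : G} (hg : g ∈ L) (ha : a ∈ o2 L) : g * a * g⁻¹ ∈ o2 L :=
  (mem_normalizer_iff.1 (MinSimple.VModule.le_normalizer_o2 L hg) a).1 ha

omit [Finite G] in
/-- **(2')** `W_e ≤ O₂(C_G(z z_e))`: `B = C_S(Z_J)` is normal in every 2-group over it, `N_G(B) ≤ C_G(z)`, `B ≤ C(z_e)`,
the elements of `W_e` are conjugate to `z_e` in `C_G(z z_e)`. -/
theorem le_o2 (hG : IsCharacteristicTwoType G) {B : Subgroup G} (hB : IsPGroup 2 B)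
    (wc : ∀ R : Subgroup G, IsPGroup 2 R → B ≤ R → R ≤ normalizer (B : Set G))
    {z e : G} (hz : z * z = 1) (he : e * e = 1) (hze : z * e = e * z) (hne : z ≠ e)
    (nz : ∀ g ∈ normalizer (B : Set G), g * z = z * g) (Be : ∀ b ∈ B, b * e = e * b)
    {W : Subgroup G} (hW : ∀ w ∈ W, w ≠ 1 → ∃ g : G, g * (z * e) = z * e * g ∧ w = g * e * g⁻¹) :
    W ≤ o2 (centralizer ({z * e} : Set G)) := by
  set H := centralizer ({z * e} : Set G) with hH
  have hze2 : (z * e) ^ 2 = 1 := by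
    rw [sq]
    calc z * e * (z * e) = z * (e * z) * e := by group
      _ = z * (z * e) * e := by rw [hze]
      _ = (z * z) * (e * e) := by group
      _ = 1 := by rw [hz, he, mul_one]
  have hze1 : z * e ≠ 1 := by
    intro h1
    apply hne
    have h2 : z = e⁻¹ := eq_inv_of_mul_eq_one_left h1
    rw [h2]
    exact inv_eq_of_mul_eq_one_left he
  have hBH : B ≤ H := by
    intro b hb
    rw [hH, mem_centralizer_singleton_iff]
    rw [← mul_assoc, nz b (le_normalizer hb), mul_assoc, Be b hb, mul_assoc]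
  have h1 : IsPGroup 2 (B ⊔ o2 H : Subgroup G) :=
    IsPGroup.to_sup_of_normal_right' hB (o2_isPGroup H) (hBH.trans (MinSimple.VModule.le_normalizer_o2 H))
  have h2 : o2 H ≤ normalizer (B : Set G) := le_sup_right.trans (wc _ h1 le_sup_left)
  have heH : e ∈ H := by
    rw [hH, mem_centralizer_singleton_iff]
    rw [← mul_assoc, ← hze, mul_assoc]
  have he1 : e ∈ o2 H := by
    refine MinSimple.Basic.char2_centralizer hG hze2 hze1 ⟨heH, mem_centralizer_iff.2 fun x hx => ?_⟩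
    have h3 : x * z = z * x := nz x (h2 hx)
    have h4 : x * (z * e) = z * e * x := (mem_centralizer_singleton_iff.1 (o2_le H hx))
    rw [← mul_assoc, h3, mul_assoc, mul_assoc] at h4
    exact mul_left_cancel h4
  intro w hw
  by_cases hw1 : w = 1
  · rw [hw1]; exact one_mem _
  · obtain ⟨g, hg, rfl⟩ := hW w hw hw1
    exact o2_conj_mem (mem_centralizer_singleton_iff.2 hg) he1

omit [Finite G] in
theorem zl_le_closure (S M : Subgroup G) : zl S M ≤ closure {x | ∃ g ∈ M, ∃ z ∈ (zc S : Set G), g * z * g⁻¹ = x} := by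
  refine iSup_le fun g => ?_
  rintro _ ⟨x, hx, rfl⟩
  exact subset_closure ⟨g, g.2, x, hx, rfl⟩

variable (S : Sylow 2 G) {M : Subgroup G}

/-- `Q_Z ≤ O₂(C_M(Z))` -/
theorem oz_le (hM : (S : Subgroup G) ≤ M) (hS : (S : Subgroup G) ≠ ⊥) :
    o2 (centralizer (zc (S : Subgroup G) : Set G)) ≤ o2 (M ⊓ centralizer (zc (S : Subgroup G) : Set G)) := by
  refine MinSimple.VModule.le_o2 (le_inf (((isLoc_centralizer_zc S hS).o2_le S).trans hM) (o2_le _)) (o2_isPGroup _)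
    (inf_le_right.trans (MinSimple.VModule.le_normalizer_o2 _))

/-- `Z_M` is 2-reduced. -/
theorem red_zl (h : (S : Subgroup G) ≤ M) (K : Subgroup G) (hKM : K ≤ M) (hMK : M ≤ normalizer (K : Set G))
    (hK : ∀ x ∈ K, ∃ k : ℕ, x ^ 2 ^ k ∈ centralizer (zl (S : Subgroup G) M : Set G)) :
    K ≤ centralizer (zl (S : Subgroup G) M : Set G) :=
  red_of (Z₀ := (zc (S : Subgroup G) : Set G)) h S.isPGroup' (MinSimple.Basic.not_dvd_relIndex S h)
    (fun x hx _ hz => (ChoiceBase.mem_zc.1 hz).2.2 x hx) (le_normalizer_zl _ _)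
    (MinSimple.VModule.zc_le_zl _ _) (zl_le_closure _ _) K hKM hMK hK

/-- **(2)** `Z_M` centralises `U ≤ O₂(C_M(Z))`. -/
theorem cent_zl (hG : IsCharacteristicTwoType G) (ml : MLK.{u, u}) (h : IsLoc (S : Subgroup G) M) (hK : IsKGroup M)
    {z : G} (hz : z ∈ zc (S : Subgroup G)) (hu : ∀ x ∈ zc (S : Subgroup G), x ≠ 1 → x = z)
    {U : Subgroup G} (hU2 : ∀ x ∈ U, x * x = 1)
    (hUO : U ≤ o2 (M ⊓ centralizer (zc (S : Subgroup G) : Set G)))
    (hex : (centralizer (zl (S : Subgroup G) M : Set G)).relIndex U ≤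
        (centralizer (U : Set G)).relIndex (zl (S : Subgroup G) M) →
      ¬ U ≤ centralizer (zl (S : Subgroup G) M : Set G) →
        ∃ w ∈ U, ∃ c : G, w ∉ centralizer (zl (S : Subgroup G) M : Set G) ∧ Tv (zl (S : Subgroup G) M) c w ∧
          w ∈ o2 (centralizer ({z * c} : Set G))) :
    U ≤ centralizer (zl (S : Subgroup G) M : Set G) := by
  by_contra hn
  have hsq : ∀ v ∈ zl (S : Subgroup G) M, v * v = 1 := fun v hv => by
    have h1 := (ChoiceBase.mem_zc.1 (IsLoc.zl_le S hG h hv)).2.1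
    rwa [sq] at h1
  have D : ZD M (zl (S : Subgroup G) M) (zc (S : Subgroup G)) (S : Subgroup G) U :=
    { nV := le_normalizer_zl _ _
      sq := hsq
      ZV := MinSimple.VModule.zc_le_zl _ _
      gen := fun X h1 h2 => MinSimple.VModule.zl_le h1 h2
      TL := h.le
      two := S.isPGroup'
      odd := MinSimple.Basic.not_dvd_relIndex S h.le
      TZ := le_centralizer_zc _
      AO := hUO
      Asq := fun a ha => by rw [hU2 a ha]; exact one_mem _ }
  obtain ⟨w, hw, c, hwn, hT, hwo⟩ := hex (D.gml ml hK) hn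
  have hzl : z ∈ zl (S : Subgroup G) M := MinSimple.VModule.zc_le_zl _ _ hz
  refine false_of_tv (le_normalizer_zl _ _) hsq (red_zl S h.le) (((hUO.trans (o2_le _)).trans inf_le_left) hw)
    (hU2 w hw) hwn hT hzl (o2_isPGroup _) (hUO hw) ?_ (o2_isPGroup _) hwo ?_
  · intro x hx hxz a ha
    refine o2_conj_mem ⟨hx, mem_centralizer_iff.2 fun y hy => ?_⟩ ha
    by_cases hy1 : y = 1
    · rw [hy1, one_mul, mul_one]
    · rw [hu y hy hy1]; exact hxz.symm
  · intro x _ hxz a ha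
    exact o2_conj_mem (mem_centralizer_singleton_iff.2 hxz) ha

/-- **(3)** `U ≤ O₂(M)`. -/
theorem le_o2_M (h : (S : Subgroup G) ≤ M) (hS : (S : Subgroup G) ≠ ⊥) {U : Subgroup G}
    (hU : U ≤ centralizer (zl (S : Subgroup G) M : Set G))
    (hUQ : U ≤ o2 (centralizer (zc (S : Subgroup G) : Set G))) : U ≤ o2 M := by
  have hQM : o2 (centralizer (zc (S : Subgroup G) : Set G)) ≤ M := ((isLoc_centralizer_zc S hS).o2_le S).trans h
  set Q := o2 (centralizer (zc (S : Subgroup G) : Set G)) with hQ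
  set C := M ⊓ centralizer (zl (S : Subgroup G) M : Set G) with hC
  have hCz : C ≤ centralizer (zc (S : Subgroup G) : Set G) :=
    inf_le_right.trans (centralizer_le (MinSimple.VModule.zc_le_zl _ _))
  have hMC : M ≤ normalizer (C : Set G) := le_normalizer_inf_centralizer (le_normalizer_zl _ _)
  have h1 : Q ⊓ C ≤ o2 C := by
    refine MinSimple.VModule.le_o2 inf_le_right ((o2_isPGroup _).to_le inf_le_left) ?_
    refine le_normalizer_of fun a ha b hb => ⟨?_, C.mul_mem (C.mul_mem ha hb.2) (C.inv_mem ha)⟩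
    exact o2_conj_mem (hCz ha) hb.1
  have h2 : o2 C ≤ o2 M :=
    MinSimple.VModule.le_o2 ((o2_le _).trans inf_le_left) (o2_isPGroup _)
      (hMC.trans (normalizer_le_normalizer_o2 C))
  exact fun x hx => h2 (h1 ⟨hUQ hx, hQM (hUQ hx), hU hx⟩)

end fin

end Cfsg.Agent.Omega.NO3S.CaseLW.QW

end

section


/-!
# THEOREM QW for every `q`, line (2): the odd-order lemma (helper276)

`H` normalises the elementary abelian 2-group `N` (additively a module), `O₂(H/C_H(N)) = 1`, `u ∈ H` is an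
involution, `z ∈ C_N(u)`.  If `u` moves `N`, then Baer-Suzuki gives a conjugate `w = h u h⁻¹` (`h ∈ H`) with
`⟨u, w⟩` no 2-group and `h` inverted by `u` and of odd order modulo `C_H(N)`.  The norm `z_c := ∏ h^i z h^-i`
is fixed by `u` and `w`, and `z_c ∈ z [N, u]`.

* `exists_avg` : `∃ c ∈ C, z c` commutes with `u` and `h` (`C` = any subgroup with `n (u n u⁻¹) ∈ C`, `n ∈ N`);
* `exists_conj_avg` : the above together with Baer-Suzuki;
* `le_cent` : if for all `c ∈ C` some 2-group normalised by `C_G(z c)` contains `u`, then `u` centralises `N`.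

No transvections, no field: the same lemma serves `q = 2`, `q ≥ 4` and `S_n`.
-/

set_option autoImplicit false

namespace Cfsg.Agent.Omega.NO3S.CaseLW.Odd

open Subgroup Cfsg

universe u

/-- the norm, in a commutative group -/
theorem avg {A : Type*} [CommGroup A] (U H : A →* A) (hUHUH : ∀ x, U (H (U (H x))) = x)
    (hUU : ∀ x, U (U x) = x) {m : ℕ} (hm : ∀ x, H^[2 * m + 1] x = x) {z : A} (hz : U z = z)
    (D : Subgroup A) (hD : ∀ x, x * U x ∈ D) : ∃ c ∈ D, U (z * c) = z * c ∧ H (z * c) = z * c := by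
  have hHU : ∀ x, H (U (H x)) = U x := by
    intro x
    have h1 := hUU (H (U (H x)))
    rw [hUHUH] at h1
    exact h1.symm
  have hiter : ∀ (i : ℕ) (x : A), H^[i] (U (H^[i] x)) = U x := by
    intro i
    induction i with
    | zero => intro x; rfl
    | succ i ih =>
      intro x
      rw [Function.iterate_succ_apply' H i x, Function.iterate_succ_apply H i, hHU, ih]
  have hUx : ∀ i, i ≤ 2 * m + 1 → U (H^[i] z) = H^[2 * m + 1 - i] z := by
    intro i hi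
    have h1 := hm (U (H^[i] z))
    have e : H^[2 * m + 1] (U (H^[i] z)) = H^[2 * m + 1 - i] (H^[i] (U (H^[i] z))) := by
      rw [← Function.iterate_add_apply, Nat.sub_add_cancel hi]
    rw [← h1, e, hiter, hz]
  refine ⟨∏ i ∈ Finset.range m, (H^[i + 1] z * U (H^[i + 1] z)), ?_, ?_, ?_⟩
  · exact D.prod_mem fun i _ => hD _
  · rw [map_mul, hz, map_prod]
    congr 1
    refine Finset.prod_congr rfl fun i _ => ?_
    rw [map_mul, hUU, mul_comm]
  · set s := ∏ j ∈ Finset.range (2 * m + 1), H^[j] z with hs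
    have hs1 : z * ∏ i ∈ Finset.range m, (H^[i + 1] z * U (H^[i + 1] z)) = s := by
      rw [hs, Finset.prod_range_succ', Finset.prod_mul_distrib, mul_comm]
      have e0 : H^[0] z = z := rfl
      rw [e0]
      congr 1
      rw [two_mul, Finset.prod_range_add]
      congr 1
      rw [← Finset.prod_range_reflect]
      refine Finset.prod_congr rfl fun i hi => ?_
      have hi' := Finset.mem_range.1 hi
      rw [hUx _ (by omega)]
      congr 2
      omega
    rw [hs1, hs, map_prod]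
    have e3 : ∀ j, H (H^[j] z) = H^[j + 1] z := fun j => (Function.iterate_succ_apply' H j z).symm
    rw [Finset.prod_congr rfl fun j _ => e3 j]
    have e4 := Finset.prod_range_succ' (fun j => H^[j] z) (2 * m + 1)
    have e5 := Finset.prod_range_succ (fun j => H^[j] z) (2 * m + 1)
    rw [e5, hm] at e4
    have e6 : H^[0] z = z := rfl
    rw [e6] at e4
    exact (mul_right_cancel e4).symm

variable {G : Type u} [Group G]

/-- conjugation on a subgroup -/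
def cjHom {N : Subgroup G} (g : G) (hg : ∀ x ∈ N, g * x * g⁻¹ ∈ N) : N →* N where
  toFun x := ⟨g * x * g⁻¹, hg _ x.2⟩
  map_one' := Subtype.ext (by simp)
  map_mul' x y := Subtype.ext (by simp [mul_assoc])

theorem cjHom_apply {N : Subgroup G} {g : G} (hg : ∀ x ∈ N, g * x * g⁻¹ ∈ N) (x : N) :
    (cjHom g hg x : G) = g * x * g⁻¹ := rfl

theorem cjHom_iter {N : Subgroup G} {g : G} (hg : ∀ x ∈ N, g * x * g⁻¹ ∈ N) (n : ℕ) (x : N) :
    (((cjHom g hg)^[n] x : N) : G) = g ^ n * x * (g ^ n)⁻¹ := by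
  induction n with
  | zero => simp
  | succ n ih =>
    rw [Function.iterate_succ_apply', cjHom_apply, ih, pow_succ']
    group

/-- **the norm under an element of odd order which is inverted by `u`** -/
theorem exists_avg {N C : Subgroup G} (hab : ∀ x ∈ N, ∀ y ∈ N, x * y = y * x)
    {u h : G} (huu : u * u = 1) (hu : ∀ x ∈ N, u * x * u⁻¹ ∈ N) (hh : ∀ x ∈ N, h * x * h⁻¹ ∈ N)
    (hC : ∀ x ∈ N, x * (u * x * u⁻¹) ∈ C) {m : ℕ} (hm : ∀ x ∈ N, h ^ (2 * m + 1) * x = x * h ^ (2 * m + 1))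
    (hi : ∀ x ∈ N, (u * h * u * h) * x = x * (u * h * u * h)) {z : G} (hz : z ∈ N)
    (hzu : u * z = z * u) : ∃ c ∈ N, c ∈ C ∧ u * (z * c) = z * c * u ∧ h * (z * c) = z * c * h := by
  let _ : CommGroup N := { (inferInstance : Group N) with
    mul_comm := fun x y => Subtype.ext (hab x x.2 y y.2) }
  have hui : u⁻¹ = u := inv_eq_of_mul_eq_one_left huu
  obtain ⟨c, hc, h1, h3⟩ := avg (cjHom u hu) (cjHom h hh) (fun x => Subtype.ext (by
      simp only [cjHom_apply]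
      have := hi x x.2
      calc u * (h * (u * (h * x * h⁻¹) * u⁻¹) * h⁻¹) * u⁻¹
          = (u * h * u * h) * x * (h⁻¹ * u⁻¹ * h⁻¹ * u⁻¹) := by group
        _ = x * ((u * h * u * h) * (h⁻¹ * u⁻¹ * h⁻¹ * u⁻¹)) := by rw [this]; group
        _ = x := by group)) (fun x => Subtype.ext (by
      simp only [cjHom_apply]
      calc u * (u * x * u⁻¹) * u⁻¹ = (u * u) * x * (u * u)⁻¹ := by group
        _ = x := by rw [huu]; group)) (m := m) (fun x => Subtype.ext (by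
      have e := cjHom_iter hh (2 * m + 1) x
      refine Eq.trans e ?_
      rw [hm x x.2]
      group)) (z := ⟨z, hz⟩) (Subtype.ext (by
      rw [cjHom_apply]
      change u * z * u⁻¹ = z
      rw [hzu]; group)) (C.subgroupOf N) (fun x => by
      rw [mem_subgroupOf]
      exact hC x x.2)
  refine ⟨c, c.2, hc, ?_, ?_⟩
  · have := congrArg Subtype.val h1
    change u * (z * c) * u⁻¹ = z * c at this
    rw [mul_inv_eq_iff_eq_mul] at this
    exact this
  · have := congrArg Subtype.val h3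
    change h * (z * c) * h⁻¹ = z * c at this
    rw [mul_inv_eq_iff_eq_mul] at this
    exact this

theorem exists_conj_avg [Finite G] {H N C : Subgroup G} (hNH : H ≤ normalizer (N : Set G))
    (hred : ∀ K : Subgroup G, K ≤ H → H ≤ normalizer (K : Set G) →
      (∀ x ∈ K, ∃ k : ℕ, x ^ 2 ^ k ∈ centralizer (N : Set G)) → K ≤ centralizer (N : Set G))
    (hab : ∀ x ∈ N, ∀ y ∈ N, x * y = y * x)
    {u : G} (hu : u ∈ H) (huu : u * u = 1) (hun : u ∉ centralizer (N : Set G))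
    (hC : ∀ x ∈ N, x * (u * x * u⁻¹) ∈ C) {z : G} (hz : z ∈ N) (hzu : u * z = z * u) :
    ∃ h ∈ H, (∀ T : Subgroup G, IsPGroup 2 T → u ∈ T → h * u * h⁻¹ ∈ T → False) ∧
      ∃ c ∈ N, c ∈ C ∧ u * (z * c) = z * c * u ∧ h * (z * c) = z * c * h := by
  have hCn : H ≤ normalizer ((H ⊓ centralizer (N : Set G) : Subgroup G) : Set G) := by
    intro g hg
    have hg' := hNH hg
    rw [mem_normalizer_iff] at hg' ⊢
    have key : ∀ g ∈ H, (∀ n, n ∈ N ↔ g * n * g⁻¹ ∈ N) → ∀ x, x ∈ H ⊓ centralizer (N : Set G) →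
        g * x * g⁻¹ ∈ H ⊓ centralizer (N : Set G) := by
      rintro g hg hgN x ⟨hx, hx'⟩
      refine ⟨H.mul_mem (H.mul_mem hg hx) (H.inv_mem hg), ?_⟩
      replace hx' := mem_centralizer_iff.1 hx'
      refine mem_centralizer_iff.2 fun n hn => ?_
      have hn' : g⁻¹ * n * g ∈ N := by
        rw [hgN]
        have : g * (g⁻¹ * n * g) * g⁻¹ = n := by group
        rwa [this]
      have := hx' _ hn'
      calc n * (g * x * g⁻¹) = g * ((g⁻¹ * n * g) * x) * g⁻¹ := by group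
        _ = g * (x * (g⁻¹ * n * g)) * g⁻¹ := by rw [this]
        _ = _ := by group
    intro x
    refine ⟨fun hx => key g hg hg' x hx, fun hx => ?_⟩
    have h1 := key g⁻¹ (H.inv_mem hg) (by
      have h2 := hNH (H.inv_mem hg)
      rwa [mem_normalizer_iff] at h2) _ hx
    have e : g⁻¹ * (g * x * g⁻¹) * g⁻¹⁻¹ = x := by group
    rwa [e] at h1
  set D : Subgroup G := H ⊓ centralizer (N : Set G) with hD
  have hn : (D.subgroupOf H).Normal := normal_subgroupOf_of_le_normalizer hCn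
  set f := QuotientGroup.mk' (D.subgroupOf H) with hf
  have hf1 : ∀ y : H, f y = 1 → (y : G) ∈ D := by
    intro y hy
    exact (QuotientGroup.eq_one_iff (N := D.subgroupOf H) y).1 hy
  set a := f ⟨u, hu⟩ with ha
  have haa : a * a = 1 := by
    rw [ha, ← map_mul]
    have : (⟨u, hu⟩ : H) * ⟨u, hu⟩ = 1 := Subtype.ext huu
    rw [this, map_one]
  obtain ⟨g, hg1, hgo, hgi⟩ := Involutions.BaerSuzuki.exists_odd_inverted a haa (by
    intro h1
    have h2 := hred (((normalClosure {a}).comap f).map H.subtype) (map_subtype_le _) ?_ ?_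
    · have h3 : u ∈ ((normalClosure {a}).comap f).map H.subtype :=
        ⟨⟨u, hu⟩, subset_normalClosure rfl, rfl⟩
      exact hun (h2 h3)
    · have key : ∀ x ∈ H, ∀ y ∈ ((normalClosure {a}).comap f).map H.subtype,
          x * y * x⁻¹ ∈ ((normalClosure {a}).comap f).map H.subtype := by
        rintro x hx _ ⟨y, hy, rfl⟩
        refine ⟨⟨x, hx⟩ * y * ⟨x, hx⟩⁻¹, ?_, rfl⟩
        change f _ ∈ normalClosure {a}
        rw [map_mul, map_mul, map_inv]
        exact normalClosure_normal.conj_mem _ hy _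
      intro x hx
      rw [mem_normalizer_iff]
      intro y
      refine ⟨fun hy => key x hx y hy, fun hy => ?_⟩
      have h1 := key x⁻¹ (H.inv_mem hx) _ hy
      have e : x⁻¹ * (x * y * x⁻¹) * x⁻¹⁻¹ = y := by group
      rwa [e] at h1
    · rintro _ ⟨y, hy, rfl⟩
      obtain ⟨k, hk⟩ := h1 ⟨f y, hy⟩
      refine ⟨k, ?_⟩
      have h2 : f (y ^ 2 ^ k) = 1 := by
        rw [map_pow]
        exact congrArg Subtype.val hk
      exact (hf1 _ h2).2)
  obtain ⟨⟨h, hh⟩, rfl⟩ := QuotientGroup.mk'_surjective (D.subgroupOf H) g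
  have hainv : a⁻¹ = a := inv_eq_of_mul_eq_one_left haa
  obtain ⟨m, hm⟩ := hgo
  have hN : ∀ g ∈ H, ∀ x ∈ N, g * x * g⁻¹ ∈ N := by
    intro g hg x hx
    exact (mem_normalizer_iff.1 (hNH hg) x).1 hx
  have hcomm : ∀ y ∈ D, ∀ x ∈ N, y * x = x * y := by
    intro y hy x hx
    exact ((mem_centralizer_iff.1 hy.2) x hx).symm
  refine ⟨h, hh, fun T hT hT1 hT2 => hg1 ?_, ?_⟩
  · obtain ⟨k, hk⟩ := hT ⟨u * (h * u * h⁻¹), T.mul_mem hT1 hT2⟩
    have hk' : (u * (h * u * h⁻¹)) ^ 2 ^ k = 1 := congrArg Subtype.val hk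
    have h3 : f ((⟨u, hu⟩ : H) * (⟨h, hh⟩ * ⟨u, hu⟩ * ⟨h, hh⟩⁻¹)) = (f ⟨h, hh⟩)⁻¹ ^ 2 := by
      rw [map_mul, map_mul, map_mul, map_inv, ← ha]
      change a * (f ⟨h, hh⟩ * a * (f ⟨h, hh⟩)⁻¹) = _
      calc a * (f ⟨h, hh⟩ * a * (f ⟨h, hh⟩)⁻¹) = a * f ⟨h, hh⟩ * a * (f ⟨h, hh⟩)⁻¹ := by group
        _ = a * f ⟨h, hh⟩ * a⁻¹ * (f ⟨h, hh⟩)⁻¹ := by rw [hainv]
        _ = (f ⟨h, hh⟩)⁻¹ * (f ⟨h, hh⟩)⁻¹ := by rw [hgi]
        _ = _ := by rw [sq]
    have h4 : ((⟨u, hu⟩ : H) * (⟨h, hh⟩ * ⟨u, hu⟩ * ⟨h, hh⟩⁻¹)) ^ 2 ^ k = 1 := Subtype.ext hk'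
    have h5 : (f ⟨h, hh⟩) ^ 2 ^ (k + 1) = 1 := by
      have := congrArg f h4
      rw [map_pow, h3, map_one, ← pow_mul, inv_pow, inv_eq_one] at this
      rw [pow_succ, mul_comm]
      exact this
    have h6 : orderOf (f ⟨h, hh⟩) ∣ 2 ^ (k + 1) := orderOf_dvd_of_pow_eq_one h5
    have h7 : Nat.Coprime (orderOf (f ⟨h, hh⟩)) (2 ^ (k + 1)) :=
      Nat.Coprime.pow_right _ (Nat.coprime_two_right.2 ⟨m, hm⟩)
    exact orderOf_eq_one_iff.1 (h7.eq_one_of_dvd h6)
  · refine exists_avg hab huu (hN u hu) (hN h hh) hC (m := m) ?_ ?_ hz hzu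
    · have e : f ((⟨h, hh⟩ : H) ^ (2 * m + 1)) = 1 := by
        rw [map_pow]
        have := pow_orderOf_eq_one (f ⟨h, hh⟩)
        rwa [show orderOf (f ⟨h, hh⟩) = 2 * m + 1 from hm] at this
      have h1 := hf1 _ e
      exact hcomm _ h1
    · have e : f ((⟨u, hu⟩ : H) * ⟨h, hh⟩ * ⟨u, hu⟩ * ⟨h, hh⟩) = 1 := by
        rw [map_mul, map_mul, map_mul, ← ha]
        have : a * f ⟨h, hh⟩ * a = (f ⟨h, hh⟩)⁻¹ := by
          have h8 := hgi
          rwa [hainv] at h8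
        rw [this, inv_mul_cancel]
      exact hcomm _ (hf1 _ e)

/-- two elements in a 2-group, the second normalising -/
theorem common {A : Subgroup G} {u w f : G} (hA : IsPGroup 2 A) (hu : u ∈ A) (hww : w * w = 1)
    (hAn : ∀ x, x * f = f * x → ∀ a ∈ A, x * a * x⁻¹ ∈ A) (hw : w * f = f * w) :
    ∃ T : Subgroup G, IsPGroup 2 T ∧ u ∈ T ∧ w ∈ T := by
  have h1 : zpowers w ≤ normalizer (A : Set G) := by
    rw [zpowers_le, mem_normalizer_iff]
    intro x
    refine ⟨fun hx => hAn w hw x hx, fun hx => ?_⟩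
    have hwi : w⁻¹ = w := inv_eq_of_mul_eq_one_left hww
    have h2 := hAn w hw _ hx
    have e : w * (w * x * w⁻¹) * w⁻¹ = (w * w) * x * (w⁻¹ * w⁻¹) := by group
    rw [e, hwi, hww, one_mul, mul_one] at h2
    exact h2
  have h2 : IsPGroup 2 (zpowers w) := by
    rintro ⟨_, k, rfl⟩
    refine ⟨1, Subtype.ext ?_⟩
    change (w ^ k) ^ 2 ^ 1 = 1
    rw [pow_one, ← zpow_natCast, ← zpow_mul, mul_comm, zpow_mul, zpow_natCast, sq, hww, one_zpow]
  refine ⟨zpowers w ⊔ A, IsPGroup.to_sup_of_normal_right' h2 hA h1, mem_sup_right hu,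
    mem_sup_left (mem_zpowers w)⟩

/-- **LINE (2) OF THEOREM QW, EVERY `q`.**  `C` is a subgroup containing the commutators `[n, u]`, `n ∈ N`. -/
theorem mem_cent [Finite G] {H N C : Subgroup G} (hNH : H ≤ normalizer (N : Set G))
    (hred : ∀ K : Subgroup G, K ≤ H → H ≤ normalizer (K : Set G) →
      (∀ x ∈ K, ∃ k : ℕ, x ^ 2 ^ k ∈ centralizer (N : Set G)) → K ≤ centralizer (N : Set G))
    (hab : ∀ x ∈ N, ∀ y ∈ N, x * y = y * x)
    {u : G} (hu : u ∈ H) (huu : u * u = 1)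
    (hC : ∀ x ∈ N, x * (u * x * u⁻¹) ∈ C) {z : G} (hz : z ∈ N) (hzu : u * z = z * u)
    (hA : ∀ c ∈ N, c ∈ C → u * (z * c) = z * c * u → ∃ A : Subgroup G, IsPGroup 2 A ∧ u ∈ A ∧
      ∀ x, x * (z * c) = z * c * x → ∀ a ∈ A, x * a * x⁻¹ ∈ A) :
    u ∈ centralizer (N : Set G) := by
  by_contra hun
  obtain ⟨h, hh, hT, c, hcN, hcC, h1, h2⟩ := exists_conj_avg hNH hred hab hu huu hun hC hz hzu
  obtain ⟨A, hA1, hA2, hA3⟩ := hA c hcN hcC h1
  have hww : h * u * h⁻¹ * (h * u * h⁻¹) = 1 := by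
    calc h * u * h⁻¹ * (h * u * h⁻¹) = h * (u * u) * h⁻¹ := by group
      _ = 1 := by rw [huu]; group
  have hwf : h * u * h⁻¹ * (z * c) = z * c * (h * u * h⁻¹) := by
    have h3 : h⁻¹ * (z * c) = z * c * h⁻¹ := by
      calc h⁻¹ * (z * c) = h⁻¹ * (z * c * h) * h⁻¹ := by group
        _ = h⁻¹ * (h * (z * c)) * h⁻¹ := by rw [h2]
        _ = _ := by group
    calc h * u * h⁻¹ * (z * c) = h * u * (h⁻¹ * (z * c)) := by group
      _ = h * (u * (z * c)) * h⁻¹ := by rw [h3]; group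
      _ = (h * (z * c)) * u * h⁻¹ := by rw [h1]; group
      _ = z * c * (h * u * h⁻¹) := by rw [h2]; group
  obtain ⟨T, hT1, hT2, hT3⟩ := common hA1 hA2 hww hA3 hwf
  exact hT T hT1 hT2 hT3

end Cfsg.Agent.Omega.NO3S.CaseLW.Odd

end

section


/-!
# THEOREM QW, step (2) for every `q` (helper866, #24897; helper276, #25131)

* `cent_zl_q` : `Z_M = ⟨Z^M⟩` centralises `U ≤ O₂(C_M(Z))`: (ML) and `Odd.mem_cent`; `C` is a subgroup (`Z_j^y`), `|Z|` is
  arbitrary, `z ∈ Z`;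
* `oz_le_of` : `O₂(C_G(z)) ≤ O₂(C_M(Z))`.
-/

set_option autoImplicit false

namespace Cfsg.Agent.Omega.NO3S.CaseLW.QW

open Subgroup Cfsg Cfsg.Agent.ZN Cfsg.Agent.Omega.MinPar
open Cfsg.Agent.MinSimple.VModule (o2_isPGroup)
open Cfsg.Agent.Omega.HOne.TvHSide (le_normalizer_of)
open Cfsg.Agent.Omega.ML.Final (MLK)
open Cfsg.Agent.Omega.ML.GMod (ZD)

universe u

variable {G : Type u} [Group G] [Finite G] (S : Sylow 2 G) {M : Subgroup G}

/-- **(2)**, every `q`: `Z_M` centralises `U ≤ O₂(C_M(Z))`. -/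
theorem cent_zl_q (hG : IsCharacteristicTwoType G) (ml : MLK.{u, u}) (h : IsLoc (S : Subgroup G) M) (hK : IsKGroup M)
    {z : G} (hz : z ∈ zl (S : Subgroup G) M) {U : Subgroup G} (hU2 : ∀ x ∈ U, x * x = 1)
    (hUO : U ≤ o2 (M ⊓ centralizer (zc (S : Subgroup G) : Set G)))
    (hex : (centralizer (zl (S : Subgroup G) M : Set G)).relIndex U ≤
        (centralizer (U : Set G)).relIndex (zl (S : Subgroup G) M) →
      ¬ U ≤ centralizer (zl (S : Subgroup G) M : Set G) →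
        ∃ w ∈ U, ∃ C : Subgroup G, w ∉ centralizer (zl (S : Subgroup G) M : Set G) ∧ w * z = z * w ∧
          (∀ x ∈ zl (S : Subgroup G) M, x * (w * x * w⁻¹) ∈ C) ∧
          ∀ c ∈ zl (S : Subgroup G) M, c ∈ C → w * (z * c) = z * c * w → w ∈ o2 (centralizer ({z * c} : Set G))) :
    U ≤ centralizer (zl (S : Subgroup G) M : Set G) := by
  by_contra hn
  have hsq : ∀ v ∈ zl (S : Subgroup G) M, v * v = 1 := fun v hv => by
    have h1 := (ChoiceBase.mem_zc.1 (IsLoc.zl_le S hG h hv)).2.1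
    rwa [sq] at h1
  have D : ZD M (zl (S : Subgroup G) M) (zc (S : Subgroup G)) (S : Subgroup G) U :=
    { nV := le_normalizer_zl _ _
      sq := hsq
      ZV := MinSimple.VModule.zc_le_zl _ _
      gen := fun X h1 h2 => MinSimple.VModule.zl_le h1 h2
      TL := h.le
      two := S.isPGroup'
      odd := MinSimple.Basic.not_dvd_relIndex S h.le
      TZ := le_centralizer_zc _
      AO := hUO
      Asq := fun a ha => by rw [hU2 a ha]; exact one_mem _ }
  obtain ⟨w, hw, C, hwn, hwz, hC, hwo⟩ := hex (D.gml ml hK) hn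
  have hcm : ∀ x ∈ zl (S : Subgroup G) M, ∀ y ∈ zl (S : Subgroup G) M, x * y = y * x := by
    intro x hx y hy
    have h2 : x⁻¹ = x := inv_eq_of_mul_eq_one_left (hsq x hx)
    have h3 : y⁻¹ = y := inv_eq_of_mul_eq_one_left (hsq y hy)
    have h4 : (x * y)⁻¹ = x * y := inv_eq_of_mul_eq_one_left (hsq _ (mul_mem hx hy))
    rw [mul_inv_rev, h2, h3] at h4
    exact h4.symm
  refine hwn (Odd.mem_cent (H := M) (C := C) (le_normalizer_zl _ _) (red_zl S h.le) hcm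
    (((hUO.trans (o2_le _)).trans inf_le_left) hw) (hU2 w hw) hC hz hwz fun c hcN hcC hcw =>
      ⟨o2 (centralizer ({z * c} : Set G)), o2_isPGroup _, hwo c hcN hcC hcw, fun x hx a ha => ?_⟩)
  exact o2_conj_mem (mem_centralizer_singleton_iff.2 hx) ha

/-- `O₂(C_G(z)) ≤ O₂(C_M(Z))`, `z ∈ Z` -/
theorem oz_le_of (hM : (S : Subgroup G) ≤ M) {z : G} (hz : z ∈ zc (S : Subgroup G)) (hz1 : z ≠ 1) :
    o2 (centralizer ({z} : Set G)) ≤ o2 (M ⊓ centralizer (zc (S : Subgroup G) : Set G)) := by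
  have hz2 : z ^ 2 = 1 := (ChoiceBase.mem_zc.1 hz).2.1
  have hSz : (S : Subgroup G) ≤ centralizer ({z} : Set G) := fun s hs =>
    mem_centralizer_singleton_iff.2 ((ChoiceBase.mem_zc.1 hz).2.2 s hs)
  have h1 : o2 (centralizer ({z} : Set G)) ≤ (S : Subgroup G) := (isLoc_centralizer S hz2 hz1 hSz).o2_le S
  refine MinSimple.VModule.le_o2 (le_inf (h1.trans hM) (h1.trans (le_centralizer_zc _))) (o2_isPGroup _)
    (inf_le_right.trans ?_)
  have h2 : centralizer (zc (S : Subgroup G) : Set G) ≤ centralizer ({z} : Set G) :=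
    centralizer_le (Set.singleton_subset_iff.2 hz)
  exact h2.trans (MinSimple.VModule.le_normalizer_o2 _)

/-- **(3)**, from `U ≤ O₂(C_G(z))` -/
theorem le_o2_M_of (h : (S : Subgroup G) ≤ M) {z : G} (hz : z ∈ zc (S : Subgroup G)) (hz1 : z ≠ 1) {U : Subgroup G}
    (hU : U ≤ centralizer (zl (S : Subgroup G) M : Set G)) (hUQ : U ≤ o2 (centralizer ({z} : Set G))) : U ≤ o2 M := by
  have hS : (S : Subgroup G) ≠ ⊥ := fun hb => hz1 (by
    have h1 := ZN.zc_le _ hz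
    rw [hb] at h1
    exact mem_bot.1 h1)
  refine le_o2_M S h hS hU (hUQ.trans ?_)
  have h1 := oz_le_of S (M := ⊤) le_top hz hz1
  rwa [top_inf_eq] at h1

end Cfsg.Agent.Omega.NO3S.CaseLW.QW

end

section


/-!
# THEOREM QW for `|Z| > 2`: the three-step conjugation (helper360 #25134, helper792 #25398 / #25515)

`X` is an elementary abelian 2-group normalised by `M`, `O₂(M/C_M(X)) = 1`.

* `Rg X A C` : `A` acts on `X` as a "root group" with centre `C`: `[X, A] ≤ C ≤ C_X(A)` and `[x, A] = C` for every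
  `x ∈ X` which is moved by `A`;
* `Rg.four` : if `A` centralises `C'` then `(a a')^4` centralises `X`;
* `Rg.move` : three steps: `p ↦ p s ↦ p s c ↦ p c` under `⟨A, A'⟩`;
* `cent_of_three` : **line (2) of QW with `low` for all of `Z` only** (`A ≤ O₂(C_M(Z))`; for every `z ∈ Z#` some
  `c ∈ C` with `A ≤ O₂(C_G(z c))` and `z c` not `M`-conjugate to `z`): `A ≤ C(X)`;
* `cent_or_move` : the step of LEMMA LZ (`A ≤ O₂(C_G(z))` for one `z`).
-/

set_option autoImplicit false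

namespace Cfsg.Agent.Omega.NO3S.CaseLW.Three

open Subgroup Cfsg
open scoped Pointwise
open Cfsg.Agent.Omega.NO3S.CaseLW.QW (exists_odd common')

universe u

variable {G : Type u} [Group G]

/-- `A` acts on `X` as a root group with centre `C` (or trivially). -/
structure Rg (X A C : Subgroup G) : Prop where
  sqX : ∀ x ∈ X, x * x = 1
  sqA : ∀ a ∈ A, a * a = 1
  CX : C ≤ X
  CA : ∀ c ∈ C, ∀ a ∈ A, a * c = c * a
  cm : ∀ x ∈ X, ∀ a ∈ A, ∃ c ∈ C, a * x * a⁻¹ = x * c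
  rg : ∀ x ∈ X, (∀ a ∈ A, a * x = x * a) ∨ ∀ s ∈ C, ∃ a ∈ A, a * x * a⁻¹ = x * s

variable {X A C A' C' : Subgroup G}

theorem Rg.comm (h : Rg X A C) : ∀ x ∈ X, ∀ y ∈ X, x * y = y * x := by
  intro x hx y hy
  have h1 := h.sqX _ (X.mul_mem hx hy)
  have h2 : x⁻¹ = x := inv_eq_of_mul_eq_one_left (h.sqX x hx)
  have h3 : y⁻¹ = y := inv_eq_of_mul_eq_one_left (h.sqX y hy)
  have h4 : (x * y)⁻¹ = x * y := inv_eq_of_mul_eq_one_left h1
  rw [mul_inv_rev, h2, h3] at h4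
  exact h4.symm

/-- conjugate -/
theorem Rg.conj (h : Rg X A C) {m : G} (hm : m ∈ normalizer (X : Set G)) :
    Rg X (MulAut.conj m • A) (MulAut.conj m • C) := by
  have hX : ∀ x, x ∈ X → m⁻¹ * x * m ∈ X := by
    intro x hx
    have h1 := (mem_normalizer_iff.1 ((normalizer (X : Set G)).inv_mem hm) x).1 hx
    rwa [inv_inv] at h1
  have hX' : ∀ x, x ∈ X → m * x * m⁻¹ ∈ X := fun x hx => (mem_normalizer_iff.1 hm x).1 hx
  refine ⟨h.sqX, ?_, ?_, ?_, ?_, ?_⟩
  · intro a ha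
    rw [mem_pointwise_smul_iff_inv_smul_mem, ← map_inv, MulAut.smul_def, MulAut.conj_apply, inv_inv] at ha
    have h1 := h.sqA _ ha
    calc a * a = m * ((m⁻¹ * a * m) * (m⁻¹ * a * m)) * m⁻¹ := by group
      _ = 1 := by rw [h1]; group
  · intro c hc
    rw [mem_pointwise_smul_iff_inv_smul_mem, ← map_inv, MulAut.smul_def, MulAut.conj_apply, inv_inv] at hc
    have h1 := hX' _ (h.CX hc)
    have e : m * (m⁻¹ * c * m) * m⁻¹ = c := by group
    rwa [e] at h1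
  · intro c hc a ha
    rw [mem_pointwise_smul_iff_inv_smul_mem, ← map_inv, MulAut.smul_def, MulAut.conj_apply, inv_inv] at hc ha
    have h1 := h.CA _ hc _ ha
    calc a * c = m * ((m⁻¹ * a * m) * (m⁻¹ * c * m)) * m⁻¹ := by group
      _ = c * a := by rw [h1]; group
  · intro x hx a ha
    rw [mem_pointwise_smul_iff_inv_smul_mem, ← map_inv, MulAut.smul_def, MulAut.conj_apply, inv_inv] at ha
    obtain ⟨c, hc, h1⟩ := h.cm _ (hX x hx) _ ha
    refine ⟨m * c * m⁻¹, ?_, ?_⟩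
    · rw [mem_pointwise_smul_iff_inv_smul_mem, ← map_inv, MulAut.smul_def, MulAut.conj_apply, inv_inv]
      have e : m⁻¹ * (m * c * m⁻¹) * m = c := by group
      rwa [e]
    · calc a * x * a⁻¹ = m * ((m⁻¹ * a * m) * (m⁻¹ * x * m) * (m⁻¹ * a * m)⁻¹) * m⁻¹ := by group
        _ = x * (m * c * m⁻¹) := by rw [h1]; group
  · intro x hx
    rcases h.rg _ (hX x hx) with h1 | h1
    · refine Or.inl fun a ha => ?_
      rw [mem_pointwise_smul_iff_inv_smul_mem, ← map_inv, MulAut.smul_def, MulAut.conj_apply, inv_inv] at ha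
      have h2 := h1 _ ha
      calc a * x = m * ((m⁻¹ * a * m) * (m⁻¹ * x * m)) * m⁻¹ := by group
        _ = x * a := by rw [h2]; group
    · refine Or.inr fun s hs => ?_
      rw [mem_pointwise_smul_iff_inv_smul_mem, ← map_inv, MulAut.smul_def, MulAut.conj_apply, inv_inv] at hs
      obtain ⟨a, ha, h2⟩ := h1 _ hs
      refine ⟨m * a * m⁻¹, ?_, ?_⟩
      · rw [mem_pointwise_smul_iff_inv_smul_mem, ← map_inv, MulAut.smul_def, MulAut.conj_apply, inv_inv]
        have e : m⁻¹ * (m * a * m⁻¹) * m = a := by group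
        rwa [e]
      · calc m * a * m⁻¹ * x * (m * a * m⁻¹)⁻¹ = m * (a * (m⁻¹ * x * m) * a⁻¹) * m⁻¹ := by group
          _ = x * s := by rw [h2]; group

/-- if `A` centralises `C'`, then `(a a')^4` centralises `X` -/
theorem Rg.four (h : Rg X A C) (h' : Rg X A' C') (hc : ∀ s ∈ C', ∀ a ∈ A, a * s = s * a)
    {a a' : G} (ha : a ∈ A) (ha' : a' ∈ A') : (a * a') ^ 4 ∈ centralizer (X : Set G) := by
  set f := MulAut.conj (a * a') with hf
  have e1 : ∀ n : G, f n = a * (a' * n * a'⁻¹) * a⁻¹ := fun n => by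
    rw [hf, MulAut.conj_apply]; group
  have hcj : ∀ {b s : G}, b * s = s * b → b * s * b⁻¹ = s := fun {b s} e => by
    rw [e, mul_assoc, mul_inv_cancel, mul_one]
  have hmul : ∀ x y : G, a * (x * y) * a⁻¹ = (a * x * a⁻¹) * (a * y * a⁻¹) := fun x y => by group
  have hcm := h.comm
  -- `f` on `C'`
  have f1 : ∀ s ∈ C', f s = s := by
    intro s hs
    rw [e1, hcj (h'.CA s hs a' ha'), hcj (hc s hs a ha)]
  -- `f` on `C`
  have f2 : ∀ c ∈ C, ∃ s ∈ C', f c = c * s := by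
    intro c hc1
    obtain ⟨s, hs, h1⟩ := h'.cm c (h.CX hc1) a' ha'
    refine ⟨s, hs, ?_⟩
    rw [e1, h1, hmul, hcj (h.CA c hc1 a ha), hcj (hc s hs a ha)]
  have f3 : ∀ x ∈ X, ∃ c ∈ C, ∃ s ∈ C', f x = x * c * s := by
    intro x hx
    obtain ⟨s, hs, h1⟩ := h'.cm x hx a' ha'
    obtain ⟨c, hc1, h2⟩ := h.cm x hx a ha
    refine ⟨c, hc1, s, hs, ?_⟩
    rw [e1, h1, hmul, h2, hcj (hc s hs a ha)]
  have f4 : ∀ x ∈ X, ∃ s ∈ C', f (f x) = x * s := by
    intro x hx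
    obtain ⟨c, hc1, s, hs, h1⟩ := f3 x hx
    obtain ⟨s', hs', h2⟩ := f2 c hc1
    refine ⟨s', hs', ?_⟩
    rw [h1, map_mul, map_mul, h1, h2, f1 s hs]
    have hcX := h.CX hc1
    have hsX := h'.CX hs
    have hsX' := h'.CX hs'
    calc x * c * s * (c * s') * s = x * (c * (s * c)) * (s' * s) := by group
      _ = x * (c * (c * s)) * (s * s') := by rw [hcm s hsX c hcX, hcm s' hsX' s hsX]
      _ = x * (c * c) * (s * s) * s' := by group
      _ = x * s' := by rw [h.sqX c hcX, h.sqX s hsX, mul_one, mul_one]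
  refine mem_centralizer_iff.2 fun x hx => ?_
  have h5 : (MulAut.conj ((a * a') ^ 4)) x = x := by
    rw [map_pow, pow_succ, pow_succ, pow_succ, pow_one]
    change f (f (f (f x))) = x
    obtain ⟨s, hs, h1⟩ := f4 x hx
    rw [h1, map_mul, map_mul, f1 s hs, f1 s hs, h1, mul_assoc, h'.sqX s (h'.CX hs), mul_one]
  rw [MulAut.conj_apply, mul_inv_eq_iff_eq_mul] at h5
  exact h5.symm

/-- **three steps** `p ↦ p s ↦ p s c ↦ p c` -/
theorem Rg.move (h : Rg X A C) (h' : Rg X A' C') (hC : ∃ s ∈ C', ∃ a ∈ A, a * s ≠ s * a)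
    {p c : G} (hp : p ∈ X) (hc : c ∈ C) (hpA : ∀ a ∈ A, a * p = p * a) (hpA' : ∃ a ∈ A', a * p ≠ p * a)
    (hqA' : ∃ a ∈ A', a * (p * c) ≠ p * c * a) : ∃ g ∈ A ⊔ A', g * p * g⁻¹ = p * c := by
  obtain ⟨s, hs, a₀, ha₀, hs1⟩ := hC
  have hcX := h.CX hc
  have hsX := h'.CX hs
  have hcm := h.comm
  obtain ⟨b₁, hb₁, e1⟩ : ∃ b ∈ A', b * p * b⁻¹ = p * s := by
    rcases h'.rg p hp with h1 | h1
    · obtain ⟨b, hb, h2⟩ := hpA'
      exact (h2 (h1 b hb)).elim
    · exact h1 s hs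
  obtain ⟨a₁, ha₁, e2⟩ : ∃ a ∈ A, a * s * a⁻¹ = s * c := by
    rcases h.rg s hsX with h1 | h1
    · exact (hs1 (h1 a₀ ha₀)).elim
    · exact h1 c hc
  obtain ⟨b₂, hb₂, e3⟩ : ∃ b ∈ A', b * (p * c) * b⁻¹ = p * c * s := by
    rcases h'.rg (p * c) (X.mul_mem hp hcX) with h1 | h1
    · obtain ⟨b, hb, h2⟩ := hqA'
      exact (h2 (h1 b hb)).elim
    · exact h1 s hs
  refine ⟨b₂ * a₁ * b₁, mul_mem (mul_mem (mem_sup_right hb₂) (mem_sup_left ha₁)) (mem_sup_right hb₁), ?_⟩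
  have e4 : a₁ * p * a₁⁻¹ = p := by rw [hpA a₁ ha₁, mul_assoc, mul_inv_cancel, mul_one]
  have e5 : b₂ * s * b₂⁻¹ = s := by rw [h'.CA s hs b₂ hb₂, mul_assoc, mul_inv_cancel, mul_one]
  calc b₂ * a₁ * b₁ * p * (b₂ * a₁ * b₁)⁻¹ = b₂ * (a₁ * (b₁ * p * b₁⁻¹) * a₁⁻¹) * b₂⁻¹ := by group
    _ = b₂ * ((a₁ * p * a₁⁻¹) * (a₁ * s * a₁⁻¹)) * b₂⁻¹ := by rw [e1]; group
    _ = b₂ * (p * (c * s)) * b₂⁻¹ := by rw [e4, e2, hcm s hsX c hcX]
    _ = (b₂ * (p * c) * b₂⁻¹) * (b₂ * s * b₂⁻¹) := by group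
    _ = p * c * (s * s) := by rw [e3, e5]; group
    _ = p * c := by rw [h'.sqX s hsX, mul_one]

section fin

variable [Finite G] {M Zs : Subgroup G}

/-- **Line (2) of THEOREM QW, `low` for all of `Z` only.** -/
theorem cent_of_three (hMX : M ≤ normalizer (X : Set G))
    (hred : ∀ K : Subgroup G, K ≤ M → M ≤ normalizer (K : Set G) →
      (∀ x ∈ K, ∃ k : ℕ, x ^ 2 ^ k ∈ centralizer (X : Set G)) → K ≤ centralizer (X : Set G))
    (h : Rg X A C) (hAM : A ≤ M) (hZX : Zs ≤ X) (hZA : ∀ z ∈ Zs, ∀ a ∈ A, a * z = z * a)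
    (hO : ∀ a ∈ A, ∃ R : Subgroup G, IsPGroup 2 R ∧ a ∈ R ∧
      ∀ x ∈ M, (∀ z ∈ Zs, x * z = z * x) → ∀ r ∈ R, x * r * x⁻¹ ∈ R)
    (hz : ∀ z ∈ Zs, z ≠ 1 → ∃ c ∈ C, (∀ a ∈ A, ∃ R : Subgroup G, IsPGroup 2 R ∧ a ∈ R ∧
      ∀ x ∈ M, x * (z * c) = z * c * x → ∀ r ∈ R, x * r * x⁻¹ ∈ R) ∧ ∀ m ∈ M, m * z * m⁻¹ ≠ z * c) :
    A ≤ centralizer (X : Set G) := by
  intro a ha
  by_contra hac
  obtain ⟨m, hm, hodd⟩ := exists_odd hMX hred (hAM ha) (h.sqA a ha) hac
  set a' := m * a * m⁻¹ with ha'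
  have h' : Rg X (MulAut.conj m • A) (MulAut.conj m • C) := h.conj (hMX hm)
  have hA' : a' ∈ MulAut.conj m • A := by
    rw [mem_pointwise_smul_iff_inv_smul_mem, ← map_inv, MulAut.smul_def, MulAut.conj_apply, inv_inv, ha']
    have e : m⁻¹ * (m * a * m⁻¹) * m = a := by group
    rwa [e]
  have hA'M : MulAut.conj m • A ≤ M := by
    intro x hx
    rw [mem_pointwise_smul_iff_inv_smul_mem, ← map_inv, MulAut.smul_def, MulAut.conj_apply, inv_inv] at hx
    have e : x = m * (m⁻¹ * x * m) * m⁻¹ := by group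
    rw [e]
    exact M.mul_mem (M.mul_mem hm (hAM hx)) (M.inv_mem hm)
  have ha'M := hA'M hA'
  have haa' : a' * a' = 1 := h'.sqA _ hA'
  have key : ∀ R : Subgroup G, IsPGroup 2 R → a ∈ R → (∀ r ∈ R, a' * r * a'⁻¹ ∈ R) → False := by
    intro R hR haR hn
    obtain ⟨k, hk⟩ := common' hR haR haa' hn
    exact hodd k (by rw [hk]; exact one_mem _)
  obtain ⟨z, hzZ, hza⟩ : ∃ z ∈ Zs, a' * z ≠ z * a' := by
    by_contra hcon
    push Not at hcon
    obtain ⟨R, hR, haR, hn⟩ := hO a ha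
    exact key R hR haR (hn a' ha'M hcon)
  have hz1 : z ≠ 1 := by
    rintro rfl
    exact hza (by rw [mul_one, one_mul])
  obtain ⟨c, hc, hcR, hcm⟩ := hz z hzZ hz1
  have hzc : a' * (z * c) ≠ z * c * a' := by
    intro h1
    obtain ⟨R, hR, haR, hn⟩ := hcR a ha
    exact key R hR haR (hn a' ha'M h1)
  have hs : ∃ s ∈ MulAut.conj m • C, ∃ a ∈ A, a * s ≠ s * a := by
    by_contra hcon
    push Not at hcon
    exact hodd 2 (h.four h' hcon ha hA')
  obtain ⟨g, hg, hgz⟩ := h.move h' hs (hZX hzZ) hc (hZA z hzZ) ⟨a', hA', hza⟩ ⟨a', hA', hzc⟩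
  exact hcm g ((sup_le hAM hA'M) hg) hgz

/-- **The step of LEMMA LZ**: `H ≤ C(z)`, `t, z₀ ∈ C`, `t ≠ 1, z₀`; `A` lies in 2-groups normalised by `C_H(z z₀)`.
Then `A` centralises `X` or `z₀` is `H`-conjugate to another element of `C`. -/
theorem cent_or_move {H : Subgroup G} {z z₀ t : G} (hHX : H ≤ normalizer (X : Set G))
    (hred : ∀ K : Subgroup G, K ≤ H → H ≤ normalizer (K : Set G) →
      (∀ x ∈ K, ∃ k : ℕ, x ^ 2 ^ k ∈ centralizer (X : Set G)) → K ≤ centralizer (X : Set G))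
    (h : Rg X A C) (hAH : A ≤ H) (hHz : ∀ x ∈ H, x * z = z * x) (hz₀ : z₀ ∈ C) (ht : t ∈ C) (ht1 : t ≠ 1)
    (htz : t ≠ z₀)
    (hz : ∀ a ∈ A, ∃ R : Subgroup G, IsPGroup 2 R ∧ a ∈ R ∧
      ∀ x ∈ H, x * (z * z₀) = z * z₀ * x → ∀ r ∈ R, x * r * x⁻¹ ∈ R) :
    A ≤ centralizer (X : Set G) ∨ ∃ g ∈ H, ∃ c ∈ C, c ≠ z₀ ∧ g * z₀ * g⁻¹ = c := by
  by_contra hcon
  push Not at hcon
  obtain ⟨h1, hno⟩ := hcon
  apply h1
  intro a ha
  by_contra hac
  obtain ⟨m, hm, hodd⟩ := exists_odd hHX hred (hAH ha) (h.sqA a ha) hac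
  set a' := m * a * m⁻¹ with ha'
  have h' : Rg X (MulAut.conj m • A) (MulAut.conj m • C) := h.conj (hHX hm)
  have hA' : a' ∈ MulAut.conj m • A := by
    rw [mem_pointwise_smul_iff_inv_smul_mem, ← map_inv, MulAut.smul_def, MulAut.conj_apply, inv_inv, ha']
    have e : m⁻¹ * (m * a * m⁻¹) * m = a := by group
    rwa [e]
  have hA'H : MulAut.conj m • A ≤ H := by
    intro x hx
    rw [mem_pointwise_smul_iff_inv_smul_mem, ← map_inv, MulAut.smul_def, MulAut.conj_apply, inv_inv] at hx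
    have e : x = m * (m⁻¹ * x * m) * m⁻¹ := by group
    rw [e]
    exact H.mul_mem (H.mul_mem hm (hAH hx)) (H.inv_mem hm)
  have ha'H := hA'H hA'
  have haa' : a' * a' = 1 := h'.sqA _ hA'
  have key : ∀ R : Subgroup G, IsPGroup 2 R → a ∈ R → (∀ r ∈ R, a' * r * a'⁻¹ ∈ R) → False := by
    intro R hR haR hn
    obtain ⟨k, hk⟩ := common' hR haR haa' hn
    exact hodd k (by rw [hk]; exact one_mem _)
  have hz₀X := h.CX hz₀
  have htX := h.CX ht
  -- `a'` moves `z₀`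
  have hmz : a' * z₀ ≠ z₀ * a' := by
    intro h2
    obtain ⟨R, hR, haR, hn⟩ := hz a ha
    refine key R hR haR (hn a' ha'H ?_)
    calc a' * (z * z₀) = (a' * z) * z₀ := by group
      _ = z * (a' * z₀) := by rw [hHz a' ha'H]; group
      _ = z * z₀ * a' := by rw [h2]; group
  have hs : ∃ s ∈ MulAut.conj m • C, ∃ a ∈ A, a * s ≠ s * a := by
    by_contra hcon
    push Not at hcon
    exact hodd 2 (h.four h' hcon ha hA')
  -- an element `c ≠ z₀` of `C` moved by `a'`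
  obtain ⟨c, hc, hcz, hcm⟩ : ∃ c ∈ C, c ≠ z₀ ∧ a' * c ≠ c * a' := by
    by_cases h2 : a' * t = t * a'
    · refine ⟨z₀ * t, C.mul_mem hz₀ ht, fun h3 => ht1 ?_, fun h3 => hmz ?_⟩
      · exact mul_left_cancel (h3.trans (mul_one z₀).symm)
      · have h4 : a' * z₀ * t = z₀ * a' * t := by
          calc a' * z₀ * t = a' * (z₀ * t) := by group
            _ = z₀ * (t * a') := by rw [h3]; group
            _ = z₀ * a' * t := by rw [← h2]; group
        exact mul_right_cancel h4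
    · exact ⟨t, ht, htz, h2⟩
  have hcX := h.CX hc
  have e1 : z₀ * (z₀ * c) = c := by rw [← mul_assoc, h.sqX z₀ hz₀X, one_mul]
  obtain ⟨g, hg, hgz⟩ := h.move h' hs hz₀X (C.mul_mem hz₀ hc) (fun b hb => h.CA z₀ hz₀ b hb)
    ⟨a', hA', hmz⟩ ⟨a', hA', by rw [e1]; exact hcm⟩
  rw [e1] at hgz
  exact hno g ((sup_le hAH hA'H) hg) c hc hcz hgz

end fin

end Cfsg.Agent.Omega.NO3S.CaseLW.Three

end

end
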