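import Cfsg.Agent.Mrg.Omega.OM.SwapT.QuietL
import Cfsg.Agent.Mrg.Omega.NO3S.WY.Exact
import Cfsg.Agent.Mrg.Omega.ML.LieTwF4
import Cfsg.Agent.Mrg.Omega.NO3S.CaseLW.QWc
import Cfsg.Agent.Mrg.Omega.NO3S.CaseLW.QWa
import Cfsg.Agent.Mrg.Omega.NO3S.CaseLW.QWex
import Cfsg.Agent.Mrg.Omega.NOThreeL.NF.Final
import Cfsg.Agent.Mrg.Omega.NOThreeL.FFB.Rp2
import Cfsg.Agent.Mrg.Omega.NO3S.CaseLW.LowOne
import Cfsg.Agent.Mrg.Omega.OM.Lev.Uni
import Cfsg.Agent.Mrg.Omega.NO3S.CaseLW.Lam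
import Cfsg.Agent.Mrg.Omega.IId.BSTrick
import Cfsg.Agent.Mrg.Omega.NO3S.CaseLW.LamFix
import Cfsg.Agent.Mrg.Omega.NO3S.CaseLW.KSharp
import Cfsg.Agent.MinSimple.FFBlock

-- merged: Cfsg.Agent.Mrg.Omega.Node.OffQOf
section

/-!
# The glue QW ⟹ OffW, case (L) of GammaFF

`CaseL S P`, `K₀ = O₂(P)`, `B = BT (nL h)`, `Z_J = ZT (nL h)`, `S`, `N_G(B)`, `C_G(Z_J) ≤ M`.

* `exists_cj_S` : a 2-group `T ≥ B` in `C_G(Z)` is conjugate into `S` by an element of `C_G(Z) ∩ N_G(B)`;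
* `offC_of_S` : `OffC h M (C_G(Z))` from the pairs with `T ≤ S`;
* `wq_of` : the quiet `Y` over `T ≤ S` with `lim S ≤ O₂(Y)`, `O₂(P) ≰ O₂(Y)` are `WQ S P T Y`;
* `offC_of` : `OffC h M (C_G(Z))` from THEOREM QW over `WQ`; `offQ_of : QWQ K → OffQ K`.
-/

set_option autoImplicit false
set_option linter.unusedSectionVars false

namespace Cfsg.Agent.Omega.Node.OffQOf

open Subgroup Cfsg Cfsg.Agent.ZN.ChoiceBase Cfsg.Agent.ZN.ChoiceSit
open Cfsg.Agent.ZN (jj zj bau zc zl o2)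
open Cfsg.Agent.MinSimple.MinParabolic (IsMinPar)
open Cfsg.Agent.MinSimple.VModule (oddGen oddGen_le)
open Cfsg.Agent.Omega.MinPar (IsLoc)
open Cfsg.Agent.Omega.NO1.BestOff (Best)
open Cfsg.Agent.Omega.NO3b.EZero (cl cl_le cj_le_cl oddGen_sup_syl)
open Cfsg.Agent.Omega.NO3S.Level (Lev nxt lim lev_isLev lev_le_lim isLev_lim wc_lim CaseL)
open Cfsg.Agent.Omega.FrameNOFF (CZ)
open Cfsg.Agent.Omega.Frame (Cls)
open Cfsg.Agent.Omega.OM
open Cfsg.Agent.Omega.OM.SwapK (VF)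
open Cfsg.Agent.Omega.OM.SWT
open Cfsg.Agent.Omega.NO3S.WY (WQ ZJ BB)
open Cfsg.Agent.Omega.Node.MulX Cfsg.Agent.Omega.Node.OmTopQ

universe u

variable {G : Type u} [Group G] [Finite G] {S : Sylow 2 G} {P : Subgroup G}

/-- A 2-group `T ≥ B` in `C_G(Z)` is conjugate into `S` by an element of `C_G(Z) ∩ N_G(B)`. -/
theorem exists_cj_S (n : LV S) {T : Subgroup G} (hT : IsPGroup 2 T) (hB : BT n ≤ T)
    (hTC : T ≤ CZ (S : Subgroup G)) :
    ∃ c ∈ CZ (S : Subgroup G), c ∈ normalizer (BT n : Set G) ∧ cj c T ≤ (S : Subgroup G) := by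
  have hS : Syl (S : Subgroup G) (CZ (S : Subgroup G)) := ZN.CaseTwo.syl_of_sylow S (NO3S.Level.le_centralizer_zc _)
  obtain ⟨T₁, hT₁, hTT₁⟩ := exists_syl hT hTC
  obtain ⟨c, hc, hcS⟩ := syl_conj hT₁ hS
  have h1 : cj c T ≤ (S : Subgroup G) := by
    rw [← hcS]
    exact cj_mono c hTT₁
  exact ⟨c, hc, mem_normalizer_iff_cj.2 (wc n _ S.isPGroup' (lb n).BS _ ((cj_mono c hB).trans h1)), h1⟩

/-- `OffW` in `C_G(Z)` from the pairs with `T ≤ S`. -/
theorem offC_of_S (h : CaseL S P) {M : Subgroup G} (hN : normalizer (BT (nL h) : Set G) ≤ M)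
    (ho : ∀ T Y : Subgroup G, T ≤ (S : Subgroup G) → Quiet (nL h) M (CZ (S : Subgroup G)) T Y →
      lim (S : Subgroup G) ≤ o2 Y → ¬ o2 P ≤ o2 Y → ∃ A, A ≤ T ∧ Best (VF S P Y) A ∧ ¬ A ≤ o2 Y) :
    OffC h M (CZ (S : Subgroup G)) := by
  intro T Y hq hl hK
  obtain ⟨c, hc, hcB, hcS⟩ := exists_cj_S (nL h) hq.syl.2.1 hq.BT (hq.syl.1.trans hq.le)
  have hc' := inv_mem hcB
  have hq' := SWT.quiet_cj h hN hcB hq
  rw [cj_eq_of_mem_normalizer (le_normalizer hc)] at hq'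
  have hlw : cj c (lim (S : Subgroup G)) = lim (S : Subgroup G) :=
    LevD.norm_of_wc (NO3S.Level.wc_lim (S := S)) (lb (nL h)).Bp
      ((h.lim_le.trans (nL h).K_le_nx).trans (lb (nL h)).KB) hcB
  obtain ⟨A, h1, h2, h3⟩ := ho _ _ hcS hq' (by
    rw [o2_cj, ← hlw]
    exact cj_mono c hl) (fun hle => hK (by
    rw [o2_cj, ← (norm_all h hcB).1] at hle
    have := cj_mono c⁻¹ hle
    rwa [cj_inv_cj, cj_inv_cj] at this))
  refine ⟨cj c⁻¹ A, ?_, ?_, fun hle => h3 ?_⟩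
  · have := cj_mono c⁻¹ h1
    rwa [cj_inv_cj] at this
  · have h4 := VF_cj_eq h hc' (cj c Y)
    rw [cj_inv_cj] at h4
    rw [h4]
    exact best_cj c⁻¹ h2
  · rw [o2_cj]
    have := cj_mono c hle
    rwa [cj_cj_inv] at this

/-- The quiet `Y` without level, over `T ≤ S`. -/
theorem wq_of (h : CaseL S P) {M H T Y : Subgroup G} (hD : centralizer (ZT (nL h) : Set G) ≤ M)
    (hN : normalizer (BT (nL h) : Set G) ≤ M) (hTS : T ≤ (S : Subgroup G)) (hq : Quiet (nL h) M H T Y)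
    (hl : lim (S : Subgroup G) ≤ o2 Y) (hK : ¬ o2 P ≤ o2 Y) :
    WQ S P T Y ∧ ¬ oddGen Y ≤ centralizer (ZJ (S : Subgroup G) P : Set G) := by
  have hTM : T ≤ M := ((lb (nL h)).two_le hq.syl.2.1 hq.BT).trans hN
  have h1 : ¬ oddGen Y ≤ centralizer (ZJ (S : Subgroup G) P : Set G) := fun hle => by
    apply hq.nM
    rw [← oddGen_sup_syl hq.syl]
    exact sup_le (hle.trans hD) hTM
  refine ⟨⟨h, hTS, (nL h).K_le_nx.trans ((lb (nL h)).KB.trans hq.BT), hq.syl, hq.min, hq.char2, fun hle => h1 ?_,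
    hK, (isLev_lim (S : Subgroup G)).jjle.trans hl⟩, h1⟩
  exact hle.trans (centralizer_le (NO3S.WY.ZJ_le h))

theorem VF_eq (P' : Subgroup G) : VF S P P' = cl (zl (S : Subgroup G) P) P' := by
  apply le_antisymm
  · exact NoFF.Basic.V_le fun f hf => cj_le_cl hf
  · exact cl_le fun f hf => NoFF.Basic.Z_le_V hf

/-- **OffW in `C_G(Z)` from THEOREM QW.** -/
theorem offC_of (h : CaseL S P) {M : Subgroup G} (hD : centralizer (ZT (nL h) : Set G) ≤ M)
    (hN : normalizer (BT (nL h) : Set G) ≤ M)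
    (qw : ∀ T Y : Subgroup G, WQ S P T Y → BB (S : Subgroup G) P ≤ T → Y ≤ CZ (S : Subgroup G) →
      ¬ oddGen Y ≤ centralizer (ZJ (S : Subgroup G) P : Set G) → ¬ Y ≤ M →
      ∃ A, A ≤ T ∧ Best (cl (zl (S : Subgroup G) P) Y) A ∧ ¬ A ≤ o2 Y) : OffC h M (CZ (S : Subgroup G)) :=
  offC_of_S h hN fun T Y hTS hq hl hK => by
    obtain ⟨h1, h2⟩ := wq_of h hD hN hTS hq hl hK
    rw [VF_eq]
    exact qw T Y h1 hq.BT hq.le h2 hq.nM

section om

variable {B ZJ' : Subgroup G} {k : ℕ} {L W Z C A : Fin k → Subgroup G} {q : ℕ}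

/-- `M = N_G(O₂(KX))`, in the situation (Om) (any `q`). -/
theorem loc_of (h : OmC S P B ZJ' L W Z C A q) {M : Subgroup G}
    (hM : M = normalizer (o2 (KX B ZJ' (zl (S : Subgroup G) P)) : Set G)) :
    IsLoc (S : Subgroup G) M ∧ IsKGroup M ∧ P ≤ M ∧ centralizer (ZT (nL h.mul.cl) : Set G) ≤ M ∧
      normalizer (BT (nL h.mul.cl) : Set G) ≤ M := by
  subst hM
  have hcl := h.mul.cl
  set X : Subgroup G := normalizer (o2 (KX B ZJ' (zl (S : Subgroup G) P)) : Set G) with hX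
  have eB : B = BT (nL hcl) := h.mul.eqB
  have eZ : ZJ' = ZT (nL hcl) := h.mul.eZ
  have hZV : ZT (nL hcl) ≤ zl (S : Subgroup G) P := by rw [← eZ]; exact h.mul.fr.ZJV
  have hKX : KX B ZJ' (zl (S : Subgroup G) P) ≤ X := le_sup_left.trans h.le
  have hN : normalizer (BT (nL hcl) : Set G) ≤ X := by rw [← eB]; exact le_sup_right.trans h.le
  have hD : centralizer (ZT (nL hcl) : Set G) ≤ X := by rw [← eZ]; exact cent_le.trans hKX
  have hblk : ∀ L' V' : Subgroup G, LevB.FBlk (BT (nL hcl)) L' V' → V' ≤ zl (S : Subgroup G) P → L' ≤ X := by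
    intro L' V' h1 h2
    rw [← eB] at h1
    exact (blk_le ⟨⟨h1.fb, h1.blk⟩, h2⟩).trans hKX
  have hSX : (S : Subgroup G) ≤ X := ((lb (nL hcl)).two_le S.isPGroup' (lb (nL hcl)).BS).trans hN
  have hP : P ≤ X := by
    have hst := hcl.hypN.star
    obtain ⟨L₁, V₁, -, h2, h3, h4⟩ := exists_fblk hcl hZV hcl.hypN.toHyp.syl (lb (nL hcl)).BS hst.toIsMinPar
      (hst.isLoc.char2 S hcl.ctx.char2) le_rfl (MulG.top_caseL hcl).nxt
      (fun hc => hst.not_zc (hc.trans (centralizer_le_normalizer _)))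
    exact h4.trans (sup_le hSX (hblk L₁ V₁ h2 h3))
  have hloc : IsLoc (S : Subgroup G) X :=
    ⟨hSX, fun e => h.ne (le_bot_iff.1 (e ▸ MinSimple.VModule.le_o2 le_normalizer (isPGroup_o2 _) le_rfl))⟩
  exact ⟨hloc, ML.GNN.kgroup_of_isLoc hcl.ctx hcl.ctx.not_isPGroup hloc, hP, hD, hN⟩

end om

/-- **THEOREM QW**, case (L), natural, `q ≥ 4` (helper866's `offW`). -/
def QWQ (K : Cls.{u}) : Prop :=
  ∀ (G : Type u) [Group G] [Finite G], K G → ∀ (S : Sylow 2 G) (P B ZJ' : Subgroup G) (k : ℕ)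
    (L W Z C A : Fin k → Subgroup G) (q : ℕ), 2 ≤ k → 4 ≤ q → MulL S P B ZJ' L W Z C A q →
    ∀ M : Subgroup G, IsLoc (S : Subgroup G) M → IsKGroup M → P ≤ M →
      centralizer (ZJ (S : Subgroup G) P : Set G) ≤ M → normalizer (BB (S : Subgroup G) P : Set G) ≤ M →
      ∀ T Y : Subgroup G, WQ S P T Y → BB (S : Subgroup G) P ≤ T → Y ≤ CZ (S : Subgroup G) →
        ¬ oddGen Y ≤ centralizer (ZJ (S : Subgroup G) P : Set G) → ¬ Y ≤ M →
          ∃ A, A ≤ T ∧ Best (cl (zl (S : Subgroup G) P) Y) A ∧ ¬ A ≤ o2 Y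

/-- **OffQ from THEOREM QW.** -/
theorem offQ_of {K : Cls.{u}} (h : QWQ K) : OffQ K := by
  intro G _ _ hK S P B ZJ' k L W Z C A q hq hO
  obtain ⟨h1, h2, h3, h4, h5⟩ := loc_of hO rfl
  exact offC_of hO.mul.cl h4 h5 (h G hK S P B ZJ' k L W Z C A q hO.k2 hq hO.mul _ h1 h2 h3 h4 h5)

end Cfsg.Agent.Omega.Node.OffQOf

end

-- merged: Cfsg.Agent.Mrg.Omega.NO3S.CaseLW.QWPlug
section

/-!
# THEOREM QW: the plug, every `q`, from (2') `ho` (helper866, #24897)

* `U_le_oz`, `U_sq` : `U = ⟨V_P^Y⟩ ≤ O₂(C_G(Z))`, of exponent 2;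
* `U_le_o2_M` : under **(neg)**, `U ≤ O₂(M)`;
* **`offW_of_ho`** : THEOREM QW for `T ≤ S`, `Y ≤ C_G(Z)`;
* `offW` : `OffW S P M` from `ho`; **`offHQ_of_ho : MLK → HoQ K → OffHQ K`**.
-/

set_option autoImplicit false
set_option linter.unusedSectionVars false

namespace Cfsg.Agent.Omega.NO3S.CaseLW.QWPlug

open Subgroup Cfsg Cfsg.Agent.ZN Cfsg.Agent.ZN.ChoiceBase Cfsg.Agent.Omega.MinPar Cfsg.Agent.Omega.Frame
open Cfsg.Agent.ZN.ChoiceSit (Syl)
open Cfsg.Agent.Omega.FrameNOFF (CZ)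
open Cfsg.Agent.MinSimple.VModule (oddGen)
open Cfsg.Agent.Omega.NO3b.EZero (cl cl_le oddGen_sup_syl)
open Cfsg.Agent.Omega.NO1.BestOff (Best)
open Cfsg.Agent.Omega.NO3S.Level (lim nxt CaseL)
open Cfsg.Agent.Omega.NO3S.WY (WQ ZJ BB)
open Cfsg.Agent.Omega.NO3S.CaseLW.QWc (Neg)
open Cfsg.Agent.Omega.OM.Lev.Uni (FrL)
open Cfsg.Agent.Omega.OM.SwapT.QuietL (OffW)
open Cfsg.Agent.Omega.ML.Final (MLK)
open Cfsg.Agent.Omega.Node.MulX (MulL)
open Cfsg.Agent.Omega.Node.OmTopQ (OffHQ)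

universe u

variable {G : Type u} [Group G] [Finite G] {S : Sylow 2 G} {P T Y M : Subgroup G}

section

variable (h : WQ S P T Y)
include h

/-- `U ≤ O₂(C_G(Z))` -/
theorem U_le_oz (hY : Y ≤ CZ (S : Subgroup G)) : cl (zl (S : Subgroup G) P) Y ≤ o2 (CZ (S : Subgroup G)) :=
  cl_le fun y hy => by
    have h1 := cj_mono y (h.cl.low P h.parP)
    rwa [cj_eq_of_mem_normalizer (MinSimple.VModule.le_normalizer_o2 _ (hY hy))] at h1

theorem U_sq {x : G} (hx : x ∈ cl (zl (S : Subgroup G) P) Y) : x * x = 1 := by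
  have h2 := (ChoiceBase.mem_zc.1 (h.md_zl.le (QWc.U_le_zl h hx))).2.1
  rwa [sq] at h2

/-- `U ≤ O₂(M)`, under **(neg)**. -/
theorem U_le_o2_M (ml : MLK.{u, u}) (hY : Y ≤ CZ (S : Subgroup G)) (hM : IsLoc (S : Subgroup G) M) (hK : IsKGroup M)
    (hPM : P ≤ M) (neg : Neg T Y (cl (zl (S : Subgroup G) P) Y)) {ι : Type*} {X ZJ₀ : Subgroup G}
    {L W Z C A : ι → Subgroup G} {q : ℕ}
    (fr : FrL (BB (S : Subgroup G) P) (o2 P) (zl (S : Subgroup G) P) X ZJ₀ L W Z C A q) {z : G}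
    (hz : z ∈ zc (S : Subgroup G)) (hz1 : z ≠ 1)
    (ho : ∀ i, ∀ c ∈ Z i, W i ≤ o2 (centralizer ({z * c} : Set G))) :
    cl (zl (S : Subgroup G) P) Y ≤ o2 M := by
  have hS : (S : Subgroup G) ≠ ⊥ := fun hb => hz1 (by
    have h1 := ZN.zc_le _ hz
    rw [hb] at h1
    exact mem_bot.1 h1)
  have hOS : o2 (centralizer (zc (S : Subgroup G) : Set G)) ≤ (S : Subgroup G) := (isLoc_centralizer_zc S hS).o2_le S
  have hO : o2 (CZ (S : Subgroup G)) ≤ o2 (M ⊓ centralizer (zc (S : Subgroup G) : Set G)) := by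
    refine MinSimple.VModule.le_o2 (le_inf (hOS.trans hM.le) (hOS.trans (le_centralizer_zc _)))
      (MinSimple.VModule.o2_isPGroup _) (inf_le_right.trans (MinSimple.VModule.le_normalizer_o2 _))
  have h1 := QW.cent_zl_q S h.hG ml hM hK (z := z) (MinSimple.VModule.zc_le_zl _ _ hz) (fun x hx => U_sq h hx)
    ((U_le_oz h hY).trans hO) fun off hne => QWex.hex h hM hPM neg fr hY hz ho off hne
  exact QW.le_o2_M S hM.le hS h1 (U_le_oz h hY)

/-- **THEOREM QW**, `T ≤ S`, from (2') `ho`. -/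
theorem offW_of_ho (ml : MLK.{u, u}) (BT : BB (S : Subgroup G) P ≤ T) (hY : Y ≤ CZ (S : Subgroup G))
    (hM : IsLoc (S : Subgroup G) M) (hK : IsKGroup M)
    (hPM : P ≤ M) (hD : centralizer (ZJ (S : Subgroup G) P : Set G) ≤ M)
    (hYZ : ¬ oddGen Y ≤ centralizer (ZJ (S : Subgroup G) P : Set G)) {ι : Type*} {X ZJ₀ : Subgroup G}
    {L W Z C A : ι → Subgroup G} {q : ℕ}
    (fr : FrL (BB (S : Subgroup G) P) (o2 P) (zl (S : Subgroup G) P) X ZJ₀ L W Z C A q) {z : G}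
    (hz : z ∈ zc (S : Subgroup G)) (hz1 : z ≠ 1)
    (ho : ∀ i, ∀ c ∈ Z i, W i ≤ o2 (centralizer ({z * c} : Set G))) :
    ∃ A ≤ T, Best (cl (zl (S : Subgroup G) P) Y) A ∧ ¬ A ≤ o2 Y := by
  obtain ⟨A, h1, h2, -, h3⟩ := QWd.exists_best_odd h BT hY hD hPM hYZ
    fun neg => U_le_o2_M h ml hY hM hK hPM neg fr hz hz1 ho
  exact ⟨A, h1, h2, h3⟩

end

/-- **OffW** from (2') `ho`. -/
theorem offW (hcl : CaseL S P) (ml : MLK.{u, u}) (hM : IsLoc (S : Subgroup G) M) (hPM : P ≤ M)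
    (hD : centralizer (ZJ (S : Subgroup G) P : Set G) ≤ M) {ι : Type*} {X ZJ₀ : Subgroup G}
    {L W Z C A : ι → Subgroup G} {q : ℕ}
    (fr : FrL (BB (S : Subgroup G) P) (o2 P) (zl (S : Subgroup G) P) X ZJ₀ L W Z C A q) {z : G}
    (hz : z ∈ zc (S : Subgroup G)) (hz1 : z ≠ 1)
    (ho : ∀ i, ∀ c ∈ Z i, W i ≤ o2 (centralizer ({z * c} : Set G))) : OffW S P M := by
  intro T Y hw hB _ hY hYM
  have hYZ : ¬ oddGen Y ≤ centralizer (ZJ (S : Subgroup G) P : Set G) := fun hle => hYM (by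
    rw [← oddGen_sup_syl hw.syl]
    exact sup_le (hle.trans hD) (hw.TS.trans hM.le))
  obtain ⟨A, h1, h2, h3⟩ := offW_of_ho hw ml hB hY hM (ML.GNN.kgroup_of_isLoc hcl.ctx hcl.ctx.not_isPGroup hM) hPM hD
    hYZ fr hz hz1 ho
  exact ⟨A, h1, by rw [Node.OffQOf.VF_eq]; exact h2, h3⟩

/-- (2') over `MulL`, `q ≥ 4`. -/
def HoQ (K : Cls.{u}) : Prop :=
  ∀ (G : Type u) [Group G] [Finite G], K G → ∀ (S : Sylow 2 G) (P B ZJ' : Subgroup G) (k : ℕ)
    (L W Z C A : Fin k → Subgroup G) (q : ℕ), 2 ≤ k → 4 ≤ q → MulL S P B ZJ' L W Z C A q →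
      ∃ z ∈ zc (S : Subgroup G), z ≠ 1 ∧ ∀ i, ∀ c ∈ Z i, W i ≤ o2 (centralizer ({z * c} : Set G))

/-- **OffHQ from (2').** -/
theorem offHQ_of_ho (ml : MLK.{u, u}) {K : Cls.{u}} (hK : HoQ K) : OffHQ K := by
  intro G _ _ hG S P B ZJ' k L W Z C A q hk hq h M hM hPM hD hN
  obtain ⟨z, hz, hz1, ho⟩ := hK G hG S P B ZJ' k L W Z C A q hk hq h
  have eB : B = BB (S : Subgroup G) P := h.eqB
  have eZ : ZJ' = ZJ (S : Subgroup G) P := h.eZ
  subst eB
  exact offW h.cl ml hM hPM (eZ ▸ hD) h.fr hz hz1 ho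

end Cfsg.Agent.Omega.NO3S.CaseLW.QWPlug

end

-- merged: Cfsg.Agent.Mrg.Omega.NOThreeL.FFB.SymRp2
section

section


/-!
# THEOREM FFB (#19580): the second interface `RP2` for even-subset modules; `RP2` from the FF theorem

* `rp2_of_symKM` : `RP2` for even-subset modules;
* `rp2` : `RP2 S P` for every `P ∈ P*(S)` with an offender on `V_P`, in `DataZ`.
-/

set_option autoImplicit false

namespace Cfsg.Agent.Omega.NOThreeL.FFB

open Subgroup Cfsg Cfsg.Agent.ZN Cfsg.Agent.ZN.ChoiceBase Cfsg.Agent.Omega.MinPar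
open Cfsg.Agent.Omega.FFThm (ElemM OffM NoOverM ConclM SymK SymKM ActsSym relIndex_le_iff)
open Cfsg.Agent.Omega.Half (Amb)
open Cfsg.Agent.Omega.Half.SymA
open Cfsg.Agent.Omega.NOThreeL.NF (MinOffM)
open Cfsg.Agent.Omega.NOThreeL.NF.SymRP
open Cfsg.Agent.Omega.NOThreeL.FourLine (mem_zpowers_iff)
open Cfsg.Agent.Omega.NOThreeL.Basic (DataZ)
open scoped Classical commutatorElement

universe u

variable {G : Type u} [Group G] [Finite G] {S : Sylow 2 G} {P V : Subgroup G} {k m : ℕ}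

omit [Finite G] in
/-- `⟨b⟩` modulo the square -/
theorem zpowers_two {b : G} (hb2 : b ^ 2 ∈ centralizer (V : Set G)) :
    ∀ x ∈ zpowers b, x ∈ centralizer (V : Set G) ∨ x * b ∈ centralizer (V : Set G) := by
  rintro x ⟨n, rfl⟩
  have key : ∀ j : ℤ, b ^ (2 * j) ∈ centralizer (V : Set G) := fun j => by
    rw [zpow_mul]
    exact zpow_mem (by exact_mod_cast hb2) j
  rcases Int.even_or_odd n with ⟨j, hj⟩ | ⟨j, hj⟩
  · left
    have : n = 2 * j := by omega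
    simp only [this]
    exact key j
  · right
    have : b ^ n * b = b ^ (2 * (j + 1)) := by rw [← zpow_add_one, hj]; congr 1; ring
    simp only [this]
    exact key _

/-- A transposition generates an offender. -/
theorem offM_zpowers (N : SymK (S : Subgroup G) P V ⊥ k m) (hA : Amb (S : Subgroup G) P V) (hm : 1 ≤ m)
    {A : Subgroup G} (hE : ElemM V A) (hAS : A ≤ (S : Subgroup G)) {b : G} (hb : b ∈ A) {p q : Pt k m} (hpq : p ≠ q)
    (hπ : Mv N b (Equiv.swap p q)) : OffM V (zpowers b) := by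
  have hAP : A ≤ P := hAS.trans hA.TH
  have hbP : b ∈ P := hAP hb
  have hbn : b ∉ centralizer (V : Set G) := fun h0 => by
    rw [mem_cent_iff hA hbP hm hπ] at h0
    exact hpq (Equiv.swap_eq_one_iff.1 h0)
  have hsub : zpowers b ≤ A := zpowers_le.2 hb
  have hBne : ¬ zpowers b ≤ centralizer (V : Set G) := fun h0 => hbn (h0 (mem_zpowers b))
  refine ⟨⟨fun a ha => hE.sq a (hsub ha), fun a ha c hc => hE.comm a (hsub ha) c (hsub hc)⟩, hBne, ?_⟩
  rw [FFThm.relIndex_le_iff]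
  have h1 : (centralizer ((zpowers b : Subgroup G) : Set G)).relIndex V ≤ 2 := by
    have hiff : ∀ v ∈ V, v ∈ centralizer ((zpowers b : Subgroup G) : Set G) ↔ E N v p = E N v q := by
      intro v hv
      constructor
      · intro h1
        refine eq_of_comm hπ hv ?_
        rw [mem_centralizer_iff.1 h1 b (mem_zpowers b), mul_inv_cancel_right]
      · intro h1
        have h2 := comm_of_eq hA hbP hπ hv h1
        rw [mul_inv_eq_iff_eq_mul] at h2
        rw [← zpowers_le, le_centralizer_iff, zpowers_le, mem_centralizer_iff]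
        rintro _ ⟨j, rfl⟩
        have h3 : Commute b v := h2
        exact (h3.zpow_right j).eq.symm
    refine rel_le_two fun v hv w hw h1 h2 => ?_
    rw [hiff v hv] at h1
    rw [hiff w hw] at h2
    rw [hiff _ (mul_mem hv hw), E_mul N hv hw, E_mul N hv hw]
    revert h1 h2
    generalize E N v p = a
    generalize E N v q = b
    generalize E N w p = c
    generalize E N w q = d
    revert a b c d
    decide
  have h2 : 2 ≤ (centralizer (V : Set G)).relIndex (zpowers b) := by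
    have h2 : (centralizer (V : Set G)).relIndex (zpowers b) ≠ 0 :=
      FiniteIndex.index_ne_zero (H := (centralizer (V : Set G)).subgroupOf (zpowers b))
    have h3 : (centralizer (V : Set G)).relIndex (zpowers b) ≠ 1 := fun h0 => hBne (relIndex_eq_one.1 h0)
    omega
  exact h1.trans h2

/-- A transposition in `T` is generated by minimal offenders. -/
theorem mem_of_swap (N : SymK (S : Subgroup G) P V ⊥ k m) (hA : Amb (S : Subgroup G) P V) (hm : 1 ≤ m)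
    {T : Subgroup G} (hE : ElemM V T) (hT : T ≤ (S : Subgroup G)) {b : G} (hb : b ∈ T) {p q : Pt k m} (hpq : p ≠ q)
    (hπ : Mv N b (Equiv.swap p q)) :
    b ∈ sSup {B : Subgroup G | B ≤ T ∧ MinOffM V (S : Subgroup G) B} ⊔ centralizer (V : Set G) := by
  have hsub : zpowers b ≤ T := zpowers_le.2 hb
  obtain ⟨B, hB, hmin⟩ := exists_minOff (hsub.trans hT) (offM_zpowers N hA hm hE hT hb hpq hπ)
  obtain ⟨c, hc, hcn⟩ := SetLike.not_le_iff_exists.1 hmin.off.ne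
  have h1 := (zpowers_two (V := V) (hE.sq b hb) c (hB hc)).resolve_left hcn
  have e : b = c⁻¹ * (c * b) := by group
  rw [e]
  refine mul_mem ((le_sup_left : _ ≤ _ ⊔ centralizer (V : Set G)) ?_) ((le_sup_right : centralizer (V : Set G) ≤ _) h1)
  exact inv_mem ((le_sSup (a := B) (show B ∈ {B : Subgroup G | B ≤ T ∧ MinOffM V (S : Subgroup G) B} from
    ⟨hB.trans hsub, hmin⟩)) hc)

theorem sym_gen (M : SymKM (S : Subgroup G) P V ⊥ k m) (hA : Amb (S : Subgroup G) P V) (hm : 1 ≤ m)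
    {T : Subgroup G} (hT : T ≤ (S : Subgroup G)) (hoff : OffM V T) :
    T ≤ sSup {B : Subgroup G | B ≤ T ∧ MinOffM V (S : Subgroup G) B} ⊔ centralizer (V : Set G) := by
  obtain ⟨-, h1⟩ := M.offM T hT hoff
  set N := M.toSymK with hN
  set K := sSup {B : Subgroup G | B ≤ T ∧ MinOffM V (S : Subgroup G) B} ⊔ centralizer (V : Set G) with hK
  have hTP : T ≤ P := hT.trans hA.TH
  have main : ∀ n : ℕ, ∀ a ∈ T, ∀ π : Equiv.Perm (Pt k m), Mv N a π →
      (∀ p, π p ≠ p → π (π p) = p ∧ ∃ b ∈ T, Mv N b (Equiv.swap p (π p))) →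
      (Finset.univ.filter fun p => π p ≠ p).card = n → a ∈ K := by
    intro n
    induction n using Nat.strong_induction_on with
    | _ n ih =>
      intro a ha π hπ hmv hn
      by_cases h0 : ∀ p, π p = p
      · have h2 : π = 1 := by ext1 p; exact h0 p
        exact (le_sup_right : _ ≤ K) ((mem_cent_iff hA (hTP ha) hm hπ).2 h2)
      push Not at h0
      obtain ⟨p, hp⟩ := h0
      obtain ⟨hpp, b, hb, hbπ⟩ := hmv p hp
      set q := π p with hq
      have hbK : b ∈ K := mem_of_swap N hA hm hoff.toElemM hT hb (Ne.symm hp) hbπ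
      have hba : b * a ∈ T := mul_mem hb ha
      have hbaπ : Mv N (b * a) (Equiv.swap p q * π) := hbπ.mul hA hπ (hTP ha)
      have e1 : (Equiv.swap p q * π) p = p := by
        rw [Equiv.Perm.mul_apply, ← hq, Equiv.swap_apply_right]
      have e2 : (Equiv.swap p q * π) q = q := by
        rw [Equiv.Perm.mul_apply, hpp, Equiv.swap_apply_left]
      have e0 : ∀ r, r ≠ p → r ≠ q → π r ≠ p ∧ π r ≠ q := by
        intro r hrp hrq
        refine ⟨fun h3 => hrq ?_, fun h3 => hrp ?_⟩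
        · apply π.injective
          rw [h3, hpp]
        · apply π.injective
          rw [h3, ← hq]
      have e3 : ∀ r, r ≠ p → r ≠ q → (Equiv.swap p q * π) r = π r := by
        intro r hrp hrq
        obtain ⟨h3, h4⟩ := e0 r hrp hrq
        rw [Equiv.Perm.mul_apply, Equiv.swap_apply_of_ne_of_ne h3 h4]
      have hne : ∀ r, (Equiv.swap p q * π) r ≠ r → r ≠ p ∧ r ≠ q := by
        intro r hr
        constructor
        · rintro rfl; exact hr e1
        · rintro rfl; exact hr e2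
      have hlt : (Finset.univ.filter fun r => (Equiv.swap p q * π) r ≠ r).card < n := by
        rw [← hn]
        apply Finset.card_lt_card
        rw [Finset.ssubset_iff_of_subset]
        · exact ⟨p, by simpa using hp, fun h0 => (Finset.mem_filter.1 h0).2 e1⟩
        · intro r hr
          rw [Finset.mem_filter] at hr ⊢
          refine ⟨Finset.mem_univ _, ?_⟩
          obtain ⟨h3, h4⟩ := hne r hr.2
          rw [← e3 r h3 h4]
          exact hr.2
      have h5 : b * a ∈ K := by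
        refine ih _ hlt (b * a) hba _ hbaπ (fun r hr => ?_) rfl
        obtain ⟨h3, h4⟩ := hne r hr
        obtain ⟨h6, h7⟩ := e0 r h3 h4
        rw [e3 r h3 h4] at hr ⊢
        rw [e3 _ h6 h7]
        exact hmv r hr
      have e : a = b⁻¹ * (b * a) := by group
      rw [e]
      exact mul_mem (inv_mem hbK) h5
  intro a ha
  obtain ⟨τ, hτ, hb⟩ := h1 a ha
  refine main _ a ha (pm 1 τ) (mv_pm N hτ) ?_ rfl
  rintro ⟨i, x⟩ hix
  have hx : τ i x ≠ x := fun h0 => hix (Prod.ext rfl h0)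
  obtain ⟨h2, b, hbT, h3⟩ := hb i x hx
  refine ⟨Prod.ext rfl h2, b, hbT, ?_⟩
  have h4 := mv_pm N h3
  have h5 := pm_swap (k := k) (m := m) (p := (i, x)) (q := (i, τ i x)) rfl
  change pm 1 (Function.update 1 i (Equiv.swap x (τ i x))) = _ at h5
  rw [h5] at h4
  exact h4

omit [Finite G] in
/-- two minimal offenders with the same commutator move the same points -/
theorem swap_eq {N : SymK (S : Subgroup G) P V ⊥ k m} (hA : Amb (S : Subgroup G) P V) (hm : 1 ≤ m)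
    {A B : Subgroup G} {p q p' q' : Pt k m} (h : AD N A p q) (h' : AD N B p' q') (he : ⁅V, A⁆ = ⁅V, B⁆) :
    Equiv.swap p q = Equiv.swap p' q' := by
  obtain ⟨c, hc⟩ := exists_isC (M := N) h.sw.2.1
  obtain ⟨c', hc'⟩ := exists_isC (M := N) h'.sw.2.1
  rw [h.comm_eq hA hm hc, h'.comm_eq hA hm hc'] at he
  have h1 : c' ∈ zpowers c := by rw [he]; exact mem_zpowers c'
  rcases (mem_zpowers_iff (sq_one hA hc.1)).1 h1 with h2 | h2
  · exact absurd h2 (hc'.ne_one h'.sw.1)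
  have h3 : p' = p ∨ p' = q := by
    by_contra hcon
    push Not at hcon
    have h4 := hc.zero hcon.1 hcon.2
    rw [← h2, hc'.left h'.sw.1] at h4
    exact one_ne_zero h4
  have h5 : q' = p ∨ q' = q := by
    by_contra hcon
    push Not at hcon
    have h4 := hc.zero hcon.1 hcon.2
    rw [← h2, hc'.right h'.sw.1] at h4
    exact one_ne_zero h4
  have h6 := h'.sw.1
  rcases h3 with rfl | rfl <;> rcases h5 with rfl | rfl
  · exact absurd rfl h6
  · rfl
  · rw [Equiv.swap_comm]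
  · exact absurd rfl h6

theorem sym_eq (M : SymKM (S : Subgroup G) P V ⊥ k m) (hA : Amb (S : Subgroup G) P V) (hm : 1 ≤ m)
    {A B : Subgroup G} (h : MinOffM V (S : Subgroup G) A) (h' : MinOffM V (S : Subgroup G) B)
    (he : ⁅V, A⁆ = ⁅V, B⁆) {b : G} (hb : b ∈ B) : ∃ a ∈ A, a⁻¹ * b ∈ centralizer (V : Set G) := by
  obtain ⟨⟨p, q, had⟩, -⟩ := exists_ad M hA hm h
  obtain ⟨⟨p', q', had'⟩, -⟩ := exists_ad M hA hm h'
  have h1 := swap_eq hA hm had had' he
  rcases had'.all b hb with h2 | h2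
  · exact ⟨1, one_mem _, by rwa [inv_one, one_mul]⟩
  · obtain ⟨a, ha, haπ⟩ := had.ex
    refine ⟨a, ha, ?_⟩
    have haP := hA.TH (had.le ha)
    have hbP := hA.TH (had'.le hb)
    rw [mem_cent_iff hA (mul_mem (inv_mem haP) hbP) hm ((haπ.inv hA haP).mul hA h2 hbP), h1, inv_mul_cancel]

theorem sym_nn (M : SymKM (S : Subgroup G) P V ⊥ k m) (hA : Amb (S : Subgroup G) P V) (hm : 1 ≤ m)
    {B : Subgroup G} (h : MinOffM V (S : Subgroup G) B) {b : G} (hb : b ∈ B) (hbc : b ∉ centralizer (V : Set G))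
    {r : G} (hr : r ∈ ⁅V, B⁆) :
    ∃ y ∈ V, (∀ B' : Subgroup G, MinOffM V (S : Subgroup G) B' → ⁅V, B'⁆ ≠ ⁅V, B⁆ → y ∈ centralizer (B' : Set G)) ∧
      b * y * b⁻¹ * y⁻¹ = r := by
  obtain ⟨⟨p, q, had⟩, -⟩ := exists_ad M hA hm h
  obtain ⟨c, hc⟩ := exists_isC (M := M.toSymK) had.sw.2.1
  have hcm := had.comm_eq hA hm hc
  rw [hcm] at hr
  rcases (mem_zpowers_iff (sq_one hA hc.1)).1 hr with rfl | rfl
  · exact ⟨1, one_mem _, fun _ _ _ => one_mem _, by group⟩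
  have hπ := (had.all b hb).resolve_left hbc
  have hbP : b ∈ P := hA.TH (had.le hb)
  obtain ⟨y, hy⟩ := exists_isC (M := M.toSymK) (p := p) (q := (p.1, 0)) rfl
  have hp0 : p ≠ (p.1, 0) := fun h0 => had.sw.nz hA hm (congrArg Prod.snd h0)
  have hq0 : q ≠ (p.1, 0) := fun h0 => had.sw.symm.nz hA hm (congrArg Prod.snd h0)
  refine ⟨y, hy.1, fun B' hB' hne => ?_, ?_⟩
  · obtain ⟨⟨p', q', had'⟩, -⟩ := exists_ad M hA hm hB'
    have hp' : p' ≠ p := by
      rintro rfl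
      apply hne
      have h1 := had'.sw.uniq hA S.isPGroup' hm had.sw
      subst h1
      rw [hcm, had'.comm_eq hA hm hc]
    have hq' : q' ≠ p := by
      rintro rfl
      apply hne
      have h1 := had'.sw.symm.uniq hA S.isPGroup' hm had.sw
      subst h1
      rw [hcm, had'.comm_eq hA hm hc.symm]
    have e1 : E M.toSymK y p' = 0 := hy.zero hp' fun h0 => had'.sw.nz hA hm (congrArg Prod.snd h0)
    have e2 : E M.toSymK y q' = 0 := hy.zero hq' fun h0 => had'.sw.symm.nz hA hm (congrArg Prod.snd h0)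
    rw [mem_centralizer_iff]
    intro b' hb'
    rcases had'.all b' hb' with h4 | h4
    · exact (mem_centralizer_iff.1 h4 y hy.1).symm
    · have h5 := comm_of_eq hA (hA.TH (had'.le hb')) h4 hy.1 (by rw [e1, e2])
      rwa [mul_inv_eq_iff_eq_mul] at h5
  · rcases commutator_eq hA had.sw.1 hbP hπ hy.1 hc with h3 | h3
    · exfalso
      rw [commutatorElement_eq_one_iff_mul_comm] at h3
      have h4 : E M.toSymK y p = E M.toSymK y q := eq_of_comm hπ hy.1 (by rw [← h3, mul_inv_cancel_right])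
      rw [hy.left hp0, hy.zero had.sw.1.symm hq0] at h4
      exact one_ne_zero h4
    · have h4 : b * y * b⁻¹ * y⁻¹ = ⁅y, b⁆⁻¹ := by rw [commutatorElement_def]; group
      rw [h4, h3, inv_eq_iff_mul_eq_one]
      exact sq_one hA hc.1

/-- **`RP2` for even-subset modules.** -/
theorem rp2_of_symKM (hG : IsCharacteristicTwoType G) (hP : IsLoc (S : Subgroup G) P)
    (hD : FrameFF.cv (S : Subgroup G) P = ⊥) (hm : 1 ≤ m)
    (M : SymKM (S : Subgroup G) P (zl (S : Subgroup G) P) (FrameFF.cv (S : Subgroup G) P) k m) :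
    RP2 (S : Subgroup G) P := by
  rw [hD] at M
  have hA : Amb (S : Subgroup G) P (zl (S : Subgroup G) P) := Half.amb_of_loc hG S hP
  exact ⟨fun T hT h => sym_gen M hA hm hT h, fun A B h h' he b hb => sym_eq M hA hm h h' he hb,
    fun B h b hb hbc r hr => sym_nn M hA hm h hb hbc hr⟩

/-- **`RP2` from the FF theorem.** -/
theorem rp2 (h : Frame.Ctx G) (D : DataZ (S : Subgroup G)) (hP : IsParS (S : Subgroup G) P)
    (hoff : ∃ A : Subgroup G, A ≤ P ∧ OffM (zl (S : Subgroup G) P) A) : RP2 (S : Subgroup G) P := by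
  have hc := h.char2
  have hcv : FrameFF.cv (S : Subgroup G) P = ⊥ := D.cv_eq hc hP
  obtain ⟨hno, hcon⟩ := StarEnd.stmtM G (S : Subgroup G) P (MinSimple.EmptyTI.syl_of_le hP.le)
    hP.toIsMinPar (hP.isLoc.char2 S hc) hoff
  rcases hcon with ⟨F, _, _, _, k, hk, ⟨M⟩⟩ | ⟨k, m, hk, hm, ⟨M⟩⟩
  · exact rp2_of_natKM hP.le hcv M
  · exact rp2_of_symKM hc hP.isLoc hcv (by omega) M

/-- `NoOverM` from the FF theorem. -/
theorem noOver (h : Frame.Ctx G) (hP : IsParS (S : Subgroup G) P)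
    (hoff : ∃ A : Subgroup G, A ≤ P ∧ OffM (zl (S : Subgroup G) P) A) : NoOverM (zl (S : Subgroup G) P) P :=
  (StarEnd.stmtM G (S : Subgroup G) P (MinSimple.EmptyTI.syl_of_le hP.le)
    hP.toIsMinPar (hP.isLoc.char2 S h.char2) hoff).1

end Cfsg.Agent.Omega.NOThreeL.FFB

end

section


/-!
# THEOREM FFB (#19580): (0) absorption

* `absorb` : in `DataZ`, for `P, P' ∈ P*(S)`, `V_{P'}` FF, `z ∈ Z#`, `p ∈ P` with `P = ⟨S, S^p⟩`: if `z^p ∈ V_{P'}`
  then `P ≤ ⟨P', C⟩` or `P' ≤ ⟨P, C⟩`, `C = C_G(Z)`.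
-/

set_option autoImplicit false

namespace Cfsg.Agent.Omega.NOThreeL.FFB

open Subgroup Cfsg Cfsg.Agent.Omega.MinPar
open Cfsg.Agent.ZN (zc zl o2)
open Cfsg.Agent.ZN.ChoiceBase hiding mem_zc
open Cfsg.Agent.Omega.FFThm (ElemM OffM NoOverM ConclM NatKM ActsSL SymK SymKM ActsSym)
open Cfsg.Agent.Omega.NatPair (ap ap_mul ap_one ap_inv_ap ap_zero' ap_one' ext2 exists_ap)
open Cfsg.Agent.Omega.NO3b.EZero (cent_symm cj_cent)
open Cfsg.Agent.Omega.NOThreeL.NF.NatR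
open Cfsg.Agent.Omega.NOThreeL.Basic (DataZ)
open Cfsg.Agent.MinSimple.VModule (mem_zc zc_le zc_sq zc_comm le_centralizer_zc zc_le_zl zl_le
  le_normalizer_zl normalizer_le_normalizer_zc le_normalizer_o2 o2_isPGroup o2_le)
open Cfsg.Agent.Lib.SL2Mat

universe u

variable {G : Type u} [Group G]

theorem exists_two_part [Finite G] (g : G) : ∃ j, Odd j ∧ ∃ n, (g ^ j) ^ 2 ^ n = 1 := by
  obtain ⟨k, j, hj, hkj⟩ := Nat.exists_eq_two_pow_mul_odd (orderOf_pos g).ne'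
  exact ⟨j, hj, k, by rw [← pow_mul, mul_comm, ← hkj, pow_orderOf_eq_one]⟩

theorem pow_odd_of_sq {x : G} (hx : x * x = 1) {j : ℕ} (hj : Odd j) : x ^ j = x := by
  obtain ⟨i, rfl⟩ := hj
  rw [pow_succ, pow_mul, pow_two, hx, one_pow, one_mul]

theorem conj_two {g t : G} (h : ∃ n, g ^ 2 ^ n = 1) : ∃ n, (t⁻¹ * g * t) ^ 2 ^ n = 1 := by
  obtain ⟨n, hn⟩ := h
  refine ⟨n, ?_⟩
  have h1 := conj_pow (i := 2 ^ n) (a := t⁻¹) (b := g)
  rw [inv_inv] at h1
  rw [h1, hn]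
  group

section nat

variable {F : Type} [Field F] {S P W : Subgroup G} {k : ℕ}

theorem Ac.pow {M : NatKM F S P W ⊥ k} (hPW : P ≤ normalizer (W : Set G)) {g : G}
    {A : Fin k → Matrix.SpecialLinearGroup (Fin 2) F} (hg : g ∈ P) (h : Ac M g A) (n : ℕ) :
    Ac M (g ^ n) (A ^ n) := by
  induction n with
  | zero => rw [pow_zero, pow_zero]; exact ac_one (one_mem _)
  | succ n ih => rw [pow_succ, pow_succ]; exact Ac.mul hPW hg ih h

theorem nat_absorb [Finite G] [Finite F] [CharP F 2] (hPW : P ≤ normalizer (W : Set G)) (hSP : S ≤ P)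
    (M : NatKM F S P W ⊥ k) {v : G} (hv : v ∈ W) {j : Fin k} (h0 : M.e v j = 0) {K : Subgroup G} (hSK : S ≤ K)
    (hKP : K ≤ P) (hK : ∀ g ∈ P, g * v * g⁻¹ = v → (∃ n, g ^ 2 ^ n = 1) → g ∈ K) :
    P ≤ K ⊔ (P ⊓ centralizer (W : Set G)) := by
  classical
  have hK1 : ∀ i, ∀ g ∈ P, (∀ w ∈ W, M.e w i = 0 → g * w * g⁻¹ = w) → (∃ n, g ^ 2 ^ n = 1) → g ∈ K := by
    intro i g hg hw h2
    obtain ⟨t, ht, h1⟩ := M.trans j i
    have htP := hSP ht
    have h3 : t⁻¹ * g * t ∈ K := by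
      refine hK _ (mul_mem (mul_mem (inv_mem htP) hg) htP) ?_ (conj_two h2)
      have h4 := hw _ (cmem hPW htP hv) ((h1 v hv).2 h0)
      have e : t⁻¹ * g * t * v * (t⁻¹ * g * t)⁻¹ = t⁻¹ * (g * (t * v * t⁻¹) * g⁻¹) * t := by group
      rw [e, h4]; group
    have e : g = t * (t⁻¹ * g * t) * t⁻¹ := by group
    rw [e]
    exact mul_mem (mul_mem (hSK ht) h3) (inv_mem (hSK ht))
  have hK2 : ∀ (i : Fin k) (B : Matrix.SpecialLinearGroup (Fin 2) F), B * B = 1 →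
      ∃ g ∈ K, Ac M g (Pi.mulSingle i B) := by
    intro i B hB
    obtain ⟨g, hg, hac⟩ := lift_ac (M := M) (Pi.mulSingle i B)
    obtain ⟨n, hn, h2⟩ := exists_two_part g
    have h3 := Ac.pow hPW hg hac n
    have h4 : (Pi.mulSingle i B : Fin k → Matrix.SpecialLinearGroup (Fin 2) F) * Pi.mulSingle i B = 1 := by
      rw [← Pi.mulSingle_mul, hB, Pi.mulSingle_one]
    rw [pow_odd_of_sq h4 hn] at h3
    refine ⟨g ^ n, hK1 i _ (pow_mem hg n) (fun w hw hwi => ?_) h2, h3⟩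
    refine e_inj (M := M) (cmem hPW (pow_mem hg n) hw) hw ?_
    funext i'
    rw [h3 w hw i']
    by_cases hi : i' = i
    · subst hi
      rw [hwi]
      refine ext2 ?_ ?_
      · rw [ap_zero']; simp
      · rw [ap_one']; simp
    · rw [Pi.mulSingle_eq_of_ne hi, ap_one]
  let Γ : Subgroup (Fin k → Matrix.SpecialLinearGroup (Fin 2) F) :=
    { carrier := {B | ∃ m ∈ K, Ac M m B}
      mul_mem' := by
        rintro B B' ⟨m, hm, hmB⟩ ⟨m', hm', hmB'⟩
        exact ⟨m * m', mul_mem hm hm', Ac.mul hPW (hKP hm') hmB hmB'⟩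
      one_mem' := ⟨1, one_mem _, ac_one (one_mem _)⟩
      inv_mem' := by
        rintro B ⟨m, hm, hmB⟩
        exact ⟨m⁻¹, inv_mem hm, hmB.inv hPW (hKP hm)⟩ }
  have hup : ∀ i c, Pi.mulSingle i (up c) ∈ Γ := fun i c => hK2 i (up c) (by
    rw [up_mul, CharTwo.add_self_eq_zero, up_zero])
  have hlo : ∀ i c, Pi.mulSingle i (lo c) ∈ Γ := fun i c => hK2 i (lo c) (by
    rw [lo_mul, CharTwo.add_self_eq_zero, lo_zero])
  have hall : ∀ B, B ∈ Γ := by
    intro B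
    refine pi_mem_of_mulSingle_mem B fun j => ?_
    obtain ⟨a, b, c, d, h1⟩ := exists_up_lo (B j)
    rw [h1, Pi.mulSingle_mul, Pi.mulSingle_mul, Pi.mulSingle_mul]
    exact mul_mem (mul_mem (mul_mem (hup j a) (hlo j b)) (hup j c)) (hlo j d)
  refine M.gen _ (hSK.trans le_sup_left) fun h hh A hA => ?_
  obtain ⟨m, hm, hmA⟩ := hall A
  have h1 : Ac M h A := hA.1
  have h2 := Ac.mul hPW hh (hmA.inv hPW (hKP hm)) h1
  rw [inv_mul_cancel] at h2
  have h3 : m⁻¹ * h ∈ P := mul_mem (inv_mem (hKP hm)) hh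
  have e : h = m * (m⁻¹ * h) := by group
  rw [e]
  exact mul_mem ((le_sup_left : K ≤ _) hm) ((le_sup_right : P ⊓ centralizer (W : Set G) ≤ _)
    ⟨h3, cent_of_ac (M := M) hPW h3 h2⟩)

end nat

section sym

open Cfsg.Agent.Omega.Half (Amb)
open Cfsg.Agent.Omega.Half.SymA
open Cfsg.Agent.Omega.NOThreeL.NF.SymRP
open scoped Classical

variable [Finite G] {S : Sylow 2 G} {P V : Subgroup G} {k m : ℕ}

/-- A vector which is not the full one commutes with a transposition `(0 x)`. -/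
theorem exists_fix_swap (N : SymK (S : Subgroup G) P V ⊥ k m) (hA : Amb (S : Subgroup G) P V) (hm : 1 ≤ m)
    {v z : G} (hv : v ∈ V) (hz : z ∈ zc (S : Subgroup G)) (hz1 : z ≠ 1) (hne : v ≠ z) :
    ∃ c : Fin k, ∃ x : Fin (2 ^ m + 1), x ≠ 0 ∧ E N v (c, 0) = E N v (c, x) := by
  by_contra hcon
  push Not at hcon
  apply hne
  refine inj N hv (hA.zc hz) fun p => ?_
  rw [E_zc (M := N) hA hm hz hz1]
  have h1 : ∀ c : Fin k, E N v (c, 0) = 0 := by
    intro c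
    have h2 := even N hv c
    rw [Fin.sum_univ_succ] at h2
    have h3 : ∀ x ∈ (Finset.univ : Finset (Fin (2 ^ m))), E N v (c, x.succ) = 1 + E N v (c, 0) := by
      intro x _
      have h4 := hcon c x.succ (Fin.succ_ne_zero x)
      revert h4
      generalize E N v (c, 0) = a
      generalize E N v (c, x.succ) = b
      revert a b
      decide
    rw [Finset.sum_congr rfl h3, Finset.sum_const, Finset.card_univ, Fintype.card_fin, nsmul_eq_mul] at h2
    have h4 : ((2 ^ m : ℕ) : ZMod 2) = 0 := by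
      rw [ZMod.natCast_eq_zero_iff]
      exact dvd_pow_self 2 (by omega)
    rw [h4, zero_mul, add_zero] at h2
    exact h2
  by_cases hp : p.2 = 0
  · rw [if_pos hp]
    have : p = (p.1, 0) := Prod.ext rfl hp
    rw [this]
    exact h1 p.1
  · rw [if_neg hp]
    have h2 := hcon p.1 p.2 hp
    rw [h1] at h2
    exact zmod2_ne.1 (Ne.symm h2)

theorem sym_absorb (N : SymK (S : Subgroup G) P V ⊥ k m) (hA : Amb (S : Subgroup G) P V) (hm : 1 ≤ m)
    {v z : G} (hv : v ∈ V) (hz : z ∈ zc (S : Subgroup G)) (hz1 : z ≠ 1) (hne : v ≠ z) {K : Subgroup G}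
    (hSK : (S : Subgroup G) ≤ K) (hKP : K ≤ P)
    (hK : ∀ g ∈ P, g * v * g⁻¹ = v → (∃ n, g ^ 2 ^ n = 1) → g ∈ K) :
    P ≤ K ⊔ (P ⊓ centralizer (V : Set G)) := by
  obtain ⟨c, x, hx, hvx⟩ := exists_fix_swap N hA hm hv hz hz1 hne
  have hx0 : ((c, x) : Pt k m).2 ≠ 0 := hx
  let Γ : Subgroup (Equiv.Perm (Pt k m)) :=
    { carrier := {π | ∃ g ∈ K, Mv N g π}
      mul_mem' := by
        rintro π ρ ⟨g, hg, hπ⟩ ⟨g', hg', hρ⟩
        exact ⟨g * g', mul_mem hg hg', hπ.mul hA hρ (hKP hg')⟩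
      one_mem' := ⟨1, one_mem _, Mv_one N⟩
      inv_mem' := by
        rintro π ⟨g, hg, hπ⟩
        exact ⟨g⁻¹, inv_mem hg, hπ.inv hA (hKP hg)⟩ }
  -- the transpositions with the zero point
  have hΓ0 : ∀ (i : Fin k) (y : Fin (2 ^ m + 1)), Equiv.swap ((i, 0) : Pt k m) (i, y) ∈ Γ := by
    intro i y
    by_cases hy : y = 0
    · rw [hy, Equiv.swap_self]; exact one_mem Γ
    obtain ⟨g, hg, hπ⟩ := exists_swap (M := N) (p := (i, 0)) (q := (i, y)) rfl
    obtain ⟨n, hn, h2⟩ := exists_two_part g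
    have h3 := hπ.pow hA hg n
    rw [pow_odd_of_sq (Equiv.swap_mul_self _ _) hn] at h3
    have hgP : g ^ n ∈ P := pow_mem hg n
    obtain ⟨t, ht, ρ, hρ, h1⟩ := trans_pts (M := N) S hA hm (p := (c, x)) (q := (i, y)) hx0 hy
    have htP := hA.TH ht
    have h4 : ρ (c, 0) = (i, 0) := by
      have h5 : (ρ (c, 0)).1 = (ρ (c, x)).1 := hρ.fst hA hm htP rfl
      rw [h1] at h5
      have h6 : (ρ (c, 0)).2 = 0 := (hρ.snd hA hm ht).2 rfl
      exact Prod.ext h5 h6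
    have h5 : Mv N (t⁻¹ * g ^ n * t⁻¹⁻¹) (ρ⁻¹ * Equiv.swap (i, 0) (i, y) * ρ⁻¹⁻¹) :=
      (hρ.inv hA htP).conj hA (inv_mem htP) h3 hgP
    have h6 : ρ⁻¹ * Equiv.swap (i, 0) (i, y) * ρ⁻¹⁻¹ = Equiv.swap ((c, 0) : Pt k m) (c, x) := by
      rw [← Equiv.swap_apply_apply, Equiv.Perm.inv_eq_iff_eq.2 h4.symm, Equiv.Perm.inv_eq_iff_eq.2 h1.symm]
    rw [h6, inv_inv] at h5
    have h7 : t⁻¹ * g ^ n * t ∈ P := mul_mem (mul_mem (inv_mem htP) hgP) htP
    have h8 : t⁻¹ * g ^ n * t ∈ K := hK _ h7 (comm_of_eq hA h7 h5 hv hvx) (conj_two h2)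
    refine ⟨g ^ n, ?_, h3⟩
    have e : g ^ n = t * (t⁻¹ * g ^ n * t) * t⁻¹ := by group
    rw [e]
    exact mul_mem (mul_mem (hSK ht) h8) (inv_mem (hSK ht))
  -- all transpositions
  have hΓ1 : ∀ (i : Fin k) (y y' : Fin (2 ^ m + 1)), Equiv.swap ((i, y) : Pt k m) (i, y') ∈ Γ := by
    intro i y y'
    by_cases hyy : y = y'
    · rw [hyy, Equiv.swap_self]; exact one_mem Γ
    by_cases hy : y = 0
    · rw [hy]; exact hΓ0 i y'
    by_cases hy' : y' = 0
    · rw [hy', Equiv.swap_comm]; exact hΓ0 i y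
    have h1 : ((i, y') : Pt k m) ≠ (i, 0) := fun h => hy' (congrArg Prod.snd h)
    have h2 : ((i, y') : Pt k m) ≠ (i, y) := fun h => hyy (congrArg Prod.snd h).symm
    have h3 := Equiv.swap_apply_apply (Equiv.swap ((i, 0) : Pt k m) (i, y)) (i, 0) (i, y')
    rw [Equiv.swap_apply_left, Equiv.swap_apply_of_ne_of_ne h1 h2] at h3
    rw [h3]
    exact mul_mem (mul_mem (hΓ0 i y) (hΓ0 i y')) (inv_mem (hΓ0 i y))
  let φ : (Fin k → Equiv.Perm (Fin (2 ^ m + 1))) →* Equiv.Perm (Pt k m) :=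
    { toFun := fun τ => pm 1 τ
      map_one' := by ext1 ⟨i, y⟩; rfl
      map_mul' := fun τ τ' => by ext1 ⟨i, y⟩; rfl }
  have hall : ∀ τ : Fin k → Equiv.Perm (Fin (2 ^ m + 1)), pm 1 τ ∈ Γ := by
    intro τ
    change τ ∈ Γ.comap φ
    refine pi_mem_of_mulSingle_mem τ fun i => ?_
    induction τ i using Equiv.Perm.swap_induction_on with
    | one => rw [Pi.mulSingle_one]; exact one_mem _
    | swap_mul f y y' hyy ih =>
      rw [Pi.mulSingle_mul]
      refine mul_mem ?_ ih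
      change pm 1 (Pi.mulSingle i (Equiv.swap y y')) ∈ Γ
      have h1 := pm_swap (k := k) (m := m) (p := (i, y)) (q := (i, y')) rfl
      change pm 1 (Function.update 1 i (Equiv.swap y y')) = _ at h1
      change pm 1 (Function.update 1 i (Equiv.swap y y')) ∈ Γ
      rw [h1]
      exact hΓ1 i y y'
  refine N.gen _ (hSK.trans le_sup_left) fun h hh τ hτ _ => ?_
  obtain ⟨g, hg, hπ⟩ := hall τ
  have h1 : Mv N h (pm 1 τ) := mv_pm N hτ
  have h3 : g⁻¹ * h ∈ P := mul_mem (inv_mem (hKP hg)) hh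
  have h2 := (hπ.inv hA (hKP hg)).mul hA h1 hh
  rw [inv_mul_cancel] at h2
  have e : h = g * (g⁻¹ * h) := by group
  rw [e]
  exact mul_mem ((le_sup_left : K ≤ _) hg) ((le_sup_right : P ⊓ centralizer (V : Set G) ≤ _)
    ⟨h3, (mem_cent_iff hA h3 hm h2).2 rfl⟩)

end sym

variable [Finite G] {S : Sylow 2 G} {P P' : Subgroup G}

/-- `P = K C_P(V_P)` implies `P = K`. -/
theorem le_of_sup (hP : IsParS (S : Subgroup G) P) (hS : (S : Subgroup G) ≠ ⊥)
    (hcz : zc (S : Subgroup G) ⊓ centralizer (P : Set G) = ⊥) {K : Subgroup G}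
    (hSK : (S : Subgroup G) ≤ K) (hKP : K ≤ P)
    (h : P ≤ K ⊔ (P ⊓ centralizer (zl (S : Subgroup G) P : Set G))) : P ≤ K := by
  by_contra hcon
  obtain ⟨M, hM, hmax⟩ := hP.exists_max
  have h1 : K ≤ M := hmax K hSK (lt_of_le_not_ge hKP hcon)
  have h2 : (S : Subgroup G) ⊔ (P ⊓ centralizer (zl (S : Subgroup G) P : Set G)) ≤ M := by
    refine hmax _ le_sup_left (lt_of_le_not_ge (sup_le hP.le inf_le_left) fun h0 => ?_)
    have h3 := MinSimple.Basic.zc_ne_bot S.isPGroup' hS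
    obtain ⟨a, ha⟩ := Subgroup.ne_bot_iff_exists_ne_one.1 h3
    apply ha
    have h4 : (a : G) ∈ zc (S : Subgroup G) ⊓ centralizer (P : Set G) := by
      refine ⟨a.2, ?_⟩
      have h5 : P ≤ centralizer ({(a : G)} : Set G) := by
        refine h0.trans (sup_le (fun s hs => ?_) fun c hc => ?_)
        · rw [mem_centralizer_singleton_iff]
          exact (mem_zc.1 a.2).2.1 s hs
        · rw [mem_centralizer_singleton_iff]
          exact (mem_centralizer_iff.1 hc.2 _ (zc_le_zl _ _ a.2)).symm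
      exact mem_centralizer_iff.2 fun x hx => mem_centralizer_singleton_iff.1 (h5 hx)
    rw [hcz, mem_bot] at h4
    exact Subtype.ext h4
  exact not_le_of_gt hM (h.trans (sup_le h1 (le_sup_right.trans h2)))

/-- 2-elements of `N_G(Z)` centralise `Z`. -/
theorem mem_CZ_of_two {g : G} (hg : g ∈ normalizer (zc (S : Subgroup G) : Set G)) (h2 : ∃ n, g ^ 2 ^ n = 1) :
    g ∈ centralizer (zc (S : Subgroup G) : Set G) := by
  obtain ⟨n, hn⟩ := h2
  have hz : IsPGroup 2 (zpowers g) := by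
    rw [IsPGroup.iff_card, Nat.card_zpowers]
    obtain ⟨j, -, hj⟩ := (Nat.dvd_prime_pow Nat.prime_two).1 (orderOf_dvd_of_pow_eq_one hn)
    exact ⟨j, hj⟩
  obtain ⟨x, hx, hxS⟩ := FFThm.exists_conj_le S (N := normalizer (zc (S : Subgroup G) : Set G))
    ((le_centralizer_zc (S : Subgroup G)).trans (centralizer_le_normalizer _)) hz ((zpowers_le).2 hg)
  have h1 : x * g * x⁻¹ ∈ (S : Subgroup G) := hxS ⟨g, mem_zpowers g, rfl⟩
  have h3 := le_centralizer_zc (S : Subgroup G) h1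
  have h4 : x⁻¹ * (x * g * x⁻¹) * x⁻¹⁻¹ ∈ centralizer (zc (S : Subgroup G) : Set G) := by
    have h5 : cj x⁻¹ (centralizer (zc (S : Subgroup G) : Set G)) = centralizer (zc (S : Subgroup G) : Set G) := by
      rw [cj_centralizer, cj_eq_of_mem_normalizer (inv_mem hx)]
    rw [← h5]
    exact ⟨_, h3, rfl⟩
  have e : x⁻¹ * (x * g * x⁻¹) * x⁻¹⁻¹ = g := by group
  rwa [e] at h4

/-- `C_G(z) ≤ N_G(Z)` -/
theorem cent_le (D : DataZ (S : Subgroup G)) {z : G} (hz : z ∈ zc (S : Subgroup G)) (hz1 : z ≠ 1) :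
    centralizer ({z} : Set G) ≤ normalizer (zc (S : Subgroup G) : Set G) :=
  RTools.le_normalizer S hz hz1 (fun P1 hP1 hz' => hz1 (by
    have h4 : z ∈ zc (S : Subgroup G) ⊓ centralizer (P1 : Set G) := ⟨hz, mem_centralizer_iff.2 fun x hx =>
      mem_centralizer_singleton_iff.1 (hz' hx)⟩
    rwa [D.cz P1 hP1, mem_bot] at h4))

/-- **(0) Absorption.** -/
theorem absorb (h : Frame.Ctx G) (D : DataZ (S : Subgroup G)) (hP : IsParS (S : Subgroup G) P)
    (hP' : IsParS (S : Subgroup G) P')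
    (hoff : ∃ A : Subgroup G, A ≤ P' ∧ OffM (zl (S : Subgroup G) P') A) {z : G}
    (hz : z ∈ zc (S : Subgroup G)) (hz1 : z ≠ 1) {p : G} (hp : p ∈ P)
    (hpS : P ≤ (S : Subgroup G) ⊔ cj p (S : Subgroup G)) (hmem : p * z * p⁻¹ ∈ zl (S : Subgroup G) P') :
    P ≤ P' ⊔ centralizer (zc (S : Subgroup G) : Set G) ∨ P' ≤ P ⊔ centralizer (zc (S : Subgroup G) : Set G) := by
  have hc := h.char2
  have hcz := cent_le D hz hz1
  set C := centralizer (zc (S : Subgroup G) : Set G) with hC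
  have hSC : (S : Subgroup G) ≤ C := le_centralizer_zc _
  by_cases hcj : ∃ p' ∈ P', p * z * p⁻¹ = p' * z * p'⁻¹
  · -- (a)
    left
    obtain ⟨p', hp', he⟩ := hcj
    have h1 : p'⁻¹ * p ∈ centralizer ({z} : Set G) := by
      rw [mem_centralizer_singleton_iff]
      calc p'⁻¹ * p * z = p'⁻¹ * (p * z * p⁻¹) * p := by group
        _ = z * (p'⁻¹ * p) := by rw [he]; group
    have h2 : cj (p'⁻¹ * p) C = C := by
      rw [hC, cj_centralizer, cj_eq_of_mem_normalizer (hcz h1)]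
    have h3 : cj p (S : Subgroup G) ≤ cj p' C := by
      have h4 : cj p C = cj p' C := by
        have h5 := congrArg (cj p') h2
        rw [cj_cj, mul_inv_cancel_left] at h5
        exact h5
      rw [← h4]
      exact cj_mono p hSC
    have h6 : cj p' C ≤ P' ⊔ C := by
      have h7 : cj p' (P' ⊔ C) = P' ⊔ C := cj_eq_of_mem_normalizer (le_normalizer ((le_sup_left : P' ≤ _) hp'))
      rw [← h7]
      exact cj_mono p' le_sup_right
    exact hpS.trans (sup_le (hP'.le.trans le_sup_left) (h3.trans h6))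
  · -- (b)
    right
    push Not at hcj
    set v := p * z * p⁻¹ with hvdef
    set K := P' ⊓ (P ⊔ C) with hKdef
    have hSK : (S : Subgroup G) ≤ K := le_inf hP'.le (hP.le.trans le_sup_left)
    have hKP : K ≤ P' := inf_le_left
    have hK : ∀ g ∈ P', g * v * g⁻¹ = v → (∃ n, g ^ 2 ^ n = 1) → g ∈ K := by
      intro g hg hgv h2
      refine ⟨hg, ?_⟩
      have h1 : p⁻¹ * g * p ∈ centralizer ({z} : Set G) := by
        rw [mem_centralizer_singleton_iff]
        have h3 : g * v = v * g := by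
          rwa [mul_inv_eq_iff_eq_mul] at hgv
        calc p⁻¹ * g * p * z = p⁻¹ * (g * v) * p := by rw [hvdef]; group
          _ = z * (p⁻¹ * g * p) := by rw [h3, hvdef]; group
      have h3 : p⁻¹ * g * p ∈ C := mem_CZ_of_two (hcz h1) (conj_two h2)
      have e : g = p * (p⁻¹ * g * p) * p⁻¹ := by group
      rw [e]
      have hpK : p ∈ P ⊔ C := (le_sup_left : P ≤ _) hp
      exact (P ⊔ C).mul_mem ((P ⊔ C).mul_mem hpK ((le_sup_right : C ≤ _) h3)) ((P ⊔ C).inv_mem hpK)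
    have hmain : P' ≤ K ⊔ (P' ⊓ centralizer (zl (S : Subgroup G) P' : Set G)) := by
      have hcv : FrameFF.cv (S : Subgroup G) P' = ⊥ := D.cv_eq hc hP'
      have hPW : P' ≤ normalizer (zl (S : Subgroup G) P' : Set G) := le_normalizer_zl _ _
      obtain ⟨-, hcon⟩ := StarEnd.stmtM G (S : Subgroup G) P' (MinSimple.EmptyTI.syl_of_le hP'.le)
        hP'.toIsMinPar (hP'.isLoc.char2 S hc) hoff
      rcases hcon with ⟨F, _, _, _, k, hk, ⟨M⟩⟩ | ⟨k, m, hk, hm, ⟨M⟩⟩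
      · rw [hcv] at M
        have hzW : z ∈ zl (S : Subgroup G) P' := zc_le_zl _ _ hz
        have hcen : ∀ s ∈ (S : Subgroup G), s * z * s⁻¹ = z := by
          intro s hs
          rw [(mem_zc.1 hz).2.1 s hs]
          group
        have hzf : ∀ j, M.e z j ≠ 0 := by
          intro j h0
          refine hz1 (e_inj (M := M) hzW (one_mem _) ?_)
          rw [e_one]
          funext j'
          obtain ⟨s, hs, h1⟩ := M.trans j j'
          have h2 := (h1 z hzW).2 h0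
          rwa [hcen s hs] at h2
        obtain ⟨j, hj⟩ : ∃ j, M.e v j = 0 := by
          by_contra hcon
          push Not at hcon
          obtain ⟨p', hp', he⟩ := conj_of (M := M) hPW hzW hmem hzf hcon
          exact hcj p' hp' he
        exact nat_absorb hPW hP'.le M hmem hj hSK hKP hK
      · rw [hcv] at M
        have hA : Half.Amb (S : Subgroup G) P' (zl (S : Subgroup G) P') := Half.amb_of_loc hc S hP'.isLoc
        refine sym_absorb M.toSymK hA (by omega) hmem hz hz1 (fun h0 => hcj 1 (one_mem _) ?_) hSK hKP hK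
        rw [h0]; group
    exact (le_of_sup hP' (h.sylow_ne_bot S) (D.cz P' hP') hSK hKP hmain).trans inf_le_right

end Cfsg.Agent.Omega.NOThreeL.FFB

end

end

-- merged: Cfsg.Agent.Mrg.Omega.NO3S.CaseLW.HoQOf
section

section


/-!
# THEOREM QW: (2') over `MulL`, every `q`, and `OffHQ` from `MLK`

* `ho` : `W i ≤ O₂(C_G(z c))` for every `1 ≠ z ∈ Z`, `c ∈ Z i` (`LowOne.low_one`, `QWoFr.le_o2_q`);
* `hoQ : MLK → HoQ K`, **`offHQ : MLK → OmTopQ.OffHQ K`** (`QWPlug.offHQ_of_ho`).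
-/

set_option autoImplicit false

namespace Cfsg.Agent.Omega.NO3S.CaseLW.HoQOf

open Subgroup Cfsg
open Cfsg.Agent.ZN (zc zl o2)
open Cfsg.Agent.Omega.Frame
open Cfsg.Agent.Omega.ML.Final (MLK)
open Cfsg.Agent.Omega.Node.MulX (MulL)
open Cfsg.Agent.Omega.Node.OmTopQ (OffHQ)
open Cfsg.Agent.Omega.NO3S.CaseLW.QWPlug (HoQ offHQ_of_ho)

universe u

/-- **(2')**, every `q` -/
theorem ho {G : Type u} [Group G] [Finite G] {S : Sylow 2 G} {P B ZJ : Subgroup G} {k : ℕ}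
    {L W Z C A : Fin k → Subgroup G} {q : ℕ} (h : MulL S P B ZJ L W Z C A q) (ml : MLK.{u, u}) {z : G}
    (hz : z ∈ zc (S : Subgroup G)) (hz1 : z ≠ 1) (i : Fin k) {c : G} (hc : c ∈ Z i) :
    W i ≤ o2 (centralizer ({z * c} : Set G)) :=
  QWoFr.le_o2_q h.fr h.cl.ctx.char2 h.bg.bau_two (OM.UniPlus.WC.weakNormal h.bg.wc) h.norm_le h.bg.two
    (LowOne.zc_le_ZJ h hz) (LowOne.supp h hz hz1) (LowOne.low_one h ml hz hz1) i hc

theorem exists_zc {G : Type u} [Group G] [Finite G] {S : Sylow 2 G} {P B ZJ : Subgroup G} {k : ℕ}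
    {L W Z C A : Fin k → Subgroup G} {q : ℕ} (h : MulL S P B ZJ L W Z C A q) :
    ∃ z ∈ zc (S : Subgroup G), z ≠ 1 := by
  by_contra hcon
  push Not at hcon
  exact h.cl.hypN.toHyp.zc_ne ((eq_bot_iff_forall _).2 hcon)

theorem hoQ (ml : MLK.{u, u}) (K : Cls.{u}) : HoQ K := by
  intro G _ _ _ S P B ZJ k L W Z C A q _ _ h
  obtain ⟨z, hz, hz1⟩ := exists_zc h
  exact ⟨z, hz, hz1, fun i c hc => ho h ml hz hz1 i hc⟩

/-- **THEOREM QW, `q ≥ 4`, over `MulL`** -/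
theorem offHQ (ml : MLK.{u, u}) (K : Cls.{u}) : OffHQ K := offHQ_of_ho ml (hoQ ml K)

end Cfsg.Agent.Omega.NO3S.CaseLW.HoQOf

end

section


/-!
# THEOREM QW, every `q`: `z z_j` is not `G`-conjugate to `z` (helper360 #25134 (f), helper792 #25398)

`FrL B Q V X ZJ L W Z C A q`, `B ≤ S` weakly closed, `N_G(B) ≤ N_G(X)`, `z ∈ Z_J` of full support, centralised by `S`;
`e ∈ Z_J` centralised by `B` with trivial `j`-component. Then `e` is not a conjugate of `z`: a Sylow 2-subgroup `S^n ≥ B` of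
`C_G(e)` has `B^n = B`, and `N_G(B)` permutes the supports.
-/

set_option autoImplicit false
set_option linter.unusedSectionVars false

namespace Cfsg.Agent.Omega.NO3S.CaseLW.QWnc

open Subgroup Cfsg Cfsg.Agent.PLocal.ThompsonJ Cfsg.Agent.ZN Cfsg.Agent.ZN.ChoiceBase
open Cfsg.Agent.Omega.SQ1.Bau (elem_comm elem_sq)
open Cfsg.Agent.Omega.OM.BlockUniq Cfsg.Agent.Omega.OM.Uni Cfsg.Agent.Omega.OM.Lev.Uni
open Cfsg.Agent.Omega.OM.WeakCl (WC)
open Cfsg.Agent.Omega.NO3S.CaseLW.QWoFr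

universe u

variable {G : Type u} [Group G] [Finite G] {ι : Type*} [Finite ι] {B Q V X ZJ : Subgroup G}
  {L W Z C A : ι → Subgroup G} {q : ℕ}

/-- `N_G(B)` maps vectors of full support to vectors of full support. -/
theorem full_cj (h : FrL B Q V X ZJ L W Z C A q) (hX : normalizer (B : Set G) ≤ normalizer (X : Set G)) {z : G}
    (hz : z ∈ ZJ) (hf : ∀ i, z ∉ C i) {n : G} (hn : n ∈ normalizer (B : Set G)) :
    n * z * n⁻¹ ∈ ZJ ∧ ∀ i, n * z * n⁻¹ ∉ C i := by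
  have hZ : n * z * n⁻¹ ∈ ZJ := by
    rw [← h.zcB] at hz ⊢
    obtain ⟨h1, h2, h3⟩ := ChoiceBase.mem_zc.1 hz
    refine ChoiceBase.mem_zc.2 ⟨(mem_normalizer_iff.1 hn z).1 h1, ?_, fun b hb => ?_⟩
    · rw [conj_pow, h2, mul_one, mul_inv_cancel]
    · have hb' : n⁻¹ * b * n ∈ B := by
        have := (mem_normalizer_iff.1 (inv_mem hn) b).1 hb
        rwa [inv_inv] at this
      have h4 := h3 _ hb'
      calc b * (n * z * n⁻¹) = n * ((n⁻¹ * b * n) * z) * n⁻¹ := by group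
        _ = n * (z * (n⁻¹ * b * n)) * n⁻¹ := by rw [h4]
        _ = n * z * n⁻¹ * b := by group
  refine ⟨hZ, fun j hj => ?_⟩
  have hn' := inv_mem hn
  obtain ⟨-, hp⟩ := h.norm_of hn' (hX hn')
  obtain ⟨i, hi, -⟩ := hp j
  have h1 := supp_cj h (fun i => (hp i).imp fun m hm => hm.1) hi hZ hj
  have e : n⁻¹ * (n * z * n⁻¹) * n⁻¹⁻¹ = z := by group
  rw [e] at h1
  exact hf i h1

/-- **`e` with a trivial component is not a conjugate of `z`.** -/
theorem not_conj (h : FrL B Q V X ZJ L W Z C A q) (S : Sylow 2 G) (hBS : B ≤ (S : Subgroup G)) (wc : WC B)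
    (hX : normalizer (B : Set G) ≤ normalizer (X : Set G)) {z : G} (hz : z ∈ ZJ) (hf : ∀ i, z ∉ C i)
    (hS : ∀ s ∈ (S : Subgroup G), s * z = z * s) {e : G} (he : ∀ b ∈ B, b * e = e * b) {j : ι} (hj : e ∈ C j) (g : G) :
    g * z * g⁻¹ ≠ e := by
  have : Fact (Nat.Prime 2) := ⟨Nat.prime_two⟩
  intro hge
  have hSe : cj g (S : Subgroup G) ≤ centralizer ({e} : Set G) := by
    rintro _ ⟨s, hs, rfl⟩
    rw [mem_centralizer_singleton_iff, ← hge]
    change g * s * g⁻¹ * (g * z * g⁻¹) = g * z * g⁻¹ * (g * s * g⁻¹)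
    calc g * s * g⁻¹ * (g * z * g⁻¹) = g * (s * z) * g⁻¹ := by group
      _ = g * (z * s) * g⁻¹ := by rw [hS s hs]
      _ = _ := by group
  have hBe : B ≤ centralizer ({e} : Set G) := fun b hb => mem_centralizer_singleton_iff.2 (he b hb)
  have hB2 : IsPGroup 2 B := S.isPGroup'.to_le hBS
  -- a conjugate of `S` in `C_G(e)` containing `B`
  obtain ⟨x, hx, hBx⟩ : ∃ x ∈ centralizer ({e} : Set G), B ≤ cj (x * g) (S : Subgroup G) := by
    set H : Subgroup G := centralizer ({e} : Set G) with hH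
    let T1 : Subgroup H := (cj g (S : Subgroup G)).subgroupOf H
    have hT1 : IsPGroup 2 T1 := (S.isPGroup'.map _).comap_of_injective _ H.subtype_injective
    have hcard : ∀ Y : Subgroup G, IsPGroup 2 Y → Nat.card Y ≤ Nat.card (S : Subgroup G) := by
      intro Y hY
      obtain ⟨R, hR⟩ := hY.exists_le_sylow
      have h1 := Subgroup.card_le_of_le hR
      have h2 : Nat.card (R : Subgroup G) = Nat.card (S : Subgroup G) := Nat.card_congr (Sylow.equiv R S).toEquiv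
      omega
    obtain ⟨P1, hP1⟩ := hT1.exists_le_sylow
    have hP1e : (P1 : Subgroup H).map H.subtype = cj g (S : Subgroup G) := by
      have h1 : cj g (S : Subgroup G) ≤ (P1 : Subgroup H).map H.subtype := by
        intro y hy
        exact ⟨⟨y, hSe hy⟩, hP1 (mem_subgroupOf.2 hy), rfl⟩
      refine (Subgroup.eq_of_le_of_card_ge h1 ?_).symm
      rw [card_cj]
      exact hcard _ (P1.isPGroup'.map _)
    have hBH : IsPGroup 2 (B.subgroupOf H) := hB2.comap_of_injective _ H.subtype_injective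
    obtain ⟨P2, hP2⟩ := hBH.exists_le_sylow
    obtain ⟨x, hx⟩ := MulAction.exists_smul_eq H P1 P2
    refine ⟨x, x.2, fun b hb => ?_⟩
    have h1 : (⟨b, hBe hb⟩ : H) ∈ (P2 : Subgroup H) := hP2 (mem_subgroupOf.2 hb)
    rw [← hx, Sylow.coe_subgroup_smul, Subgroup.mem_pointwise_smul_iff_inv_smul_mem] at h1
    have h2 : (x : G)⁻¹ * b * (x : G) ∈ (P1 : Subgroup H).map H.subtype := by
      refine ⟨_, h1, ?_⟩
      simp [MulAut.smul_def]
    rw [hP1e, mem_cj] at h2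
    rw [mem_cj]
    have e1 : (↑x * g)⁻¹ * b * (↑x * g) = g⁻¹ * ((x : G)⁻¹ * b * (x : G)) * g := by group
    rw [e1]
    exact h2
  have hn : x * g ∈ normalizer (B : Set G) := by
    have h1 := wc _ (S.isPGroup'.map _ : IsPGroup 2 (cj (x * g) (S : Subgroup G))) hBx (x * g) (cj_mono _ hBS)
    rw [mem_normalizer_iff_cj]
    exact h1
  have h1 := (full_cj h hX hz hf hn).2 j
  apply h1
  have e1 : x * g * z * (x * g)⁻¹ = x * (g * z * g⁻¹) * x⁻¹ := by group
  rw [e1, hge, mul_inv_eq_iff_eq_mul.2 (mem_centralizer_singleton_iff.1 hx)]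
  exact hj

end Cfsg.Agent.Omega.NO3S.CaseLW.QWnc

end

section


/-!
# THEOREM LAMBDA (#24622): the input `YD` of `Lam.core`

* `exists_yd` : **`GE T Y U AA`, `U ≤ T`, `ConclM T Y`, a member of the family outside `O₂(Y)`, `Y` moves `Ω₁Z(T)`:
  `YD T Y U AA N c`** for some families `N`, `c`.
-/

set_option autoImplicit false

namespace Cfsg.Agent.Omega.NO3S.CaseLW.Lam

open Subgroup Cfsg Cfsg.Agent.ZN Cfsg.Agent.ZN.ChoiceBase
open Cfsg.Agent.Omega.OM.GLev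

universe u

variable {G : Type u} [Group G] [Finite G] {T Y U : Subgroup G} {AA : Set (Subgroup G)}

theorem YD.of {Λ : Type} {N c : Λ → Subgroup G} (h : YBX.Concl T Y U AA N c) : YD T Y U AA N c where
  yb := h.yb
  mv := h.ex
  cen := fun x hx hc => h.cen x hx.1 hc
  line := h.com

/-- **The blocks of `Y` on `C_U(⟨AA⟩)`.** -/
theorem exists_yd (h : GE T Y U AA) (hUT : U ≤ T) (hN : FFThm.ConclM T Y) (hex : ∃ A ∈ AA, ¬ A ≤ o2 Y)
    (hZ : ¬ Y ≤ centralizer (zc T : Set G)) :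
    ∃ (Λ : Type) (_ : Finite Λ) (N c : Λ → Subgroup G), YD T Y U AA N c := by
  obtain ⟨Λ, hf, N, c, hc⟩ := YBX.exists_ybx h hUT hN hex hZ
  exact ⟨Λ, hf, N, c, YD.of hc⟩

end Cfsg.Agent.Omega.NO3S.CaseLW.Lam

end

section


/-!
# `V_P ≤ O₂(C_G(r))` for every `r ∈ Z_J` of full support (LEMMA LZ, helper322 #26498 (1))

* `exists_conj_full` (`FrL`): the elements of full support of `Z_J` are conjugate under `⟨L i⟩ ≤ N_G(V)`;
* `low_full`, `ho_full` (`MulL`, every `q`).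
-/

set_option autoImplicit false

namespace Cfsg.Agent.Omega.NO3S.CaseLW.LowFull

open Subgroup Cfsg Cfsg.Agent.ZN.ChoiceBase
open Cfsg.Agent.ZN (zc zl o2)
open Cfsg.Agent.Omega.OM.Lev.Uni (FrL)
open Cfsg.Agent.Omega.ML.Final (MLK)
open Cfsg.Agent.Omega.Node.MulX (MulL)

universe u

variable {G : Type u} [Group G] [Finite G]

/-- **the elements of full support of `Z_J` are conjugate under `⟨L i⟩`** -/
theorem exists_conj_full {ι : Type*} [Finite ι] {B Q V X ZJ : Subgroup G} {L W Z C A : ι → Subgroup G} {q : ℕ}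
    (h : FrL B Q V X ZJ L W Z C A q) {z r : G} (hz : z ∈ ZJ) (hzf : ∀ i, z ∉ C i) (hr : r ∈ ZJ)
    (hrf : ∀ i, r ∉ C i) : ∃ g ∈ ⨆ i, L i, g ∈ normalizer (V : Set G) ∧ g * z * g⁻¹ = r := by
  classical
  cases nonempty_fintype ι
  have hLV : ∀ i, L i ≤ normalizer (V : Set G) := fun i l hl => by
    rw [mem_normalizer_iff_cj]
    exact h.cj_V hl
  have key : ∀ s : Finset ι, ∃ g ∈ ⨆ i, L i, g ∈ normalizer (V : Set G) ∧ g * z * g⁻¹ ∈ ZJ ∧
      (∀ i, g * z * g⁻¹ ∉ C i) ∧ ∀ i ∈ s, (g * z * g⁻¹)⁻¹ * r ∈ C i := by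
    intro s
    induction s using Finset.induction_on with
    | empty =>
      refine ⟨1, one_mem _, one_mem _, ?_, ?_, ?_⟩
      · simpa using hz
      · simpa using hzf
      · simp
    | insert a s ha ih =>
      obtain ⟨g, hg, hgV, hyJ, hyf, hys⟩ := ih
      set y := g * z * g⁻¹ with hy
      obtain ⟨w, hw, c, hc, hcJ, e⟩ := h.split_ZJ a hyJ
      obtain ⟨w', hw', c', hc', -, e'⟩ := h.split_ZJ a hr
      have hw1 : w ≠ 1 := fun h1 => hyf a (by rw [e, h1, one_mul]; exact hc)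
      have hw1' : w' ≠ 1 := fun h1 => hrf a (by rw [e', h1, one_mul]; exact hc')
      obtain ⟨l, hl, e3⟩ := QWoFr.Z_conj h hw hw' hw1 hw1'
      have e4 : l * g * z * (l * g)⁻¹ = w' * c := by
        have h1 := h.LC a l hl c hcJ hc
        calc l * g * z * (l * g)⁻¹ = l * y * l⁻¹ := by rw [hy]; group
          _ = (l * w * l⁻¹) * (l * c * l⁻¹) := by rw [e]; group
          _ = w' * c := by rw [e3, h1]; group
      refine ⟨l * g, mul_mem (mem_iSup_of_mem a hl) hg, mul_mem (hLV a hl) hgV, ?_, ?_, ?_⟩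
      · rw [e4]
        exact mul_mem (h.Z_le a hw') hcJ
      · intro i hi
        rw [e4] at hi
        by_cases hia : i = a
        · subst hia
          have h1 : w' ∈ C i := by
            have h2 := mul_mem hi (inv_mem hc)
            rwa [mul_inv_cancel_right] at h2
          exact QWoFr.not_mem_C h hw' hw1' h1
        · apply hyf i
          have h1 : w ∈ C i := QWoFr.Z_C h hia hw
          have h2 : w' ∈ C i := QWoFr.Z_C h hia hw'
          have h3 : y = w * (w'⁻¹ * (w' * c)) := by rw [e]; group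
          rw [h3]
          exact mul_mem h1 (mul_mem (inv_mem h2) hi)
      · intro i hi
        rw [e4]
        have hcV := h.CV a hc
        by_cases hia : i = a
        · subst hia
          have h1 : (w' * c)⁻¹ * r = c⁻¹ * c' := by rw [e']; group
          rw [h1]
          exact mul_mem (inv_mem hc) hc'
        · have hi' := hys i ((Finset.mem_insert.1 hi).resolve_left hia)
          have h1 : w ∈ C i := QWoFr.Z_C h hia hw
          have h2 : w' ∈ C i := QWoFr.Z_C h hia hw'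
          have h3 : (w' * c)⁻¹ * r = (c⁻¹ * w'⁻¹) * (w * (c * (y⁻¹ * r))) := by
            rw [e]; group
          have h4 : c⁻¹ * w'⁻¹ = w'⁻¹ * c⁻¹ := h.Vc (inv_mem hcV) (inv_mem (h.ZV a hw'))
          have h5 : w * (c * (y⁻¹ * r)) = c * (w * (y⁻¹ * r)) := by
            have h6 : w * c = c * w := h.Vc (h.ZV a hw) hcV
            rw [← mul_assoc, h6, mul_assoc]
          rw [h3, h4, h5]
          have h7 : w'⁻¹ * c⁻¹ * (c * (w * (y⁻¹ * r))) = w'⁻¹ * (w * (y⁻¹ * r)) := by group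
          rw [h7]
          exact mul_mem (inv_mem h2) (mul_mem h1 hi')
  obtain ⟨g, hg, hgV, hyJ, -, hys⟩ := key Finset.univ
  refine ⟨g, hg, hgV, ?_⟩
  have h1 := h.C0 _ (mul_mem (inv_mem (h.ZJV hyJ)) (h.ZJV hr)) fun i => hys i (Finset.mem_univ i)
  exact inv_mul_eq_one.1 h1

variable {S : Sylow 2 G} {P B ZJ : Subgroup G} {k : ℕ} {L W Z C A : Fin k → Subgroup G} {q : ℕ}

/-- **LEMMA LZ for every `r ∈ Z_J` of full support** -/
theorem low_full (h : MulL S P B ZJ L W Z C A q) (ml : MLK.{u, u}) {r : G} (hr : r ∈ ZJ) (hrf : ∀ i, r ∉ C i) :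
    zl (S : Subgroup G) P ≤ o2 (centralizer ({r} : Set G)) := by
  obtain ⟨z, hz, hz1⟩ : ∃ z ∈ zc (S : Subgroup G), z ≠ 1 := by
    by_contra hcon
    push Not at hcon
    exact h.cl.hypN.toHyp.zc_ne ((eq_bot_iff_forall _).2 hcon)
  obtain ⟨g, -, hgV, e⟩ := exists_conj_full h.fr (LowOne.zc_le_ZJ h hz) (LowOne.supp h hz hz1) hr hrf
  intro v hv
  have h1 : g⁻¹ * v * g ∈ zl (S : Subgroup G) P := (mem_normalizer_iff''.1 hgV v).1 hv
  have h2 := QWoFr.o2_cj e (LowOne.low_one h ml hz hz1 h1)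
  have e2 : g * (g⁻¹ * v * g) * g⁻¹ = v := by group
  rwa [e2] at h2

/-- **(2') for every `r ∈ Z_J` of full support** -/
theorem ho_full (h : MulL S P B ZJ L W Z C A q) (ml : MLK.{u, u}) {r : G} (hr : r ∈ ZJ) (hrf : ∀ i, r ∉ C i)
    (i : Fin k) {c : G} (hc : c ∈ Z i) : W i ≤ o2 (centralizer ({r * c} : Set G)) :=
  QWoFr.le_o2_q h.fr h.cl.ctx.char2 h.bg.bau_two (OM.UniPlus.WC.weakNormal h.bg.wc) h.norm_le h.bg.two
    hr hrf (low_full h ml hr hrf) i hc

end Cfsg.Agent.Omega.NO3S.CaseLW.LowFull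

end

section


/-!
# THEOREM QW (helper866, OMEGA #24897), step (2), pure form

`M` acts on the elementary abelian `Z_M`, no non-trivial normal subgroup of `M / C_M(Z_M)` is a 2-group; `1 ≠ z ∈ Z_M`,
`w ∈ M` a transvection on `Z_M` with centre `c ≠ z`; `w` lies in a 2-subgroup normalised by `C_M(z)` and in a
2-subgroup normalised by `C_M(z c)`.  Then `w` centralises `Z_M` (`mem_centralizer`): every conjugate of `w`
centralises `c`, `z` or `z c`, and Baer–Suzuki.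
-/

set_option autoImplicit false

namespace Cfsg.Agent.Omega.NO3S.CaseLW.QWt

open Subgroup

/-- Baer–Suzuki modulo a normal subgroup `K`, for an element `w` with `w² ∈ K`. -/
theorem mem_of_pairs {M : Type*} [Group M] [Finite M] {K : Subgroup M} [K.Normal]
    (hred : ∀ R : Subgroup M, R.Normal → (∀ r ∈ R, ∃ n : ℕ, r ^ 2 ^ n ∈ K) → R ≤ K) {w : M} (hww : w * w ∈ K)
    (h : ∀ m : M, ∃ A : Subgroup M, (∀ a ∈ A, ∃ n : ℕ, a ^ 2 ^ n ∈ K) ∧ w ∈ A ∧
      (∀ a ∈ A, (m * w * m⁻¹) * a * (m * w * m⁻¹)⁻¹ ∈ A)) : w ∈ K := by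
  let π : M →* M ⧸ K := QuotientGroup.mk' K
  have hK : ∀ x : M, π x = 1 ↔ x ∈ K := fun x => QuotientGroup.eq_one_iff x
  have h1 : ∀ g : M ⧸ K, IsPGroup 2 (closure {π w, g * π w * g⁻¹} : Subgroup (M ⧸ K)) := by
    intro g
    obtain ⟨m, rfl⟩ := QuotientGroup.mk'_surjective K g
    obtain ⟨A, hA2, hwA, hAn⟩ := h m
    have hA : IsPGroup 2 (A.map π) := by
      rintro ⟨_, a, ha, rfl⟩
      obtain ⟨n, hn⟩ := hA2 a ha
      refine ⟨n, Subtype.ext ?_⟩
      have := (hK _).2 hn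
      rw [map_pow] at this
      simpa using this
    have e : π m * π w * (π m)⁻¹ = π (m * w * m⁻¹) := by simp
    change IsPGroup 2 (closure {π w, π m * π w * (π m)⁻¹} : Subgroup (M ⧸ K))
    rw [e]
    refine IId.BSTrick.pair_isPGroup hA (mem_map_of_mem _ hwA) ?_ ?_
    · have hle : (A.map π).map (MulAut.conj (π (m * w * m⁻¹))).toMonoidHom ≤ A.map π := by
        rintro _ ⟨_, ⟨a, ha, rfl⟩, rfl⟩
        refine ⟨_, hAn a ha, ?_⟩
        change π (m * w * m⁻¹ * a * (m * w * m⁻¹)⁻¹) = π (m * w * m⁻¹) * π a * (π (m * w * m⁻¹))⁻¹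
        rw [← map_inv, ← map_mul, ← map_mul]
      have heq : (A.map π).map (MulAut.conj (π (m * w * m⁻¹))).toMonoidHom = A.map π := by
        refine Subgroup.eq_of_le_of_card_ge hle ?_
        have hinj : Function.Injective (MulAut.conj (π (m * w * m⁻¹))).toMonoidHom :=
          (MulAut.conj (π (m * w * m⁻¹))).injective
        rw [Subgroup.card_map_of_injective hinj]
      rw [Subgroup.mem_normalizer_iff]
      intro y
      refine ⟨fun hy => hle ⟨y, hy, rfl⟩, fun hy => ?_⟩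
      rw [← heq] at hy
      obtain ⟨y', hy', e'⟩ := hy
      have e2 : (MulAut.conj (π (m * w * m⁻¹))) y' = (MulAut.conj (π (m * w * m⁻¹))) y := e'
      rwa [(MulAut.conj (π (m * w * m⁻¹))).injective e2] at hy'
    · rw [← map_mul]
      refine (hK _).2 ?_
      have e3 : m * w * m⁻¹ * (m * w * m⁻¹) = m * (w * w) * m⁻¹ := by group
      rw [e3]
      exact Normal.conj_mem inferInstance _ hww _
  have h2 := Cfsg.Agent.Involutions.BaerSuzuki.baer_suzuki_element (p := 2) (π w) h1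
  have h3 : ((normalClosure {π w}).comap π).Normal := Normal.comap inferInstance π
  refine hred _ h3 ?_ (show w ∈ (normalClosure {π w}).comap π from subset_normalClosure rfl)
  intro r hr
  obtain ⟨n, hn⟩ := h2 ⟨π r, hr⟩
  refine ⟨n, (hK _).1 ?_⟩
  have := congrArg Subtype.val hn
  rw [map_pow]
  simpa using this

variable {G : Type*} [Group G]

/-- The elements of `M` which centralise `c` and act on `Z` as multiplication by `1` or `c`. -/
def tv (M Z : Subgroup G) (c : G) (hN : ∀ m ∈ M, ∀ x ∈ Z, m * x * m⁻¹ ∈ Z) (hcc : c * c = 1) :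
    Subgroup G where
  carrier := {a | a ∈ M ∧ a * c * a⁻¹ = c ∧ ∀ x ∈ Z, a * x * a⁻¹ = x ∨ a * x * a⁻¹ = x * c}
  one_mem' := ⟨one_mem _, by group, fun x _ => Or.inl (by group)⟩
  mul_mem' := by
    rintro a b ⟨ha, ha1, ha2⟩ ⟨hb, hb1, hb2⟩
    refine ⟨mul_mem ha hb, ?_, fun x hx => ?_⟩
    · have e : a * b * c * (a * b)⁻¹ = a * (b * c * b⁻¹) * a⁻¹ := by group
      rw [e, hb1, ha1]
    · have e : a * b * x * (a * b)⁻¹ = a * (b * x * b⁻¹) * a⁻¹ := by group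
      have e2 : a * (x * c) * a⁻¹ = (a * x * a⁻¹) * (a * c * a⁻¹) := by group
      rw [e]
      rcases hb2 x hx with h1 | h1 <;> rcases ha2 x hx with h2 | h2
      · left; rw [h1, h2]
      · right; rw [h1, h2]
      · right; rw [h1, e2, h2, ha1]
      · left; rw [h1, e2, h2, ha1, mul_assoc, hcc, mul_one]
  inv_mem' := by
    rintro a ⟨ha, ha1, ha2⟩
    refine ⟨inv_mem ha, ?_, fun x hx => ?_⟩
    · have e : a⁻¹ * (a * c * a⁻¹) * a⁻¹⁻¹ = c := by group
      rwa [ha1] at e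
    · have hy := hN a⁻¹ (inv_mem ha) x hx
      have e : a * (a⁻¹ * x * a⁻¹⁻¹) * a⁻¹ = x := by group
      rcases ha2 _ hy with h1 | h1
      · left; rw [e] at h1; exact h1.symm
      · right
        rw [e] at h1
        have e2 : x * c = (a⁻¹ * x * a⁻¹⁻¹) * (c * c) := (congrArg (· * c) h1).trans (mul_assoc _ _ _)
        rw [e2, hcc, mul_one]

/-- **(2) of THEOREM QW.** -/
theorem mem_centralizer [Finite G] {M Z : Subgroup G} (hN : ∀ m ∈ M, ∀ x ∈ Z, m * x * m⁻¹ ∈ Z)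
    (hcomm : ∀ x ∈ Z, ∀ y ∈ Z, x * y = y * x) (hsq : ∀ x ∈ Z, x * x = 1)
    (hred : ∀ R : Subgroup G, R ≤ M → M ≤ normalizer (R : Set G) →
      (∀ r ∈ R, ∃ n : ℕ, r ^ 2 ^ n ∈ centralizer (Z : Set G)) → R ≤ centralizer (Z : Set G))
    {w c z : G} (hw : w ∈ M) (hc : c ∈ Z) (hz : z ∈ Z)
    (htr : ∀ x ∈ Z, w * x * w⁻¹ = x ∨ w * x * w⁻¹ = x * c)
    (hA : ∃ A : Subgroup G, IsPGroup 2 A ∧ w ∈ A ∧ ∀ g ∈ M, g * z = z * g → ∀ a ∈ A, g * a * g⁻¹ ∈ A)
    (hB : ∃ A : Subgroup G, IsPGroup 2 A ∧ w ∈ A ∧ ∀ g ∈ M, g * (z * c) = z * c * g → ∀ a ∈ A, g * a * g⁻¹ ∈ A) :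
    w ∈ centralizer (Z : Set G) := by
  classical
  have hcc := hsq c hc
  have hwc : w * c * w⁻¹ = c := by
    rcases htr c hc with h1 | h1
    · exact h1
    · rw [hcc] at h1
      have h2 : c = 1 := by
        have e : w⁻¹ * (w * c * w⁻¹) * w = c := by group
        rw [h1] at e
        rw [← e]; group
      rw [h2]; group
  have hnK : M ≤ normalizer (centralizer (Z : Set G) : Set G) := by
    have key : ∀ g ∈ M, ∀ x ∈ centralizer (Z : Set G), g * x * g⁻¹ ∈ centralizer (Z : Set G) := by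
      intro g hg x hx
      rw [mem_centralizer_iff] at hx ⊢
      intro y hy
      have h1 := hx _ (hN g⁻¹ (inv_mem hg) y hy)
      have e1 : y * (g * x * g⁻¹) = g * ((g⁻¹ * y * g⁻¹⁻¹) * x) * g⁻¹ := by group
      rw [e1, h1]; group
    intro g hg
    rw [mem_normalizer_iff]
    intro x
    refine ⟨key g hg x, fun h1 => ?_⟩
    have h2 := key g⁻¹ (inv_mem hg) _ h1
    have e : g⁻¹ * (g * x * g⁻¹) * g⁻¹⁻¹ = x := by group
    rwa [e] at h2
  set K : Subgroup M := (centralizer (Z : Set G)).subgroupOf M with hK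
  have : K.Normal := ⟨fun x hx g => (mem_normalizer_iff.1 (hnK g.2) _).1 hx⟩
  have hwK : (⟨w, hw⟩ : M) ∈ K := by
    refine mem_of_pairs (K := K) ?_ ?_ ?_
    · intro R hR hR2
      have h1 := hred (R.map M.subtype) (map_subtype_le _) ?_ ?_
      · intro r hr
        exact h1 (mem_map_of_mem _ hr)
      · intro g hg
        have key : ∀ g ∈ M, ∀ x ∈ R.map M.subtype, g * x * g⁻¹ ∈ R.map M.subtype := by
          rintro g hg _ ⟨y, hy, rfl⟩
          exact ⟨⟨g, hg⟩ * y * ⟨g, hg⟩⁻¹, hR.conj_mem y hy _, rfl⟩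
        rw [mem_normalizer_iff]
        intro y
        refine ⟨key g hg y, fun hy => ?_⟩
        have := key g⁻¹ (inv_mem hg) _ hy
        have e : g⁻¹ * (g * y * g⁻¹) * g⁻¹⁻¹ = y := by group
        rwa [e] at this
      · rintro _ ⟨r, hr, rfl⟩
        obtain ⟨n, hn⟩ := hR2 r hr
        refine ⟨n, ?_⟩
        have h5 : ((r ^ 2 ^ n : M) : G) ∈ centralizer (Z : Set G) := hn
        rwa [SubgroupClass.coe_pow] at h5
    · change w * w ∈ centralizer (Z : Set G)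
      rw [mem_centralizer_iff]
      intro x hx
      have e1 : w * w * x * (w * w)⁻¹ = w * (w * x * w⁻¹) * w⁻¹ := by group
      have e2 : w * w * x * (w * w)⁻¹ = x := by
        rw [e1]
        rcases htr x hx with h1 | h1
        · rw [h1, h1]
        · have e3 : w * (x * c) * w⁻¹ = (w * x * w⁻¹) * (w * c * w⁻¹) := by group
          rw [h1, e3, h1, hwc, mul_assoc, hcc, mul_one]
      exact (mul_inv_eq_iff_eq_mul.1 e2).symm
    · rintro ⟨m, hm⟩
      -- `w' = m w m⁻¹` centralises `c`, `z` or `z c`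
      set w' : G := m * w * m⁻¹ with hw'
      have hw'M : w' ∈ M := mul_mem (mul_mem hm hw) (inv_mem hm)
      have htr' : ∀ x ∈ Z, w' * x * w'⁻¹ = x ∨ w' * x * w'⁻¹ = x * (m * c * m⁻¹) := by
        intro x hx
        have hx' := hN m⁻¹ (inv_mem hm) x hx
        have e1 : w' * x * w'⁻¹ = m * (w * (m⁻¹ * x * m⁻¹⁻¹) * w⁻¹) * m⁻¹ := by rw [hw']; group
        rcases htr _ hx' with h1 | h1
        · left; rw [e1, h1]; group
        · right; rw [e1, h1]; group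
      have hc'c' : (m * c * m⁻¹) * (m * c * m⁻¹) = 1 := hsq _ (hN m hm c hc)
      have hcases : w' * c * w'⁻¹ = c ∨ w' * z * w'⁻¹ = z ∨ w' * (z * c) * w'⁻¹ = z * c := by
        rcases htr' c hc with h1 | h1
        · exact Or.inl h1
        rcases htr' z hz with h2 | h2
        · exact Or.inr (Or.inl h2)
        right; right
        have e : w' * (z * c) * w'⁻¹ = (w' * z * w'⁻¹) * (w' * c * w'⁻¹) := by group
        have e2 : c * (m * c * m⁻¹) = (m * c * m⁻¹) * c := hcomm _ hc _ (hN m hm c hc)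
        rw [e, h1, h2, e2, mul_assoc, ← mul_assoc (m * c * m⁻¹) (m * c * m⁻¹), hc'c', one_mul]
      have hgen : ∀ f : G, w' * f * w'⁻¹ = f →
          (∃ A : Subgroup G, IsPGroup 2 A ∧ w ∈ A ∧ ∀ g ∈ M, g * f = f * g → ∀ a ∈ A, g * a * g⁻¹ ∈ A) →
          ∃ A : Subgroup M, (∀ a ∈ A, ∃ n : ℕ, a ^ 2 ^ n ∈ K) ∧ (⟨w, hw⟩ : M) ∈ A ∧
            (∀ a ∈ A, ((⟨m, hm⟩ : M) * ⟨w, hw⟩ * (⟨m, hm⟩ : M)⁻¹) * a *
              ((⟨m, hm⟩ : M) * ⟨w, hw⟩ * (⟨m, hm⟩ : M)⁻¹)⁻¹ ∈ A) := by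
        rintro f hf ⟨A, hA2, hwA, hAn⟩
        refine ⟨A.subgroupOf M, ?_, hwA, ?_⟩
        · intro a ha
          obtain ⟨n, hn⟩ := hA2 ⟨a, ha⟩
          refine ⟨n, ?_⟩
          have h5 : (a : G) ^ 2 ^ n = 1 := by simpa using congrArg Subtype.val hn
          change ((a ^ 2 ^ n : M) : G) ∈ centralizer (Z : Set G)
          rw [SubgroupClass.coe_pow, h5]
          exact one_mem _
        · intro a ha
          exact hAn w' hw'M (mul_inv_eq_iff_eq_mul.1 hf) a ha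
      rcases hcases with h1 | h1 | h1
      · refine ⟨(tv M Z c hN hcc).subgroupOf M, ?_, ⟨hw, hwc, htr⟩, ?_⟩
        · rintro a ⟨ha, ha1, ha2⟩
          refine ⟨1, ?_⟩
          change ((a ^ 2 ^ 1 : M) : G) ∈ centralizer (Z : Set G)
          rw [SubgroupClass.coe_pow, mem_centralizer_iff]
          intro x hx
          have e0 : (a : G) ^ 2 ^ 1 = (a : G) * a := by rw [pow_one, pow_two]
          change (a : G) * c * (a : G)⁻¹ = c at ha1
          rw [e0]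
          have e1 : (a : G) * a * x * ((a : G) * a)⁻¹ = a * (a * x * (a : G)⁻¹) * (a : G)⁻¹ := by group
          have e2 : (a : G) * a * x * ((a : G) * a)⁻¹ = x := by
            rw [e1]
            rcases ha2 x hx with h1 | h1
            · change (a : G) * x * (a : G)⁻¹ = x at h1
              rw [h1, h1]
            · change (a : G) * x * (a : G)⁻¹ = x * c at h1
              have e3 : (a : G) * (x * c) * (a : G)⁻¹ = (a * x * (a : G)⁻¹) * (a * c * (a : G)⁻¹) := by group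
              rw [h1, e3, h1, ha1, mul_assoc, hcc, mul_one]
          exact (mul_inv_eq_iff_eq_mul.1 e2).symm
        · rintro a ⟨ha, ha1, ha2⟩
          change (a : G) * c * (a : G)⁻¹ = c at ha1
          change w' * (a : G) * w'⁻¹ ∈ tv M Z c hN hcc
          have h1' : w'⁻¹ * c * w' = c := by
            have e : w'⁻¹ * (w' * c * w'⁻¹) * w' = c := by group
            rwa [h1] at e
          refine ⟨mul_mem (mul_mem hw'M a.2) (inv_mem hw'M), ?_, fun x hx => ?_⟩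
          · have e : w' * a * w'⁻¹ * c * (w' * a * w'⁻¹)⁻¹ = w' * (a * (w'⁻¹ * c * w') * (a : G)⁻¹) * w'⁻¹ := by
              group
            rw [e, h1', ha1, h1]
          · have hx' : w'⁻¹ * x * w' ∈ Z := by
              have := hN w'⁻¹ (inv_mem hw'M) x hx
              rwa [inv_inv] at this
            have e : w' * a * w'⁻¹ * x * (w' * a * w'⁻¹)⁻¹ = w' * (a * (w'⁻¹ * x * w') * (a : G)⁻¹) * w'⁻¹ := by
              group
            rw [e]
            rcases ha2 _ hx' with h3 | h3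
            · change (a : G) * (w'⁻¹ * x * w') * (a : G)⁻¹ = w'⁻¹ * x * w' at h3
              left; rw [h3]; group
            · change (a : G) * (w'⁻¹ * x * w') * (a : G)⁻¹ = w'⁻¹ * x * w' * c at h3
              right; rw [h3]
              have e5 : w' * (w'⁻¹ * x * w' * c) * w'⁻¹ = x * (w' * c * w'⁻¹) := by group
              rw [e5, h1]
      · exact hgen z h1 hA
      · exact hgen (z * c) h1 hB
  exact hwK

end Cfsg.Agent.Omega.NO3S.CaseLW.QWt

end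

section


/-!
# THEOREM LAMBDA: the normal closure `AH = ⟨A^g : A ∈ AA, g ∈ H⟩`

* `AH`, `AH_le`, `AH_norm` : normal in `H`; `AH_sup` : `AH ⊔ T = H` if some member of `AA` is not in `O₂(H)`;
* `Y0_sub` : `AH` centralises `Y0 / V` (`V = zl T H`);
* **`AH_cent`** : `W j ≰ Y0`, the members of `AA` centralise `Z j` ⟹ `AH` centralises `Z j` (blocks of any order);
* `AH_cent_one` : the same for `|Z j| = 2` (`LamFix.mem_cent`).

Author: helper182.
-/

set_option autoImplicit false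
set_option linter.unusedSectionVars false

namespace Cfsg.Agent.Omega.NO3S.CaseLW.LamFix

open Subgroup Cfsg Cfsg.Agent.ZN Cfsg.Agent.ZN.ChoiceBase Cfsg.Agent.ZN.ChoiceSit
open Cfsg.Agent.PLocal.ThompsonJ
open Cfsg.Agent.Omega.OM.GLev (GE Y0 mem_Y0)

universe u

variable {G : Type u} [Group G]

/-- `⟨A^g : A ∈ AA, g ∈ H⟩` -/
def AH (H : Subgroup G) (AA : Set (Subgroup G)) : Subgroup G :=
  sSup {B | ∃ A ∈ AA, ∃ g ∈ H, B = cj g A}

variable {T H X : Subgroup G} {AA : Set (Subgroup G)}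

theorem le_AH {A : Subgroup G} (hA : A ∈ AA) : A ≤ AH H AA :=
  le_sSup ⟨A, hA, 1, one_mem H, (cj_one A).symm⟩

/-- induction over the normal closure -/
theorem AH_le_of {K : Subgroup G} (h : ∀ A ∈ AA, ∀ g ∈ H, cj g A ≤ K) : AH H AA ≤ K :=
  sSup_le (by rintro _ ⟨A, hA, g, hg, rfl⟩; exact h A hA g hg)

theorem AH_conj {g x : G} (hg : g ∈ H) (hx : x ∈ AH H AA) : g * x * g⁻¹ ∈ AH H AA := by
  have h1 : AH H AA ≤ (AH H AA).comap (MulAut.conj g).toMonoidHom := by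
    refine AH_le_of fun A hA y hy => ?_
    rintro _ ⟨a, ha, rfl⟩
    have h2 : cj (g * y) A ≤ AH H AA := le_sSup ⟨A, hA, g * y, mul_mem hg hy, rfl⟩
    refine mem_comap.2 (h2 ⟨a, ha, ?_⟩)
    simp [mul_assoc]
  exact mem_comap.1 (h1 hx)

variable [Finite G] (h : GE T H X AA)
include h

theorem AH_le : AH H AA ≤ H := AH_le_of fun A hA g hg => by
  rintro _ ⟨a, ha, rfl⟩
  exact mul_mem (mul_mem hg (h.TH (h.fam.le A hA ha))) (inv_mem hg)

theorem AH_norm : H ≤ normalizer (AH H AA : Set G) := fun g hg => mem_normalizer_of_cj_le (by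
  rintro _ ⟨x, hx, rfl⟩
  exact AH_conj hg hx)

/-- `⟨A^H⟩ T = H` if some member of `AA` is not in `O₂(H)`. -/
theorem AH_sup (hout : ∃ A ∈ AA, ¬ A ≤ o2 H) : AH H AA ⊔ T = H := by
  by_contra hne
  obtain ⟨A, hA, hAQ⟩ := hout
  exact hAQ ((le_inf (h.fam.le A hA) (le_AH hA)).trans
    (h.hm.inf_le (AH_le h) (fun g hg n hn => AH_conj hg hn) hne))

/-- `[Y0, ⟨A^H⟩] ≤ V`. -/
theorem Y0_sub {y x : G} (hy : y ∈ Y0 H X AA) (hx : x ∈ AH H AA) : x * y * x⁻¹ * y⁻¹ ∈ zl T H := by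
  have hV : ∀ g ∈ H, ∀ v ∈ zl T H, g * v * g⁻¹ ∈ zl T H := fun g hg v hv =>
    (mem_normalizer_iff.1 (le_normalizer_zl T H hg) v).1 hv
  have hgen : ∀ A ∈ AA, ∀ g ∈ H, ∀ a ∈ A, ∀ y ∈ Y0 H X AA,
      (g * a * g⁻¹) * y * (g * a * g⁻¹)⁻¹ * y⁻¹ ∈ zl T H := by
    intro A hA g hg a ha y hy
    have h1 : g⁻¹ * y * g ∈ Y0 H X AA := by
      have := (mem_normalizer_iff.1 (h.norm_Y0 (inv_mem hg)) y).1 hy
      simpa using this
    obtain ⟨v, hv, h2⟩ := h.Y0_comm hA h1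
    have h3 : a * (g⁻¹ * y * g) * a⁻¹ * (g⁻¹ * y * g)⁻¹ ∈ zl T H := by
      rw [h2 a ha]
      exact mul_mem (hV a (h.TH (h.fam.le A hA ha)) v hv) (inv_mem hv)
    have h4 := hV g hg _ h3
    have e : g * (a * (g⁻¹ * y * g) * a⁻¹ * (g⁻¹ * y * g)⁻¹) * g⁻¹ =
        (g * a * g⁻¹) * y * (g * a * g⁻¹)⁻¹ * y⁻¹ := by group
    rwa [e] at h4
  -- the elements of `H` acting trivially on `Y0 / V` form a subgroup
  let K : Subgroup G :=
    { carrier := {x | x ∈ H ∧ ∀ y ∈ Y0 H X AA, x * y * x⁻¹ * y⁻¹ ∈ zl T H}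
      one_mem' := ⟨one_mem H, fun y _ => by simpa using one_mem (zl T H)⟩
      mul_mem' := by
        rintro s t ⟨hs, hs'⟩ ⟨ht, ht'⟩
        refine ⟨mul_mem hs ht, fun y hy => ?_⟩
        have e : s * t * y * (s * t)⁻¹ * y⁻¹ = s * (t * y * t⁻¹ * y⁻¹) * s⁻¹ * (s * y * s⁻¹ * y⁻¹) := by group
        rw [e]
        exact mul_mem (hV s hs _ (ht' y hy)) (hs' y hy)
      inv_mem' := by
        rintro s ⟨hs, hs'⟩
        refine ⟨inv_mem hs, fun y hy => ?_⟩
        have e : s⁻¹ * y * s⁻¹⁻¹ * y⁻¹ = s⁻¹ * (s * y * s⁻¹ * y⁻¹)⁻¹ * s⁻¹⁻¹ := by group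
        rw [e]
        exact hV _ (inv_mem hs) _ (inv_mem (hs' y hy)) }
  have hK : AH H AA ≤ K := AH_le_of fun A hA g hg => by
    rintro _ ⟨a, ha, rfl⟩
    exact ⟨mul_mem (mul_mem hg (h.TH (h.fam.le A hA ha))) (inv_mem hg), hgen A hA g hg a ha⟩
  exact (hK hx).2 y hy

/-- **The centre of a block which is not in `Y0` is centralised by `⟨A^H⟩`** (any order of `Z j`). -/
theorem AH_cent {ι : Type*} {W Z : ι → Subgroup G} (c : CenQ H X AA (RelQ H W Z)) {j : ι}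
    (hj : ¬ W j ≤ Y0 H X AA) (hc : ∀ A ∈ AA, ∀ a ∈ A, ∀ z ∈ Z j, a * z = z * a)
    (hout : ∃ A ∈ AA, ¬ A ≤ o2 H) : ∀ x ∈ AH H AA, ∀ z ∈ Z j, x * z = z * x := by
  have hn : AH H AA ≤ normalizer (Z j : Set G) := le_norm h c hj
  have h1 : AH H AA ≤ centralizer (Z j : Set G) := by
    refine AH_le_of fun A hA g hg => ?_
    rintro _ ⟨a, ha, rfl⟩
    -- `g = n t`
    have hgm : g ∈ ((AH H AA ⊔ T : Subgroup G) : Set G) := by
      rw [AH_sup h hout]; exact hg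
    rw [coe_mul_of_right_le_normalizer_left (AH H AA) T (h.TH.trans (AH_norm h))] at hgm
    obtain ⟨n, hn', t, ht, rfl⟩ := Set.mem_mul.1 hgm
    have hA' : cj t A ∈ AA := h.fam.conj A hA t (h.norm (h.TH ht)) (by
      rintro _ ⟨b, hb, rfl⟩
      exact mul_mem (mul_mem ht (h.fam.le A hA hb)) (inv_mem ht))
    refine mem_centralizer_iff.2 fun z hz => ?_
    have hz' : n⁻¹ * z * n ∈ Z j := (mem_normalizer_iff''.1 (hn hn') z).1 hz
    have h2 := hc _ hA' (t * a * t⁻¹) ⟨a, ha, rfl⟩ _ hz'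
    have e : (MulAut.conj (n * t)).toMonoidHom a = n * (t * a * t⁻¹) * n⁻¹ := by
      simp [mul_assoc]
    rw [e]
    generalize t * a * t⁻¹ = b at h2
    calc z * (n * b * n⁻¹) = n * ((n⁻¹ * z * n) * b) * n⁻¹ := by group
      _ = n * (b * (n⁻¹ * z * n)) * n⁻¹ := by rw [h2]
      _ = _ := by group
  exact fun x hx z hz => (mem_centralizer_iff.1 (h1 hx) z hz).symm

/-- `|Z j| = 2`. -/
theorem AH_cent_one {ι : Type*} {W : ι → Subgroup G} {z : ι → G} (hWX : ∀ j, W j ≤ X)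
    (com : ∀ A ∈ AA, A ≤ o2 H → ∀ r ∈ A, ∀ j, ∀ w ∈ W j,
      r * w * r⁻¹ * w⁻¹ = 1 ∨ r * w * r⁻¹ * w⁻¹ = z j) {j : ι} (hj : ¬ W j ≤ Y0 H X AA) {x : G}
    (hx : x ∈ AH H AA) : x * z j = z j * x :=
  mem_centralizer_iff.1 (mem_cent h hWX com hj) x hx

end Cfsg.Agent.Omega.NO3S.CaseLW.LamFix

end

section


/-!
# THEOREM QW (#24897, helper866), step (6), every type of `P` (natural, any `q`; symmetric)

* `comm_of_gamma` : pure: `[u, Q] ≤ R ≤ L`, `[u, Γ] ≤ L`, `R` has no `Γ`-invariant subgroup `≠ 1` ⟹ `[u, Q] = 1`;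
* `Fx L u` : the elements of `N_G(L)` which fix the coset `u L`;
* `cent_best`, `mem_ZJ_of` : the vectors of `V_P` fixed by the `S`-conjugates of one offender lie in `Z_J`;
* `bot_of_inv` : no subgroup `≠ 1` of `Z_J` is invariant under `⟨A^P⟩`, `A ≤ S` an offender on `V_P`;
* **`six`** : the end of THEOREM QW, over `CaseL`.
-/

set_option autoImplicit false
set_option linter.unusedSectionVars false

namespace Cfsg.Agent.Omega.NO3S.CaseLW.QWe

open Subgroup Cfsg Cfsg.Agent.ZN Cfsg.Agent.ZN.ChoiceBase Cfsg.Agent.Omega.MinPar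
open Cfsg.Agent.ZN.ChoiceSit (Syl)
open Cfsg.Agent.Omega.FFThm (OffM ElemM)
open Cfsg.Agent.Omega.NO1.BestOff (Best)
open Cfsg.Agent.Omega.NOThreeL.NF (MinOffM RP pts)
open Cfsg.Agent.Omega.NOThreeL.FFB (RP2)
open Cfsg.Agent.Omega.NO3b.EZero (cl cl_le)
open Cfsg.Agent.MinSimple.VModule (oddGen)
open Cfsg.Agent.Omega.NO3S.Level
open Cfsg.Agent.Omega.NO3S.RedC
open Cfsg.Agent.Omega.NO3S.WY
open scoped commutatorElement

universe u

section pure

variable {G : Type u} [Group G]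

theorem normalizer_of_forall {Γ X : Subgroup G} (h : ∀ g ∈ Γ, ∀ x ∈ X, g * x * g⁻¹ ∈ X) : Γ ≤ normalizer (X : Set G) := by
  intro g hg
  rw [mem_normalizer_iff]
  refine fun x => ⟨fun hx => h g hg x hx, fun hx => ?_⟩
  have h1 := h g⁻¹ (inv_mem hg) _ hx
  have e : g⁻¹ * (g * x * g⁻¹) * g⁻¹⁻¹ = x := by group
  rwa [e] at h1

/-- `[u, Q] ≤ R ≤ L`, `[u, Γ] ≤ L`, and `R` has no `Γ`-invariant subgroup `≠ 1` : `u` centralises `Q`. -/
theorem comm_of_gamma {Q L R Γ : Subgroup G} {u : G} (RL : R ≤ L) (Lc : ∀ x ∈ L, ∀ y ∈ L, x * y = y * x)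
    (QL : ∀ q ∈ Q, ∀ l ∈ L, q * l = l * q) (hQ : ∀ q ∈ Q, u⁻¹ * (q * u * q⁻¹) ∈ R)
    (ΓQ : Γ ≤ normalizer (Q : Set G)) (hΓ : ∀ g ∈ Γ, u⁻¹ * (g * u * g⁻¹) ∈ L)
    (inv : ∀ X ≤ R, Γ ≤ normalizer (X : Set G) → X = ⊥) : ∀ q ∈ Q, q * u = u * q := by
  set X : Subgroup G := closure {x | ∃ q ∈ Q, x = u⁻¹ * (q * u * q⁻¹)} with hX
  have h1 : X ≤ R := by
    rw [hX, closure_le]
    rintro x ⟨q, hq, rfl⟩
    exact hQ q hq
  have h2 : Γ ≤ normalizer (X : Set G) := by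
    refine normalizer_of_forall fun g hg x hx => ?_
    rw [hX] at hx
    refine closure_induction (p := fun x _ => g * x * g⁻¹ ∈ X) ?_ ?_ ?_ ?_ hx
    · rintro x ⟨q, hq, rfl⟩
      have hq' : g * q * g⁻¹ ∈ Q := (mem_normalizer_iff.1 (ΓQ hg) q).1 hq
      have hl := hΓ g hg
      set l := u⁻¹ * (g * u * g⁻¹) with hl'
      have e1 : g * u * g⁻¹ = u * l := by rw [hl']; group
      have e2 : l * (g * q * g⁻¹)⁻¹ = (g * q * g⁻¹)⁻¹ * l := (QL _ (inv_mem hq') l hl).symm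
      have h3 : u⁻¹ * ((g * q * g⁻¹) * u * (g * q * g⁻¹)⁻¹) ∈ R := hQ _ hq'
      have e3 : g * (u⁻¹ * (q * u * q⁻¹)) * g⁻¹ = u⁻¹ * ((g * q * g⁻¹) * u * (g * q * g⁻¹)⁻¹) := by
        calc g * (u⁻¹ * (q * u * q⁻¹)) * g⁻¹
            = (g * u * g⁻¹)⁻¹ * ((g * q * g⁻¹) * (g * u * g⁻¹) * (g * q * g⁻¹)⁻¹) := by group
          _ = (u * l)⁻¹ * ((g * q * g⁻¹) * (u * l) * (g * q * g⁻¹)⁻¹) := by rw [e1]
          _ = l⁻¹ * (u⁻¹ * ((g * q * g⁻¹) * u)) * (l * (g * q * g⁻¹)⁻¹) := by group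
          _ = l⁻¹ * (u⁻¹ * ((g * q * g⁻¹) * u)) * ((g * q * g⁻¹)⁻¹ * l) := by rw [e2]
          _ = l⁻¹ * ((u⁻¹ * ((g * q * g⁻¹) * u * (g * q * g⁻¹)⁻¹)) * l) := by group
          _ = l⁻¹ * (l * (u⁻¹ * ((g * q * g⁻¹) * u * (g * q * g⁻¹)⁻¹))) := by rw [Lc _ (RL h3) l hl]
          _ = _ := by group
      rw [e3]
      exact subset_closure ⟨_, hq', rfl⟩
    · rw [mul_one, mul_inv_cancel]; exact one_mem _
    · intro x y _ _ hx hy
      have e : g * (x * y) * g⁻¹ = (g * x * g⁻¹) * (g * y * g⁻¹) := by group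
      rw [e]; exact mul_mem hx hy
    · intro x _ hx
      have e : g * x⁻¹ * g⁻¹ = (g * x * g⁻¹)⁻¹ := by group
      rw [e]; exact inv_mem hx
  have h3 := inv X h1 h2
  intro q hq
  have h4 : u⁻¹ * (q * u * q⁻¹) ∈ X := subset_closure ⟨q, hq, rfl⟩
  rw [h3, mem_bot] at h4
  have h5 : q * u * q⁻¹ = u := (inv_mul_eq_one.1 h4).symm
  exact mul_inv_eq_iff_eq_mul.1 h5

/-- the elements of `N_G(L)` which fix the coset `u L` -/
def Fx (L : Subgroup G) (u : G) : Subgroup G where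
  carrier := {g | g ∈ normalizer (L : Set G) ∧ u⁻¹ * (g * u * g⁻¹) ∈ L}
  mul_mem' := by
    rintro g h ⟨hg, hg'⟩ ⟨hh, hh'⟩
    refine ⟨mul_mem hg hh, ?_⟩
    have e : u⁻¹ * (g * h * u * (g * h)⁻¹) = u⁻¹ * (g * u * g⁻¹) * (g * (u⁻¹ * (h * u * h⁻¹)) * g⁻¹) := by group
    rw [e]
    exact mul_mem hg' ((mem_normalizer_iff.1 hg _).1 hh')
  one_mem' := ⟨one_mem _, by
    have e : u⁻¹ * (1 * u * 1⁻¹) = 1 := by group
    rw [e]; exact one_mem _⟩
  inv_mem' := by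
    rintro g ⟨hg, hg'⟩
    refine ⟨inv_mem hg, ?_⟩
    have h1 := (mem_normalizer_iff.1 (inv_mem hg) _).1 (inv_mem hg')
    have e : g⁻¹ * (u⁻¹ * (g * u * g⁻¹))⁻¹ * g⁻¹⁻¹ = u⁻¹ * (g⁻¹ * u * g⁻¹⁻¹) := by group
    rwa [e] at h1

theorem mem_Fx {L : Subgroup G} {u g : G} :
    g ∈ Fx L u ↔ g ∈ normalizer (L : Set G) ∧ u⁻¹ * (g * u * g⁻¹) ∈ L := Iff.rfl

end pure

section rp

variable {G : Type u} [Group G] [Finite G] {S : Sylow 2 G} {P : Subgroup G}

/-- `RP2` in the case (L) -/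
theorem rp2 (h : CaseL S P) : RP2 (S : Subgroup G) P := by
  have hy := h.hypN.toHyp
  have hP := h.pss.par
  obtain ⟨A, hAS, hA⟩ := h.ff P h.pss
  obtain ⟨_, hcc⟩ := FF.Glob.ffthmM G (S : Subgroup G) P (FFThm.syl_of_sylow S hP.le) hP.toIsMinPar
    (hP.isLoc.char2 S h.ctx.char2) ⟨A, hAS.trans hP.le, hA⟩
  rcases hcc with ⟨K, _, _, _, k, _, ⟨M⟩⟩ | ⟨k, m, _, hm, ⟨M⟩⟩
  · exact NOThreeL.FFB.rp2_of_natKM hP.le hy.cv M
  · exact NOThreeL.FFB.rp2_of_symKM h.ctx.char2 hP.isLoc hy.cv (by omega) M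

/-- `S` normalises `Z_J`. -/
theorem S_norm_ZJ (h : CaseL S P) : (S : Subgroup G) ≤ normalizer (ZJ (S : Subgroup G) P : Set G) := by
  refine le_trans ?_ (normalizer_le_zc _)
  exact le_normalizer.trans (h.levQ.next.norm _ (nxt_le _ _) le_rfl)

/-- A vector of `V_P` fixed by the `S`-conjugates of one minimal offender is fixed by all offenders in `S`. -/
theorem cent_best (hr : RP (S : Subgroup G) P) (hr2 : RP2 (S : Subgroup G) P)
    (SL : (S : Subgroup G) ≤ normalizer (zl (S : Subgroup G) P : Set G)) {A : Subgroup G}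
    (hA : MinOffM (zl (S : Subgroup G) P) (S : Subgroup G) A) {x : G} (hx : x ∈ zl (S : Subgroup G) P)
    (hc : ∀ s ∈ (S : Subgroup G), x ∈ centralizer ((cj s A : Subgroup G) : Set G)) {B : Subgroup G}
    (hB : B ≤ (S : Subgroup G)) (hBO : Best (zl (S : Subgroup G) P) B) : x ∈ centralizer (B : Set G) := by
  have hxz : ∀ y ∈ centralizer (zl (S : Subgroup G) P : Set G), y * x = x * y := fun y hy =>
    (mem_centralizer_iff.1 hy x hx).symm
  by_cases hne : B ≤ centralizer (zl (S : Subgroup G) P : Set G)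
  · exact mem_centralizer_iff.2 fun b hb => hxz b (hne hb)
  have hoff : OffM (zl (S : Subgroup G) P) B := hBO.offM le_rfl hne
  have h1 := hr2.gen B hB hoff
  have h2 : sSup {B' : Subgroup G | B' ≤ B ∧ MinOffM (zl (S : Subgroup G) P) (S : Subgroup G) B'} ⊔
      centralizer (zl (S : Subgroup G) P : Set G) ≤ centralizer ({x} : Set G) := by
    refine sup_le (sSup_le ?_) ?_
    · rintro B' ⟨_, hB'⟩ b hb
      obtain ⟨s, hs, e⟩ := hr.conj A B' hA hB'
      have hsA : MinOffM (zl (S : Subgroup G) P) (S : Subgroup G) (cj s A) := by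
        refine CaseLW.MinOffM.cj_of hA (SL hs) ?_
        have h3 := cj_mono s hA.le
        rwa [cj_eq_of_mem_normalizer (le_normalizer hs)] at h3
      have e2 : ⁅zl (S : Subgroup G) P, cj s A⁆ = ⁅zl (S : Subgroup G) P, B'⁆ := by
        rw [e, NOThreeL.NF.NatR.comm_cj _ (SL hs)]
      obtain ⟨a, ha, hab⟩ := hr2.eq _ B' hsA hB' e2 b hb
      have h4 : a * x = x * a := mem_centralizer_iff.1 (hc s hs) a ha
      have h5 : a⁻¹ * b * x = x * (a⁻¹ * b) := hxz _ hab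
      rw [mem_centralizer_singleton_iff]
      calc b * x = a * (a⁻¹ * b * x) := by group
        _ = a * (x * (a⁻¹ * b)) := by rw [h5]
        _ = a * x * (a⁻¹ * b) := by group
        _ = x * a * (a⁻¹ * b) := by rw [h4]
        _ = x * b := by group
    · intro y hy
      rw [mem_centralizer_singleton_iff]
      exact hxz y hy
  exact mem_centralizer_iff.2 fun b hb => mem_centralizer_singleton_iff.1 (h2 (h1 hb))

/-- The vectors of `V_P` fixed by the `S`-conjugates of one minimal offender lie in `Z_J`. -/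
theorem mem_ZJ_of (h : CaseL S P) (hr : RP (S : Subgroup G) P) (hr2 : RP2 (S : Subgroup G) P)
    (SL : (S : Subgroup G) ≤ normalizer (zl (S : Subgroup G) P : Set G)) {A : Subgroup G}
    (hA : MinOffM (zl (S : Subgroup G) P) (S : Subgroup G) A) {x : G} (hx : x ∈ zl (S : Subgroup G) P)
    (hc : ∀ s ∈ (S : Subgroup G), x ∈ centralizer ((cj s A : Subgroup G) : Set G)) : x ∈ ZJ (S : Subgroup G) P := by
  have hx' : x ∈ zc (o2 P) := by rw [h.zc_eq]; exact hx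
  obtain ⟨hxQ, hx2, _⟩ := ChoiceBase.mem_zc.1 hx'
  have hn : nxt (S : Subgroup G) (o2 P) ≤ centralizer ({x} : Set G) := by
    refine sup_le ?_ (sSup_le ?_)
    · refine inf_le_right.trans (centralizer_le ?_)
      rw [Set.singleton_subset_iff]; exact hx'
    · rintro B ⟨hBS, hB⟩ b hb
      rw [h.zc_eq] at hB
      rw [mem_centralizer_singleton_iff]
      exact mem_centralizer_iff.1 (cent_best hr hr2 SL hA hx hc hBS hB) b hb
  exact ChoiceBase.mem_zc.2 ⟨le_nxt h.levQ.le hxQ, hx2, fun y hy => mem_centralizer_singleton_iff.1 (hn hy)⟩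

/-- **No subgroup `≠ 1` of `Z_J` is invariant under all `A^p`, `p ∈ P`.** -/
theorem bot_of_inv (h : CaseL S P) (hr : RP (S : Subgroup G) P) {A : Subgroup G}
    (hA : MinOffM (zl (S : Subgroup G) P) (S : Subgroup G) A)
    (hAZ : ∀ s ∈ (S : Subgroup G), cj s A ≤ centralizer (ZJ (S : Subgroup G) P : Set G)) {X : Subgroup G}
    (hX : X ≤ ZJ (S : Subgroup G) P) (hn : ∀ p ∈ P, cj p A ≤ normalizer (X : Set G)) : X = ⊥ := by
  have hP := h.pss.par
  have hSP : (S : Subgroup G) ≤ P := hP.le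
  have hXL : X ≤ zl (S : Subgroup G) P := hX.trans (ZJ_le h)
  -- `N = ⟨A^P⟩`
  have hNP : cl A P ≤ P := cl_le fun p hp => by
    have h1 := cj_mono p (hA.le.trans hSP)
    rwa [cj_eq_of_mem_normalizer (le_normalizer hp)] at h1
  have hPN : P ≤ normalizer (cl A P : Set G) := fun p hp => mem_normalizer_iff_cj.2 (NO3b.EZero.cj_cl hp)
  have hNX : cl A P ≤ normalizer (X : Set G) := cl_le hn
  have hsyl : Syl (S : Subgroup G) P := FFThm.syl_of_sylow S hP.le
  have hodd : oddGen P ≤ cl A P := by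
    rcases NO3b.K0.min_or hsyl hP.toIsMinPar hNP hPN with h1 | h1
    · exact h1
    · exfalso
      refine hA.off.ne ((le_inf hA.le (NO3b.EZero.le_cl A P)).trans (h1.trans ?_))
      rw [← h.zc_eq]
      exact Level.le_centralizer_zc _
  have hsup : cl A P ⊔ (S : Subgroup G) = P := le_antisymm (sup_le hNP hSP) (by
    conv_lhs => rw [← NO3b.EZero.oddGen_sup_syl hsyl]
    exact sup_le_sup_right hodd _)
  -- all `A^p` centralise `X`
  have hcent : ∀ p ∈ P, cj p A ≤ centralizer (X : Set G) := by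
    intro p hp
    have hp' : p⁻¹ ∈ (S : Subgroup G) ⊔ cl A P := by
      rw [sup_comm, hsup]; exact inv_mem hp
    have hSN : (S : Subgroup G) ≤ normalizer (cl A P : Set G) := hSP.trans hPN
    obtain ⟨s, hs, n, hn', e⟩ := MinSimple.FFBlock.mem_sup_of_le_normalizer hSN hp'
    have e' : p = n⁻¹ * s⁻¹ := by rw [← mul_inv_rev, ← e, inv_inv]
    have h2 : cj s⁻¹ A ≤ centralizer (X : Set G) := (hAZ _ (inv_mem hs)).trans (centralizer_le hX)
    have h3 := cj_mono n⁻¹ h2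
    rw [cj_cj, cj_centralizer, cj_eq_of_mem_normalizer (hNX (inv_mem hn')), ← e'] at h3
    exact h3
  obtain ⟨Y, hYP, _, hY0, _⟩ := hr.gen A hA
  rw [← le_bot_iff, ← hY0]
  refine le_inf hXL (le_iInf fun x => le_iInf fun hx => ?_)
  rw [le_centralizer_iff]
  exact hcent x (hYP x hx)

/-- **THEOREM QW, (6).** `F` active (`W_F ≤ S`, `W_F ≰ O₂(P)`), `V_P ≤ V₀ ≤ V`, `P ≤ N(V₀)`, `V₀ ≤ E_F`; all `W_F^s`, `s ∈ S`,
and all `A_F^p`, `p ∈ P`, `A_F = C_{W_F}(V_P)`, centralise `⟨Z_J^Y⟩ ≤ V₀`: then `Y` normalises `Z_J`. -/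
theorem six {T Y V : Subgroup G} (h : WQ S P T Y) (hV : Md S P Y V) {V₀ : Subgroup G}
    (L0 : zl (S : Subgroup G) P ≤ V₀) (P0 : P ≤ normalizer (V₀ : Set G)) (V0 : V₀ ≤ V)
    (hU : cl (ZJ (S : Subgroup G) P) Y ≤ V₀) {F : Subgroup G} (hF : ActW S P V F) (hE : V₀ ≤ NOne.Flat.EE V F)
    (hex : (centralizer (zl (S : Subgroup G) P : Set G)).relIndex (NOne.Flat.WW V F) ≤
      (centralizer (NOne.Flat.WW V F : Set G)).relIndex (zl (S : Subgroup G) P))
    (hc1 : ∀ s ∈ (S : Subgroup G), cl (ZJ (S : Subgroup G) P) Y ≤ centralizer ((cj s (NOne.Flat.WW V F) : Subgroup G) : Set G))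
    (hc2 : ∀ p ∈ P, cl (ZJ (S : Subgroup G) P) Y ≤ centralizer
      ((cj p (NOne.Flat.WW V F ⊓ centralizer (zl (S : Subgroup G) P : Set G)) : Subgroup G) : Set G)) :
    Y ≤ normalizer (ZJ (S : Subgroup G) P : Set G) := by
  by_contra hnY
  have hP := h.parP
  have hSP : (S : Subgroup G) ≤ P := hP.le
  have hPL : P ≤ normalizer (zl (S : Subgroup G) P : Set G) := ZN.le_normalizer_zl _ _
  have SL : (S : Subgroup G) ≤ normalizer (zl (S : Subgroup G) P : Set G) := hSP.trans hPL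
  have hoffP : ∃ A : Subgroup G, A ≤ P ∧ OffM (zl (S : Subgroup G) P) A := by
    obtain ⟨A, hAS, hA⟩ := h.cl.ff P h.cl.pss
    exact ⟨A, hAS.trans hSP, hA⟩
  have hr := CaseL.rp h.cl
  have hr2 : RP2 (S : Subgroup G) P := rp2 h.cl
  set L := zl (S : Subgroup G) P with hL
  set R := ZJ (S : Subgroup G) P with hR
  set U := cl R Y with hUd
  set W := NOne.Flat.WW V F with hW
  have hVc : V ≤ centralizer (V : Set G) := h.Vc hV
  have Lc : ∀ x ∈ L, ∀ y ∈ L, x * y = y * x := fun x hx y hy =>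
    mem_centralizer_iff.1 (hVc (V0 (L0 hy))) x (V0 (L0 hx))
  have RL : R ≤ L := ZJ_le h.cl
  -- the minimal offender
  have hWoff : OffM L W := offW hF.hyp (h.L_le_E hV hF.hyp hF.WS) (h.W_mv hF.WS hF.mv)
  obtain ⟨A, hAW, hA⟩ := NOThreeL.FFB.exists_minOff (S := (S : Subgroup G)) hF.WS hWoff
  have hWB : W ≤ BB (S : Subgroup G) P := h.W_B hV hF.hyp hF.WS
  -- `S` normalises `R`
  have SR : (S : Subgroup G) ≤ normalizer (R : Set G) := S_norm_ZJ h.cl
  have hAZ : ∀ s ∈ (S : Subgroup G), cj s A ≤ centralizer (R : Set G) := by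
    intro s hs
    have h1 : A ≤ centralizer (R : Set G) := hAW.trans (hWB.trans inf_le_right)
    have h2 := cj_mono s h1
    rwa [cj_centralizer, cj_eq_of_mem_normalizer (SR hs)] at h2
  -- `U ∩ L ≤ R`
  have hUL : U ⊓ L ≤ R := by
    rintro x ⟨hxU, hxL⟩
    refine mem_ZJ_of h.cl hr hr2 SL hA hxL fun s hs => ?_
    exact centralizer_le (cj_mono s hAW) (hc1 s hs hxU)
  -- the vector `u`
  have hRU : R ≤ U := NO3b.EZero.le_cl _ _
  have hUne : ¬ U ≤ R := by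
    intro h1
    refine hnY fun y hy => mem_normalizer_of_cj_le ((NO3b.EZero.cj_le_cl hy).trans h1)
  have hUT : U ≤ T := (hU.trans (V0.trans hV.le)).trans ((ZN.zc_le _).trans h.DX_T)
  have hTU : T ≤ normalizer (U : Set G) := fun t ht =>
    mem_normalizer_iff_cj.2 (NO3b.EZero.cj_cl (h.T_Y ht))
  obtain ⟨u, huU, huR, hut⟩ := NOThreeL.FFB.exists_fix_mod h.T2 hUT hTU (h.TS.trans SR) hUne
  have huV0 : u ∈ V₀ := hU huU
  have Rc : ∀ r ∈ R, u * r = r * u := fun r hr' =>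
    mem_centralizer_iff.1 (hVc (V0 (L0 (RL hr')))) u (V0 huV0)
  have hut' : ∀ t ∈ T, u⁻¹ * (t * u * t⁻¹) ∈ R := by
    intro t ht
    have h1 := hut t ht
    have h2 := Rc _ h1
    have e : u⁻¹ * (t * u * t⁻¹) = t * u * t⁻¹ * u⁻¹ := by
      calc u⁻¹ * (t * u * t⁻¹) = u⁻¹ * ((t * u * t⁻¹ * u⁻¹) * u) := by group
        _ = u⁻¹ * (u * (t * u * t⁻¹ * u⁻¹)) := by rw [h2]
        _ = _ := by group
    rw [e]; exact h1
  -- `[u, W^p] ≤ L`
  have hfix : ∀ p ∈ P, cj p W ≤ Fx L u := by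
    intro p hp g hg
    obtain ⟨w, hw, rfl⟩ := hg
    have hgL : p * w * p⁻¹ ∈ normalizer (L : Set G) := by
      refine hPL (mul_mem (mul_mem hp (hSP (hF.WS hw))) (inv_mem hp))
    refine ⟨hgL, ?_⟩
    change u⁻¹ * ((p * w * p⁻¹) * u * (p * w * p⁻¹)⁻¹) ∈ L
    -- `u' = u^p`
    have hu'V0 : p⁻¹ * u * p ∈ V₀ := by
      have h1 := (mem_normalizer_iff.1 (P0 (inv_mem hp)) u).1 huV0
      rwa [inv_inv] at h1
    have hu'A : p⁻¹ * u * p ∈ centralizer ((W ⊓ centralizer (L : Set G) : Subgroup G) : Set G) := by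
      have h1 := hc2 p hp huU
      rw [← cj_centralizer] at h1
      exact mem_cj.1 h1
    have hu' : p⁻¹ * u * p ∈ L ⊔ F := by
      rw [← cent_AF hF.hyp (h.L_le_E hV hF.hyp hF.WS) hex]
      exact ⟨hE hu'V0, hu'A⟩
    have hFV : F ≤ V := hF.hyp.F_le_V
    obtain ⟨l, hl, f, hf, e⟩ := CaseLW.mem_sup_comm (fun x hx y hy =>
      (mem_centralizer_iff.1 (hVc (V0 (L0 hx))) y (hFV hy)).symm) hu'
    have hwf : w * f = f * w :=
      (mem_centralizer_iff.1 (NOne.Flat.Hyp.W_le_X hw) f hf).symm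
    have hwl : w * l * w⁻¹ ∈ L := (mem_normalizer_iff.1 (SL (hF.WS hw)) l).1 hl
    have hlf : l⁻¹ * (w * l * w⁻¹) * f = f * (l⁻¹ * (w * l * w⁻¹)) :=
      (mem_centralizer_iff.1 (hVc (V0 (L0 (mul_mem (inv_mem hl) hwl)))) f (hFV hf)).symm
    have e1 : u = p * (l * f) * p⁻¹ := by rw [← e]; group
    have e2 : u⁻¹ * ((p * w * p⁻¹) * u * (p * w * p⁻¹)⁻¹) = p * (l⁻¹ * (w * l * w⁻¹)) * p⁻¹ := by
      rw [e1]
      calc (p * (l * f) * p⁻¹)⁻¹ * ((p * w * p⁻¹) * (p * (l * f) * p⁻¹) * (p * w * p⁻¹)⁻¹)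
          = p * (f⁻¹ * (l⁻¹ * (w * l * w⁻¹) * (w * f * w⁻¹))) * p⁻¹ := by group
        _ = p * (f⁻¹ * (l⁻¹ * (w * l * w⁻¹) * f)) * p⁻¹ := by rw [hwf, mul_inv_cancel_right]
        _ = p * (f⁻¹ * (f * (l⁻¹ * (w * l * w⁻¹)))) * p⁻¹ := by rw [hlf]
        _ = _ := by group
    rw [e2]
    exact (mem_normalizer_iff.1 (hPL hp) _).1 (mul_mem (inv_mem hl) hwl)
  -- `Γ = ⟨W^P⟩`
  have hΓ : cl W P ≤ Fx L u := cl_le hfix
  have hΓP : cl W P ≤ P := cl_le fun p hp => by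
    have h1 := cj_mono p (hF.WS.trans hSP)
    rwa [cj_eq_of_mem_normalizer (le_normalizer hp)] at h1
  have hLQ : L ≤ centralizer (o2 P : Set G) := by
    rw [hL, ← h.cl.zc_eq, le_centralizer_iff]
    exact Level.le_centralizer_zc _
  have hcom := comm_of_gamma (Q := o2 P) (L := L) (R := R) (Γ := cl W P) (u := u) RL Lc
    (fun q hq l hl => mem_centralizer_iff.1 (hLQ hl) q hq) (fun q hq => hut' q (h.QT hq))
    (hΓP.trans (ChoiceSit.le_normalizer_o2 P)) (fun g hg => (hΓ hg).2)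
    (fun X hX hXn => bot_of_inv h.cl hr hA hAZ hX fun p hp => by
      refine le_trans ?_ hXn
      exact (cj_mono p hAW).trans (NO3b.EZero.cj_le_cl hp))
  -- `u ∈ C_V(Q) = L`
  have huL : u ∈ L := by
    rw [hL, ← h.cvQ]
    exact ⟨hV.le (V0 huV0), mem_centralizer_iff.2 hcom⟩
  exact huR (hUL ⟨huU, huL⟩)

end rp

end Cfsg.Agent.Omega.NO3S.CaseLW.QWe

end

section


/-!
# THEOREM QW without `M` (helper216, OMEGA #26400), step (C)

`WQ S P T Y`, `B ≤ T`, `Y ≤ C_G(Z)`, `L = V_P`, `U = ⟨L^Y⟩`, `V = ⟨Z^GX⟩`, `F` active (`W_F ≤ S`, `W_F ≰ O₂(P)`).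
If `U ≤ E_(F^p)` for all `p ∈ P` (step (B)), then **(neg)** is false: `V₀ := ⋂ E_(F^p)`, `A_F^p` is exact on `U`, and
`QWe.six` gives `Y ≤ N(Z_J)`.

* `AF_ex_of` : `A_F^p` is `Ex`, if `U ≤ E_(F^p)`;
* `le_norm_of` : **(C)** under (neg);
* `exists_best_free_of` : the form for the plug.
-/

set_option autoImplicit false
set_option linter.unusedSectionVars false
set_option linter.dupNamespace false

namespace Cfsg.Agent.Omega.NO3S.CaseLW.QWf

open Subgroup Cfsg Cfsg.Agent.ZN Cfsg.Agent.ZN.ChoiceBase Cfsg.Agent.Omega.MinPar Cfsg.Agent.Omega.Frame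
open Cfsg.Agent.Omega.FrameNOFF (CZ)
open Cfsg.Agent.Omega.NO3b.EZero (cl cl_le le_cl cj_le_cl)
open Cfsg.Agent.Omega.NO3S.Level
open Cfsg.Agent.Omega.NO3S.RedC
open Cfsg.Agent.Omega.NO3S.WY
open Cfsg.Agent.Omega.NO3S.CaseLW.QWc
open Cfsg.Agent.Omega.NO1.BestOff (Best)
open Cfsg.Agent.Omega.FFThm (OffM ElemM)
open Cfsg.Agent.Omega.NOThreeL.VF (le_fM_iff elemM_mono)
open scoped Pointwise

universe u

variable {G : Type u} [Group G] [Finite G] {S : Sylow 2 G} {P T Y V F : Subgroup G}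

/-- **(5)** : `A_F^p` is exact on `U` if `U ≤ E_(F^p)`. -/
theorem AF_ex_of (h : WQ S P T Y) (hV : Md S P Y V) (hF : NOne.Flat.Hyp V F)
    (hW : NOne.Flat.WW V F ≤ (S : Subgroup G)) {p : G} (hp : p ∈ P)
    (hU : cl (zl (S : Subgroup G) P) Y ≤ NOne.Flat.EE V (MulAut.conj p • F)) :
    Ex T (cl (zl (S : Subgroup G) P) Y)
      (cj p (NOne.Flat.WW V F ⊓ centralizer (zl (S : Subgroup G) P : Set G))) := by
  have hPV := PV h hV hp
  have hQ : cj p (NOne.Flat.WW V F ⊓ centralizer (zl (S : Subgroup G) P : Set G)) ≤ o2 P := by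
    have h1 : NOne.Flat.WW V F ⊓ centralizer (zl (S : Subgroup G) P : Set G) ≤ o2 P := by
      rw [← h.parP.inf_centralizer S h.hG]
      exact inf_le_inf_right _ hW
    have h2 := cj_mono p h1
    rwa [cj_eq_of_mem_normalizer (ZN.le_normalizer_o2 _ hp)] at h2
  refine ⟨hQ.trans h.QT, ?_, ?_⟩
  · rw [cj_AF h hV hp]
    exact elemM_mono (elemW (hyp_cj hF hPV) (hU.trans inf_le_left)) inf_le_left
  · rw [cj_AF h hV hp, le_fM_iff]
    exact WY.best_AF (hyp_cj hF hPV) (le_cl _ _) hU (hex_cj h hV hF hW hp)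

/-- **(C)** : `Y ≤ N(Z_J)` under (neg), if `U ≤ E_(F^p)` for all `p ∈ P`. -/
theorem le_norm_of (h : WQ S P T Y) (BT : BB (S : Subgroup G) P ≤ T) (hY : Y ≤ CZ (S : Subgroup G))
    (neg : Neg T Y (cl (zl (S : Subgroup G) P) Y)) (hV : Md S P Y V) (hF : ActW S P V F)
    (hB : ∀ p ∈ P, cl (zl (S : Subgroup G) P) Y ≤ NOne.Flat.EE V (MulAut.conj p • F)) :
    Y ≤ normalizer (ZJ (S : Subgroup G) P : Set G) := by
  set V₀ : Subgroup G := ⨅ p : P, NOne.Flat.EE V (MulAut.conj (p : G) • F) with hV₀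
  have h0 : ∀ p ∈ P, V₀ ≤ NOne.Flat.EE V (MulAut.conj p • F) := fun p hp =>
    iInf_le (fun p : P => NOne.Flat.EE V (MulAut.conj (p : G) • F)) ⟨p, hp⟩
  have h1 : V₀ ≤ NOne.Flat.EE V F := by
    have h2 := h0 1 P.one_mem
    rwa [map_one, one_smul] at h2
  have hUZ : cl (ZJ (S : Subgroup G) P) Y ≤ cl (zl (S : Subgroup G) P) Y :=
    cl_le fun y hy => (cj_mono y (ZJ_le h.cl)).trans (cj_le_cl hy)
  refine QWe.six h hV (V₀ := V₀) ?_ ?_ (h1.trans inf_le_left) ?_ hF h1 (QWc.hex h hV hF.hyp hF.WS) ?_ ?_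
  · exact le_iInf fun p => L_le_E_cj h hV hF.hyp hF.WS p.2
  · intro q hq
    refine mem_normalizer_of_cj_le (le_iInf fun p => ?_)
    have h3 : q⁻¹ * (p : G) ∈ P := P.mul_mem (P.inv_mem hq) p.2
    have h4 := cj_mono q (h0 _ h3)
    have h5 : cj q (NOne.Flat.EE V (MulAut.conj (q⁻¹ * (p : G)) • F)) = NOne.Flat.EE V (MulAut.conj (p : G) • F) := by
      have h6 := NOne.Flat.EE_conj (F := MulAut.conj (q⁻¹ * (p : G)) • F) (PV h hV hq)
      rw [smul_smul, ← map_mul, mul_inv_cancel_left] at h6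
      exact h6
    rwa [h5] at h4
  · exact hUZ.trans (le_iInf fun p => hB p p.2)
  · intro s hs
    have hsV : s ∈ normalizer (V : Set G) := hV.norm (h.S_le hs)
    have hWs : NOne.Flat.WW V (MulAut.conj s • F) ≤ (S : Subgroup G) := by
      rw [WW_cj hsV]
      have h3 := cj_mono s hF.WS
      rwa [cj_eq_of_mem_normalizer (le_normalizer hs)] at h3
    rw [← WW_cj hsV, le_centralizer_iff]
    exact Ex.cent_ZJ h neg (W_ex h BT hY hV (hyp_cj hF.hyp hsV) hWs)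
  · intro p hp
    rw [le_centralizer_iff]
    exact Ex.cent_ZJ h neg (AF_ex_of h hV hF.hyp hF.WS hp (hB p hp))

/-- **(C)**, the form for the plug: step (B) may be proved under (neg), for one active `F`. -/
theorem exists_best_free_of (h : WQ S P T Y) (BT : BB (S : Subgroup G) P ≤ T) (hY : Y ≤ CZ (S : Subgroup G))
    (hYZ : ¬ Y ≤ normalizer (ZJ (S : Subgroup G) P : Set G))
    (hB : Neg T Y (cl (zl (S : Subgroup G) P) Y) →
      ∀ F, ActW S P (zl (S : Subgroup G) (GX (S : Subgroup G) P Y)) F → ∀ p ∈ P,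
        cl (zl (S : Subgroup G) P) Y ≤
          NOne.Flat.EE (zl (S : Subgroup G) (GX (S : Subgroup G) P Y)) (MulAut.conj p • F)) :
    ∃ A ≤ T, Best (cl (zl (S : Subgroup G) P) Y) A ∧ ¬ A ≤ centralizer (cl (zl (S : Subgroup G) P) Y : Set G) ∧
      ¬ A ≤ o2 Y := by
  by_contra hcon
  have neg : Neg T Y (cl (zl (S : Subgroup G) P) Y) := Neg.of_best fun A hA hb hne => by
    by_contra hY'
    exact hcon ⟨A, hA, hb, hne, hY'⟩
  obtain ⟨-, F, hF⟩ := exists_act h BT hY neg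
  exact hYZ (le_norm_of h BT hY neg h.md_zl hF (hB neg F hF))

end Cfsg.Agent.Omega.NO3S.CaseLW.QWf

end

end
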